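/-
A group between the monomial group of an orthogonal frame and `omegaGL` in which every sign change has monomial
centraliser is monomial.

A sign change on two lines and one on four lines are not conjugate, so their conjugates have a product of even
order; the central involution of the dihedral group is monomial, and a conjugate of a sign change which is
monomial is a sign change, because an abelian group of exponent two permutes `n` points with at most `2 ^ (n / 2)`
permutations.
-/
import Cfsg.Agent.Lib.MaxCl.Mono.Frame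

set_option autoImplicit false
set_option linter.unusedSectionVars false

namespace Cfsg.Agent.MaxCl.Mono

open scoped MatrixGroups Matrix
open Module (finrank)
open Orth

variable {ι : Type} [Fintype ι] [DecidableEq ι] {F : Type*} [Field F] {Q : QuadraticForm F (ι → F)} {n : ℕ}
  {e : Fin n → ι → F} {c : F}

set_option quotPrecheck false in
local notation "B" => QuadraticMap.polar (⇑Q)

/-- An abelian group of permutations of exponent two is small. -/
theorem sq_card_le_two_pow {α : Type*} [Fintype α] (P : Subgroup (Equiv.Perm α))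
    (hcomm : ∀ x ∈ P, ∀ y ∈ P, x * y = y * x) (hexp : ∀ x ∈ P, x * x = 1) :
    Nat.card P ^ 2 ≤ 2 ^ Fintype.card α := by
  classical
  let Ω := MulAction.orbitRel.Quotient P α
  letI : Fintype Ω := Fintype.ofFinite _
  have hinj : Function.Injective fun (π : P) (o : Ω) => (⟨π • o.out, MulAction.mem_orbit _ _⟩ :
      MulAction.orbit P o.out) := by
    intro π π' h
    refine Subtype.ext (Equiv.ext fun a => ?_)
    obtain ⟨τ, hτ⟩ : a ∈ MulAction.orbit P (Quotient.mk'' a : Ω).out :=
      MulAction.mem_orbit_symm.1 (MulAction.orbitRel_apply.1 (Quotient.mk_out' a))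
    have h' := congrArg Subtype.val (congrFun h (Quotient.mk'' a))
    set r := (Quotient.mk'' a : Ω).out
    change (π : Equiv.Perm α) r = (π' : Equiv.Perm α) r at h'
    change (τ : Equiv.Perm α) r = a at hτ
    rw [← hτ, ← Equiv.Perm.mul_apply, ← Equiv.Perm.mul_apply, hcomm _ π.2 _ τ.2, hcomm _ π'.2 _ τ.2,
      Equiv.Perm.mul_apply, Equiv.Perm.mul_apply, h']
  have h1 := Nat.card_le_card_of_injective _ hinj
  rw [Nat.card_pi] at h1
  have h2 : ∀ o : Ω, Nat.card (MulAction.orbit P o.out) ^ 2 ≤ 2 ^ Nat.card (MulAction.orbit P o.out) := by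
    intro o
    have hP : IsPGroup 2 P := fun x => ⟨1, by rw [pow_one, pow_two]; exact Subtype.ext (hexp _ x.2)⟩
    obtain ⟨k, hk⟩ := hP.card_orbit o.out
    rw [hk, ← pow_mul]
    refine Nat.pow_le_pow_right (by norm_num) ?_
    clear hk
    induction k with
    | zero => norm_num
    | succ k ih =>
      rcases Nat.eq_zero_or_pos k with rfl | hk
      · norm_num
      · have : 2 ≤ 2 ^ k := Nat.le_self_pow (by omega) 2
        rw [pow_succ]; omega
  calc Nat.card P ^ 2 ≤ (∏ o : Ω, Nat.card (MulAction.orbit P o.out)) ^ 2 := Nat.pow_le_pow_left h1 2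
    _ = ∏ o : Ω, Nat.card (MulAction.orbit P o.out) ^ 2 := (Finset.prod_pow _ _ _).symm
    _ ≤ ∏ o : Ω, 2 ^ Nat.card (MulAction.orbit P o.out) := Finset.prod_le_prod' fun o _ => h2 o
    _ = 2 ^ ∑ o : Ω, Nat.card (MulAction.orbit P o.out) := Finset.prod_pow_eq_pow_sum _ _ _
    _ = 2 ^ Fintype.card α := by
      rw [← Nat.card_eq_fintype_card, Nat.card_congr (MulAction.selfEquivSigmaOrbits P α), Nat.card_sigma]

/-- `omegaGL` is normal in the isometry group. -/
theorem omega_normal [Finite F] (hE : Frame Q e c) (hn5 : 5 ≤ n) {r g : GL ι F} (hr : r ∈ isometryGroup F Q)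
    (hg : g ∈ Cfsg.Geo.omegaGL Q) : r * g * r⁻¹ ∈ Cfsg.Geo.omegaGL Q := by
  have hn5' : 5 ≤ Fintype.card ι := by rw [hE.card]; exact hn5
  rw [omega_eq_sgGroup hE.nondegenerate hn5'] at hg ⊢
  exact conj_mem_sgGroup hr hg

/-- An even permutation carrying one set to another of the same size. -/
theorem exists_even_perm (hn : 4 ≤ n) (T S : Finset (Fin n)) (h : T.card = S.card) :
    ∃ σ : Equiv.Perm (Fin n), Equiv.Perm.sign σ = 1 ∧ T.map σ.toEmbedding = S := by
  classical
  obtain ⟨e₁⟩ : Nonempty (T ≃ S) := ⟨Finset.equivOfCardEq h⟩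
  let σ : Equiv.Perm (Fin n) := e₁.extendSubtype
  have hσ : T.map σ.toEmbedding = S := by
    refine Finset.eq_of_subset_of_card_le (fun x hx => ?_) (by rw [Finset.card_map, h])
    obtain ⟨i, hi, rfl⟩ := Finset.mem_map.1 hx
    exact Equiv.extendSubtype_mem e₁ i hi
  rcases Int.units_eq_one_or (Equiv.Perm.sign σ) with hs | hs
  · exact ⟨σ, hs, hσ⟩
  obtain ⟨a, b, hab, hiff⟩ : ∃ a b : Fin n, a ≠ b ∧ (a ∈ S ↔ b ∈ S) := by
    by_cases h2 : 2 ≤ S.card
    · obtain ⟨a, ha, b, hb, hab⟩ := Finset.one_lt_card.1 h2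
      exact ⟨a, b, hab, iff_of_true ha hb⟩
    · obtain ⟨a, ha, b, hb, hab⟩ := Finset.one_lt_card.1 (show 1 < Sᶜ.card by
        rw [Finset.card_compl, Fintype.card_fin]; omega)
      exact ⟨a, b, hab, iff_of_false (Finset.mem_compl.1 ha) (Finset.mem_compl.1 hb)⟩
  refine ⟨Equiv.swap a b * σ, by rw [map_mul, Equiv.Perm.sign_swap hab, hs]; rfl, ?_⟩
  rw [show T.map (Equiv.swap a b * σ).toEmbedding = S.map (Equiv.swap a b).toEmbedding by
    rw [← hσ, Finset.map_map]; rfl]
  ext x
  rw [Finset.mem_map_equiv, Equiv.symm_swap]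
  rcases eq_or_ne x a with rfl | hxa
  · rw [Equiv.swap_apply_left]; exact hiff.symm
  · rcases eq_or_ne x b with rfl | hxb
    · rw [Equiv.swap_apply_right]; exact hiff
    · rw [Equiv.swap_apply_of_ne_of_ne hxa hxb]

/-- The central involution of two non-conjugate involutions. -/
theorem exists_central {G : Type*} [Group G] [Finite G] (x y : G) (hx : x * x = 1) (hy : y * y = 1)
    (hne : ∀ w : G, w * x * w⁻¹ ≠ y) : ∃ z w : G, z ≠ 1 ∧ z * x = x * z ∧ z * y = y * z ∧
      (y * z = w * x * w⁻¹ ∨ y * z = w * y * w⁻¹) := by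
  have hxi : x⁻¹ = x := inv_eq_of_mul_eq_one_right hx
  have hyi : y⁻¹ = y := inv_eq_of_mul_eq_one_right hy
  set r := x * y with hr
  have hxr : x * r * x⁻¹ = r⁻¹ := by rw [hr, hxi, mul_inv_rev, hxi, hyi, ← mul_assoc, hx, one_mul]
  have hyr : y * r * y⁻¹ = r⁻¹ := by rw [hr, hyi, mul_inv_rev, hxi, hyi, mul_assoc, mul_assoc, hy, mul_one]
  have hpow : ∀ a : G, a * r * a⁻¹ = r⁻¹ → ∀ k : ℕ, a * r ^ k = (r ^ k)⁻¹ * a := fun a ha k => by
    rw [← inv_pow, ← ha, conj_pow]; group
  have hpos := orderOf_pos r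
  rcases Nat.even_or_odd (orderOf r) with ⟨j, hj⟩ | ⟨j, hj⟩
  · have hjj : r ^ j * r ^ j = 1 := by rw [← pow_add, ← hj, pow_orderOf_eq_one]
    have hinv : (r ^ j)⁻¹ = r ^ j := inv_eq_of_mul_eq_one_right hjj
    have hz1 : r ^ j ≠ 1 := fun h => by
      have := Nat.le_of_dvd (by omega) (orderOf_dvd_of_pow_eq_one h)
      omega
    have hzx : r ^ j * x = x * r ^ j := by rw [hpow x hxr j, hinv]
    have hzy : r ^ j * y = y * r ^ j := by rw [hpow y hyr j, hinv]
    rcases Nat.even_or_odd j with ⟨k, hk⟩ | ⟨k, hk⟩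
    · refine ⟨r ^ j, (r ^ k)⁻¹, hz1, hzx, hzy, Or.inr ?_⟩
      rw [inv_inv, hk, pow_add, ← mul_assoc, hpow y hyr k]
    · refine ⟨r ^ j, (r ^ k)⁻¹ * y, hz1, hzx, hzy, Or.inl ?_⟩
      rw [mul_inv_rev, inv_inv, hyi, mul_assoc ((r ^ k)⁻¹ * y), ← mul_assoc x, ← hr,
        ← pow_succ', hk, two_mul, add_assoc, pow_add, ← mul_assoc, hpow y hyr k]
  · exfalso
    refine hne (r ^ j) ?_
    have h1 : r ^ j * r ^ (j + 1) = 1 := by rw [← pow_add, show j + (j + 1) = orderOf r by omega, pow_orderOf_eq_one]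
    rw [mul_assoc, ← inv_pow, show (r⁻¹) ^ j = r ^ (j + 1) by rw [inv_pow]; exact inv_eq_of_mul_eq_one_right h1,
      hpow x hxr (j + 1), ← mul_assoc,
      show (r ^ (j + 1))⁻¹ = r ^ j from inv_eq_of_mul_eq_one_left h1, ← pow_add,
      show r ^ (j + j) = r⁻¹ from eq_inv_of_mul_eq_one_left (by
        rw [← pow_succ, show j + j + 1 = orderOf r by omega, pow_orderOf_eq_one]),
      hr, mul_inv_rev, hxi, hyi, mul_assoc, hx, mul_one]

variable (hE : Frame Q e c)
include hE

/-- The permutation of the frame lines is determined by the map. -/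
theorem perm_unique {g : GL ι F} {σ τ : Equiv.Perm (Fin n)} (h1 : ∀ i, ∃ s : F, s ≠ 0 ∧ act g (e i) = s • e (σ i))
    (h2 : ∀ i, ∃ s : F, s ≠ 0 ∧ act g (e i) = s • e (τ i)) : σ = τ := by
  ext i
  obtain ⟨s, hs, e1⟩ := h1 i
  obtain ⟨t, -, e2⟩ := h2 i
  rw [e1] at e2
  rw [(hE.eq_smul e2 hs).1]

variable [Finite F] (hn5 : 5 ≤ n)

/-- An isometry fixing every frame line is a sign change. -/
theorem exists_flip_of_perm_one {g : GL ι F} (hg : g ∈ isometryGroup F Q) {σ : Equiv.Perm (Fin n)}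
    (hσ : ∀ i, ∃ s : F, s ≠ 0 ∧ act g (e i) = s • e (σ i)) (h1 : σ = 1) :
    ∃ U : Finset (Fin n), g = flip hE hn5 U := by
  classical
  subst h1
  refine ⟨Finset.univ.filter fun i => act g (e i) = -e i, hE.gl_ext fun i => ?_⟩
  rw [act_flip]
  obtain ⟨s, -, hs⟩ := hσ i
  rw [Equiv.Perm.one_apply] at hs
  split_ifs with h
  · exact (Finset.mem_filter.1 h).2
  · rcases sign_of_iso hE hg hs with rfl | rfl
    · rw [hs, one_smul]
    · exact absurd (Finset.mem_filter.2 ⟨Finset.mem_univ _, by rw [hs, neg_one_smul]⟩) h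

/-- Conjugate sign changes have the same size. -/
theorem card_le_of_conj {g : GL ι F} {S T : Finset (Fin n)} (h : g * flip hE hn5 S * g⁻¹ = flip hE hn5 T) :
    S.card ≤ T.card := by
  classical
  have hmem : ∀ i : S, act g (e i) ∈ Submodule.span F (Set.range fun j : T => e j) := by
    rintro ⟨i, hi⟩
    have h' : act (flip hE hn5 T) (act g (e i)) = -act g (e i) := by
      rw [← h, act_mul, act_mul, act_inv_act, act_flip, if_pos hi, map_neg]
    rw [flip_negated] at h'
    rw [← hE.repr (act g (e i))]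
    refine Submodule.sum_mem _ fun j _ => ?_
    by_cases hj : j ∈ T
    · exact Submodule.smul_mem _ _ (Submodule.subset_span ⟨⟨j, hj⟩, rfl⟩)
    · rw [h' j hj, zero_smul]; exact zero_mem _
  have hli : LinearIndependent F fun i : S => act g (e i) :=
    (hE.indep.comp _ Subtype.val_injective).map' (act g) (LinearMap.ker_eq_bot.2 (act_injective g))
  have h1 := linearIndependent_le_span_aux' _ hli (Set.range fun j : T => e j) (by
    rintro _ ⟨i, rfl⟩; exact hmem i)
  rw [Fintype.card_coe] at h1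
  refine h1.trans ?_
  exact (Fintype.card_range_le _).trans_eq (Fintype.card_coe T)

theorem card_eq_of_conj {g : GL ι F} {S T : Finset (Fin n)} (h : g * flip hE hn5 S * g⁻¹ = flip hE hn5 T) :
    S.card = T.card :=
  le_antisymm (card_le_of_conj hE hn5 h) (card_le_of_conj hE hn5 (g := g⁻¹) (by rw [← h]; group))

/-- Monomial maps realising every permutation, in `omegaGL` for the even ones. -/
theorem exists_perm_map (σ : Equiv.Perm (Fin n)) :
    ∃ g ∈ isometryGroup F Q, (∀ i, act g (e i) = e (σ i)) ∧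
      (Equiv.Perm.sign σ = 1 → g ∈ Cfsg.Geo.omegaGL Q) ∧
      (Equiv.Perm.sign σ = -1 → g * refl Q (e ⟨0, by omega⟩ - e ⟨1, by omega⟩) ∈ Cfsg.Geo.omegaGL Q) := by
  classical
  have h01 : (⟨0, by omega⟩ : Fin n) ≠ ⟨1, by omega⟩ := by simp
  induction σ using Equiv.Perm.swap_induction_on with
  | one => exact ⟨1, one_mem _, fun i => by rw [act_one]; rfl, fun _ => one_mem _, fun h => by simp at h⟩
  | swap_mul f x y hxy ih =>
    obtain ⟨g, hg, hact, hev, hodd⟩ := ih
    refine ⟨refl Q (e x - e y) * g, mul_mem (refl_mem_iso Q _) hg, fun i => ?_, fun h => ?_, fun h => ?_⟩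
    · rw [act_mul, hact, act_swap hE hxy]; rfl
    · rw [map_mul, Equiv.Perm.sign_swap hxy, neg_one_mul, neg_eq_iff_eq_neg] at h
      have hm := mul_mem (swap_pair_mem_omega hE hn5 hxy h01) (mul_mem (swap_pair_mem_omega hE hn5 h01 hxy)
        (swap_pair_mem_omega hE hn5 hxy h01))
      have h' := hodd h
      -- `r g` is `(r r₀) (r₀ g)`; conjugate `g r₀` by `r₀`
      have hI : refl Q (e ⟨0, by omega⟩ - e ⟨1, by omega⟩) * g ∈ Cfsg.Geo.omegaGL Q := by
        have := omega_normal hE hn5 (refl_mem_iso Q (e ⟨0, by omega⟩ - e ⟨1, by omega⟩)) h'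
        rwa [refl_inv, ← mul_assoc, mul_assoc (refl Q _ * g), refl_mul_self, mul_one] at this
      have := mul_mem (swap_pair_mem_omega hE hn5 hxy h01) hI
      rwa [mul_assoc, ← mul_assoc (refl Q _) (refl Q _) g, refl_mul_self, one_mul] at this
    · rw [map_mul, Equiv.Perm.sign_swap hxy, neg_one_mul, neg_inj] at h
      have h1 := swap_pair_mem_omega hE hn5 hxy h01
      have h2 := omega_normal hE hn5 (refl_mem_iso Q (e ⟨0, by omega⟩ - e ⟨1, by omega⟩)) (hev h)
      have := mul_mem h1 h2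
      rwa [refl_inv, ← mul_assoc, ← mul_assoc, mul_assoc (refl Q (e x - e y)), refl_mul_self, mul_one] at this

variable {M : Subgroup (GL ι F)} (hM : monoGroup e ⊓ Cfsg.Geo.omegaGL Q ≤ M)
  (hMΩ : M ≤ Cfsg.Geo.omegaGL Q)
  (hstab : ∀ S : Finset (Fin n), S.Nonempty → S ≠ Finset.univ → ∀ g ∈ M,
    g * flip hE hn5 S * g⁻¹ = flip hE hn5 S → g ∈ monoGroup e)
include hM hMΩ hstab

omit hMΩ hstab in
theorem flip_mem {S : Finset (Fin n)} (h : Even S.card) : flip hE hn5 S ∈ M :=
  hM ⟨flip_mem_mono hE hn5 S, flip_mem_omega hE hn5 h⟩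

omit hMΩ in
/-- An element carrying a sign change to a sign change is monomial. -/
theorem mono_of_conj {g : GL ι F} (hg : g ∈ M) {S T : Finset (Fin n)} (hS : S.Nonempty) (hS' : S ≠ Finset.univ)
    (h : g * flip hE hn5 S * g⁻¹ = flip hE hn5 T) : g ∈ monoGroup e := by
  classical
  have hcard := card_eq_of_conj hE hn5 h
  obtain ⟨σ, hσ⟩ := exists_even_perm (n := n) (by omega) T S hcard.symm
  obtain ⟨k, hk, hact, hev, -⟩ := exists_perm_map hE hn5 σ
  have hkσ : ∀ i, ∃ s : F, s ≠ 0 ∧ act k (e i) = s • e (σ i) :=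
    fun i => ⟨1, one_ne_zero, by rw [hact, one_smul]⟩
  have hkm : k ∈ monoGroup e := ⟨σ, hkσ⟩
  have hkg : k * g * flip hE hn5 S * (k * g)⁻¹ = flip hE hn5 S := by
    rw [show k * g * flip hE hn5 S * (k * g)⁻¹ = k * (g * flip hE hn5 S * g⁻¹) * k⁻¹ by group, h,
      conj_flip hE hn5 hkσ, hσ.2]
  have := hstab S hS hS' _ (mul_mem (hM ⟨hkm, hev hσ.1⟩) hg) hkg
  simpa using mul_mem (inv_mem hkm) this

/-- A monomial conjugate of a sign change on two lines is a sign change. -/
theorem diag_of_conj_pair (hn : 9 ≤ n) {g : GL ι F} (hg : g ∈ M) {a b : Fin n} (hab : a ≠ b)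
    (hz : g * flip hE hn5 {a, b} * g⁻¹ ∈ monoGroup e) : g ∈ monoGroup e := by
  classical
  by_contra hgm
  set t := flip hE hn5 {a, b} with ht
  set z := g * t * g⁻¹ with hzdef
  have htI : t ∈ isometryGroup F Q := flip_mem_iso hE hn5 _
  have hgI : g ∈ isometryGroup F Q := omega_le_iso (hMΩ hg)
  have hzI : z ∈ isometryGroup F Q := mul_mem (mul_mem hgI htI) (inv_mem hgI)
  obtain ⟨σ, hσ⟩ := hz
  have hzz : z * z = 1 := by
    rw [hzdef, show g * t * g⁻¹ * (g * t * g⁻¹) = g * (t * t) * g⁻¹ by group, ht, flip_mul_self, mul_one,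
      mul_inv_cancel]
  have hσσ : ∀ i, σ (σ i) = i := by
    intro i
    obtain ⟨s, hs, e1⟩ := hσ i
    obtain ⟨s', hs', e2⟩ := hσ (σ i)
    have := congrArg (fun w => act w (e i)) hzz
    simp only [act_mul, act_one, e1, map_smul, e2, smul_smul] at this
    exact (hE.eq_smul (t := 1) (by rw [one_smul]; exact this) (mul_ne_zero hs hs')).1
  -- at most two transpositions
  set L := Finset.univ.filter fun i => σ i < i with hL
  have hL2 : L.card ≤ 2 := by
    have hli : LinearIndependent F fun i : L => act z (e i) - e i := by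
      rw [Fintype.linearIndependent_iff]
      intro d hd i
      have hco := congrArg (fun v => co Q e c v i) hd
      simp only [co_zero] at hco
      have key : ∀ j : L, co Q e c (act z (e j) - e j) i = if j = i then -1 else 0 := by
        intro j
        obtain ⟨s, -, e1⟩ := hσ j
        have hne : (i : Fin n) ≠ σ j := fun h => by
          have h1 := (Finset.mem_filter.1 i.2).2
          have h2 := (Finset.mem_filter.1 j.2).2
          rw [h, hσσ] at h1
          omega
        rw [co_sub, e1, co_smul, hE.co_e, hE.co_e, if_neg hne, mul_zero, zero_sub]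
        by_cases hji : j = i
        · rw [if_pos hji, hji, if_pos rfl]
        · rw [if_neg hji, if_neg fun h => hji (Subtype.ext h.symm), neg_zero]
      have hsum : ∀ T : Finset L, co Q e c (∑ j ∈ T, d j • (act z (e j) - e j)) i =
          ∑ j ∈ T, d j * (if j = i then -1 else 0) := by
        intro T
        induction T using Finset.induction_on with
        | empty => simp [co_zero]
        | insert j T hj ih => rw [Finset.sum_insert hj, Finset.sum_insert hj, co_add, co_smul, ih, key]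
      rw [hsum] at hco
      simpa using hco
    have hsub : Set.range (fun i : L => act z (e i) - e i) ≤
        (Submodule.span F ({act g (e a), act g (e b)} : Set (ι → F)) : Set (ι → F)) := by
      rintro _ ⟨i, rfl⟩
      have hmem : act t (act g⁻¹ (e i)) - act g⁻¹ (e i) ∈ Submodule.span F ({e a, e b} : Set (ι → F)) := by
        rw [← hE.repr (act t (act g⁻¹ (e i)) - act g⁻¹ (e i))]
        refine Submodule.sum_mem _ fun j _ => ?_
        by_cases hj : j ∈ ({a, b} : Finset (Fin n))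
        · rw [Finset.mem_insert, Finset.mem_singleton] at hj
          exact Submodule.smul_mem _ _ (Submodule.subset_span (hj.imp (congrArg e) (congrArg e)))
        · rw [co_sub, ht, co_flip, if_neg hj, sub_self, zero_smul]; exact zero_mem _
      have := Submodule.mem_map_of_mem (f := act g) hmem
      rw [Submodule.map_span, Set.image_pair, map_sub, act_act_inv, ← act_mul, ← act_mul] at this
      exact this
    have h1 := linearIndependent_le_span_aux' _ hli _ hsub
    rw [Fintype.card_coe] at h1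
    refine h1.trans ((Set.toFinset_card _).symm.trans_le ?_)
    rw [Set.toFinset_insert, Set.toFinset_singleton]
    exact Finset.card_le_two
  -- many invariant even sets
  set R := Finset.univ.filter fun i => ¬ σ i < i with hR
  have hRn : L.card + R.card = n := by
    rw [hL, hR, Finset.card_filter_add_card_filter_not, Finset.card_univ, Fintype.card_fin]
  obtain ⟨r₀, hr₀⟩ : ∃ r, σ r = r := by
    by_contra h
    push Not at h
    have hsub : R ⊆ L.image σ := fun i hi => Finset.mem_image.2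
      ⟨σ i, Finset.mem_filter.2 ⟨Finset.mem_univ _, by
        rw [hσσ]; exact lt_of_le_of_ne (not_lt.1 (Finset.mem_filter.1 hi).2) (Ne.symm (h i))⟩, hσσ i⟩
    have := Finset.card_le_card hsub
    have := Finset.card_image_le (s := L) (f := σ)
    omega
  set 𝒳 := Finset.univ.filter fun X : Finset (Fin n) => Even X.card ∧ ∀ i, σ i ∈ X ↔ i ∈ X with h𝒳
  have hr₀R : r₀ ∈ R := Finset.mem_filter.2 ⟨Finset.mem_univ _, by rw [hr₀]; exact lt_irrefl _⟩
  have hbig : 2 ^ (R.card - 1) ≤ 𝒳.card := by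
    rw [← Finset.card_erase_of_mem hr₀R, ← Finset.card_powerset]
    let cl : Finset (Fin n) → Finset (Fin n) := fun Y => Y ∪ Y.image σ
    have hmemcl : ∀ Y i, i ∈ cl Y ↔ i ∈ Y ∨ σ i ∈ Y := fun Y i => by
      rw [Finset.mem_union, Finset.mem_image]
      exact or_congr_right ⟨fun ⟨j, hj, hji⟩ => by rwa [← hji, hσσ], fun h => ⟨_, h, hσσ i⟩⟩
    have hclr : ∀ Y ∈ (R.erase r₀).powerset, r₀ ∉ cl Y := fun Y hY h => by
      rw [hmemcl, hr₀, or_self] at h
      exact (Finset.mem_erase.1 (Finset.mem_powerset.1 hY h)).1 rfl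
    refine Finset.card_le_card_of_injOn (fun Y => if Even (cl Y).card then cl Y else insert r₀ (cl Y))
      (fun Y hY => ?_) fun Y hY Y' hY' h => ?_
    · rw [h𝒳, Finset.mem_coe, Finset.mem_filter]
      dsimp only
      refine ⟨Finset.mem_univ _, ?_, fun i => ?_⟩
      · split_ifs with h
        · exact h
        · rw [Finset.card_insert_of_notMem (hclr Y hY), Nat.even_add_one]; exact h
      · have hcl : σ i ∈ cl Y ↔ i ∈ cl Y := by rw [hmemcl, hmemcl, hσσ, or_comm]
        split_ifs with h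
        · exact hcl
        · rw [Finset.mem_insert, Finset.mem_insert, hcl]
          refine or_congr_left ⟨fun h => ?_, fun h => by rw [h, hr₀]⟩
          rw [← hσσ i, h, hr₀]
    · rw [Finset.mem_coe] at hY hY'
      have key : ∀ Y ∈ (R.erase r₀).powerset, ∀ i,
          i ∈ Y ↔ i ∈ R.erase r₀ ∧ i ∈ (if Even (cl Y).card then cl Y else insert r₀ (cl Y)) := by
        intro Y hY i
        have hYR := Finset.mem_powerset.1 hY
        constructor
        · intro hi
          refine ⟨hYR hi, ?_⟩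
          have : i ∈ cl Y := (hmemcl Y i).2 (Or.inl hi)
          split_ifs <;> simp [this]
        · rintro ⟨hiR, hi⟩
          obtain ⟨hne, hiR'⟩ := Finset.mem_erase.1 hiR
          have hicl : i ∈ cl Y := by
            split_ifs at hi
            · exact hi
            · exact (Finset.mem_insert.1 hi).resolve_left hne
          rcases (hmemcl Y i).1 hicl with h | h
          · exact h
          · have h1 := (Finset.mem_filter.1 (Finset.mem_erase.1 (hYR h)).2).2
            rw [hσσ] at h1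
            have h2 := (Finset.mem_filter.1 hiR').2
            have : σ i = i := le_antisymm (not_lt.1 h1) (not_lt.1 h2)
            rwa [this] at h
      ext i
      rw [key Y hY, key Y' hY']
      exact and_congr_right fun _ => by rw [show (if Even (cl Y).card then cl Y else insert r₀ (cl Y)) =
        if Even (cl Y').card then cl Y' else insert r₀ (cl Y') from h]
  -- their conjugates commute with `t`, hence are monomial
  have hab' : ({a, b} : Finset (Fin n)) ≠ Finset.univ := fun h => by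
    have := congrArg Finset.card h
    rw [Finset.card_univ, Fintype.card_fin] at this
    have := Finset.card_le_two (a := a) (b := b)
    omega
  have hπ : ∀ X ∈ 𝒳, ∃ π : Equiv.Perm (Fin n), ∀ i, ∃ s : F, s ≠ 0 ∧
      act (g⁻¹ * flip hE hn5 X * g) (e i) = s • e (π i) := by
    intro X hX
    obtain ⟨hev, hinv⟩ := (Finset.mem_filter.1 hX).2
    have hXσ : X.map σ.toEmbedding = X := by
      ext i; rw [Finset.mem_map_equiv, ← hinv (σ.symm i), Equiv.apply_symm_apply]
    have hzc : z * flip hE hn5 X * z⁻¹ = flip hE hn5 X := by rw [conj_flip hE hn5 hσ, hXσ]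
    have hw : g⁻¹ * flip hE hn5 X * g ∈ M :=
      mul_mem (mul_mem (inv_mem hg) (flip_mem hE hn5 hM hev)) hg
    refine hstab {a, b} (Finset.insert_nonempty _ _) hab' _ hw ?_
    have hcz : flip hE hn5 X * z * (flip hE hn5 X)⁻¹ = z := by
      rw [mul_inv_eq_iff_eq_mul, ← mul_inv_eq_iff_eq_mul.1 hzc]
    rw [← ht, show g⁻¹ * flip hE hn5 X * g * t * (g⁻¹ * flip hE hn5 X * g)⁻¹
      = g⁻¹ * (flip hE hn5 X * (g * t * g⁻¹) * (flip hE hn5 X)⁻¹) * g by group, ← hzdef, hcz, hzdef]
    group
  choose! π hπ using hπ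
  have hwI : ∀ X : Finset (Fin n), g⁻¹ * flip hE hn5 X * g ∈ isometryGroup F Q := fun X =>
    mul_mem (mul_mem (inv_mem hgI) (flip_mem_iso hE hn5 X)) hgI
  have hwX : ∀ X Y : Finset (Fin n), g⁻¹ * flip hE hn5 X * g * (g⁻¹ * flip hE hn5 Y * g) =
      g⁻¹ * flip hE hn5 (symmDiff X Y) * g := fun X Y => by rw [← flip_mul hE hn5]; group
  have hprod : ∀ X ∈ 𝒳, ∀ Y ∈ 𝒳, ∀ i, ∃ s : F, s ≠ 0 ∧
      act (g⁻¹ * flip hE hn5 (symmDiff X Y) * g) (e i) = s • e ((π X * π Y) i) := by
    intro X hX Y hY i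
    obtain ⟨s, hs, e1⟩ := hπ Y hY i
    obtain ⟨s', hs', e2⟩ := hπ X hX (π Y i)
    exact ⟨s * s', mul_ne_zero hs hs', by
      rw [← hwX, act_mul, e1, map_smul, e2, smul_smul, Equiv.Perm.mul_apply]⟩
  have hsq : ∀ X ∈ 𝒳, π X * π X = 1 := fun X hX => perm_unique hE (hprod X hX X hX) fun i =>
    ⟨1, one_ne_zero, by rw [← hwX, show g⁻¹ * flip hE hn5 X * g * (g⁻¹ * flip hE hn5 X * g) =
      g⁻¹ * (flip hE hn5 X * flip hE hn5 X) * g by group, flip_mul_self, mul_one, inv_mul_cancel, act_one,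
      one_smul, Equiv.Perm.one_apply]⟩
  have hcomm : ∀ X ∈ 𝒳, ∀ Y ∈ 𝒳, π X * π Y = π Y * π X := fun X hX Y hY =>
    perm_unique hE (hprod X hX Y hY) (by rw [symmDiff_comm]; exact hprod Y hY X hX)
  -- a fibre has two points at most
  have hfib : ∀ X ∈ 𝒳, ∀ Y ∈ 𝒳, π X = π Y → Y = X ∨ Y = Xᶜ := by
    intro X hX Y hY hXY
    by_contra hne
    push Not at hne
    obtain ⟨U, hU⟩ := exists_flip_of_perm_one hE hn5 (hwI _) (hprod X hX Y hY) (by rw [← hXY]; exact hsq X hX)
    refine hgm ((Subgroup.inv_mem_iff _).1 (mono_of_conj hE hn5 hM hstab (inv_mem hg) (S := symmDiff X Y) (T := U)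
      (Finset.nonempty_iff_ne_empty.2 fun h => hne.1 ?_) (fun h => hne.2 ?_) (by rw [inv_inv]; exact hU)))
    · exact (symmDiff_eq_bot.1 h).symm
    · ext i
      have := Finset.ext_iff.1 h i
      simp only [Finset.mem_symmDiff, Finset.mem_univ, iff_true] at this
      rw [Finset.mem_compl]
      tauto
  let P : Subgroup (Equiv.Perm (Fin n)) := Subgroup.closure ((𝒳.image π : Finset _) : Set (Equiv.Perm (Fin n)))
  have hgen : ∀ x ∈ ((𝒳.image π : Finset _) : Set (Equiv.Perm (Fin n))), ∃ X ∈ 𝒳, π X = x := fun x hx =>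
    Finset.mem_image.1 hx
  have hPc : ∀ x ∈ P, ∀ y ∈ P, x * y = y * x := by
    intro x hx y hy
    induction hx, hy using Subgroup.closure_induction₂ with
    | mem x y hx hy =>
      obtain ⟨X, hX, rfl⟩ := hgen x hx
      obtain ⟨Y, hY, rfl⟩ := hgen y hy
      exact hcomm X hX Y hY
    | one_left x _ => simp
    | one_right x _ => simp
    | mul_left x y z _ _ _ hxz hyz => exact (Commute.mul_left hxz hyz).eq
    | mul_right x y z _ _ _ hxy hxz => exact (Commute.mul_right hxy hxz).eq
    | inv_left x y _ _ h => exact (Commute.inv_left h).eq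
    | inv_right x y _ _ h => exact (Commute.inv_right h).eq
  have hPe : ∀ x ∈ P, x * x = 1 := by
    intro x hx
    induction hx using Subgroup.closure_induction with
    | mem x hx => obtain ⟨X, hX, rfl⟩ := hgen x hx; exact hsq X hX
    | one => simp
    | mul x y hx hy h1 h2 => rw [mul_assoc, ← mul_assoc y, hPc y hy x hx, mul_assoc x y y, h2, mul_one, h1]
    | inv x hx h => rw [← mul_inv_rev, h, inv_one]
  have h1 : 𝒳.card ≤ 2 * (𝒳.image π).card := by
    refine Finset.card_le_mul_card_image 𝒳 2 fun p hp => ?_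
    obtain ⟨X, hX, rfl⟩ := Finset.mem_image.1 hp
    refine (Finset.card_le_card (t := {X, Xᶜ}) fun Y hY => ?_).trans Finset.card_le_two
    rw [Finset.mem_filter] at hY
    rw [Finset.mem_insert, Finset.mem_singleton]
    exact hfib X hX Y hY.1 hY.2.symm
  have h2 : (𝒳.image π).card ≤ Nat.card P := by
    rw [← Nat.card_eq_finsetCard]
    exact Nat.card_le_card_of_injective (fun x => (⟨x.1, Subgroup.subset_closure x.2⟩ : P))
      fun x y h => Subtype.ext (congrArg Subtype.val h :)
  have h3 := sq_card_le_two_pow P hPc hPe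
  rw [Fintype.card_fin] at h3
  have h4 : (2 ^ (R.card - 1)) ^ 2 ≤ 2 ^ (n + 2) :=
    calc (2 ^ (R.card - 1)) ^ 2 ≤ (2 * Nat.card P) ^ 2 := Nat.pow_le_pow_left (by omega) 2
      _ ≤ 2 ^ 2 * 2 ^ n := by rw [mul_pow]; exact Nat.mul_le_mul_left _ h3
      _ = 2 ^ (n + 2) := by rw [← pow_add, add_comm]
  rw [← pow_mul] at h4
  have := (Nat.pow_le_pow_iff_right (by norm_num)).1 h4
  omega

/-- A monomial conjugate of a sign change on an even set is a sign change. -/
theorem diag_of_conj (hn : 9 ≤ n) {g : GL ι F} (hg : g ∈ M) {S : Finset (Fin n)} (hS : S.Nonempty)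
    (hS' : S ≠ Finset.univ) (hz : g * flip hE hn5 S * g⁻¹ ∈ monoGroup e) : g ∈ monoGroup e := by
  classical
  by_contra hgm
  set z := g * flip hE hn5 S * g⁻¹ with hzdef
  have hgI : g ∈ isometryGroup F Q := omega_le_iso (hMΩ hg)
  have hzI : z ∈ isometryGroup F Q := mul_mem (mul_mem hgI (flip_mem_iso hE hn5 S)) (inv_mem hgI)
  obtain ⟨σ, hσ⟩ := hz
  rcases eq_or_ne σ 1 with rfl | hne
  · obtain ⟨U, hU⟩ := exists_flip_of_perm_one hE hn5 hzI hσ rfl
    exact hgm (mono_of_conj hE hn5 hM hstab hg hS hS' hU)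
  obtain ⟨i, hi⟩ : ∃ i, σ i ≠ i := by
    by_contra h
    push Not at h
    exact hne (Equiv.ext h)
  have hzz : z * z = 1 := by
    rw [hzdef, show g * flip hE hn5 S * g⁻¹ * (g * flip hE hn5 S * g⁻¹) =
      g * (flip hE hn5 S * flip hE hn5 S) * g⁻¹ by group, flip_mul_self, mul_one, mul_inv_cancel]
  have hσi : σ (σ i) = i := by
    obtain ⟨s, hs, e1⟩ := hσ i
    obtain ⟨s', hs', e2⟩ := hσ (σ i)
    have := congrArg (fun w => act w (e i)) hzz
    simp only [act_mul, act_one, e1, map_smul, e2, smul_smul] at this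
    exact (hE.eq_smul (t := 1) (by rw [one_smul]; exact this) (mul_ne_zero hs hs')).1
  have hev : Even ({i, σ i} : Finset (Fin n)).card := by rw [Finset.card_pair (Ne.symm hi)]; decide
  set d := flip hE hn5 {i, σ i} with hd
  have hzc : z * d * z⁻¹ = d := by
    rw [hd, conj_flip hE hn5 hσ, Finset.map_insert, Finset.map_singleton]
    simp only [Equiv.coe_toEmbedding, hσi, Finset.pair_comm]
  have hw : g⁻¹ * d * g ∈ monoGroup e := by
    refine hstab S hS hS' _ (mul_mem (mul_mem (inv_mem hg) (flip_mem hE hn5 hM hev)) hg) ?_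
    have hcz : d * z * d⁻¹ = z := by rw [mul_inv_eq_iff_eq_mul, ← mul_inv_eq_iff_eq_mul.1 hzc]
    rw [show g⁻¹ * d * g * flip hE hn5 S * (g⁻¹ * d * g)⁻¹
      = g⁻¹ * (d * (g * flip hE hn5 S * g⁻¹) * d⁻¹) * g by group, ← hzdef, hcz, hzdef]
    group
  exact hgm ((Subgroup.inv_mem_iff _).1
    (diag_of_conj_pair hE hn5 hM hMΩ hstab hn (inv_mem hg) (Ne.symm hi) (by rw [inv_inv]; exact hw)))

/-- If every sign change has monomial centraliser in `M`, then `M` is monomial. -/
theorem le_monoGroup_of_central (hn : 9 ≤ n) : M ≤ monoGroup e := by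
  classical
  intro g hg
  haveI : Finite M := Finite.of_injective (fun m : M => (((m : GL ι F) : Matrix ι ι F)))
    fun a b h => Subtype.ext (Units.ext h)
  set S₂ : Finset (Fin n) := Finset.univ.filter fun i => (i : ℕ) < 2 with hS₂
  set S₄ : Finset (Fin n) := Finset.univ.filter fun i => (i : ℕ) < 4 with hS₄
  have hc : ∀ k, k ≤ n → (Finset.univ.filter fun i : Fin n => (i : ℕ) < k).card = k := fun k hk => by
    rw [Fin.card_filter_val_lt]; omega
  have h2 : S₂.card = 2 := hc 2 (by omega)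
  have h4 : S₄.card = 4 := hc 4 (by omega)
  have hne : ∀ S : Finset (Fin n), S.card = 2 ∨ S.card = 4 → S.Nonempty ∧ S ≠ Finset.univ := fun S h => by
    refine ⟨Finset.card_pos.1 (by omega), fun e => ?_⟩
    rw [e, Finset.card_univ, Fintype.card_fin] at h
    omega
  have hf2 := flip_mem hE hn5 hM (S := S₂) (by rw [h2]; decide)
  have hf4 := flip_mem hE hn5 hM (S := S₄) (by rw [h4]; decide)
  set x : M := ⟨g * flip hE hn5 S₂ * g⁻¹, mul_mem (mul_mem hg hf2) (inv_mem hg)⟩ with hx
  set y : M := ⟨flip hE hn5 S₄, hf4⟩ with hy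
  have hxx : x * x = 1 := Subtype.ext (by
    show g * flip hE hn5 S₂ * g⁻¹ * (g * flip hE hn5 S₂ * g⁻¹) = 1
    rw [show g * flip hE hn5 S₂ * g⁻¹ * (g * flip hE hn5 S₂ * g⁻¹) =
      g * (flip hE hn5 S₂ * flip hE hn5 S₂) * g⁻¹ by group, flip_mul_self, mul_one, mul_inv_cancel])
  have hyy : y * y = 1 := Subtype.ext (flip_mul_self hE hn5 S₄)
  have hne' : ∀ w : M, w * x * w⁻¹ ≠ y := fun w h => by
    have h' : (w : GL ι F) * (g * flip hE hn5 S₂ * g⁻¹) * (w : GL ι F)⁻¹ = flip hE hn5 S₄ :=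
      congrArg Subtype.val h
    have := card_eq_of_conj hE hn5 (g := (w : GL ι F) * g) (S := S₂) (T := S₄) (by rw [← h']; group)
    omega
  obtain ⟨z, w, hz1, hzx, hzy, hyz⟩ := exists_central x y hxx hyy hne'
  have hzm : (z : GL ι F) ∈ monoGroup e := by
    refine hstab S₄ (hne S₄ (Or.inr h4)).1 (hne S₄ (Or.inr h4)).2 _ z.2 ?_
    rw [mul_inv_eq_iff_eq_mul]
    exact congrArg Subtype.val hzy
  have hyzm : ((y * z : M) : GL ι F) ∈ monoGroup e := mul_mem (flip_mem_mono hE hn5 S₄) hzm
  obtain ⟨U, hUeq, hUc⟩ : ∃ U : Finset (Fin n), ((y * z : M) : GL ι F) = flip hE hn5 U ∧ (U.card = 2 ∨ U.card = 4) := by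
    have key : ∀ (m : GL ι F), m ∈ M → ∀ S : Finset (Fin n), S.card = 2 ∨ S.card = 4 →
        ((y * z : M) : GL ι F) = m * flip hE hn5 S * m⁻¹ →
        ∃ U : Finset (Fin n), ((y * z : M) : GL ι F) = flip hE hn5 U ∧ (U.card = 2 ∨ U.card = 4) := by
      intro m hm S hS heq
      obtain ⟨σ, hσ⟩ := diag_of_conj hE hn5 hM hMΩ hstab hn hm (hne S hS).1 (hne S hS).2 (heq ▸ hyzm)
      exact ⟨_, heq.trans (conj_flip hE hn5 hσ S), by rwa [Finset.card_map]⟩
    rcases hyz with h | h
    · refine key ((w : GL ι F) * g) (mul_mem w.2 hg) S₂ (Or.inl h2) ?_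
      rw [h]
      show (w : GL ι F) * (g * flip hE hn5 S₂ * g⁻¹) * (w : GL ι F)⁻¹ = _
      group
    · refine key (w : GL ι F) w.2 S₄ (Or.inr h4) ?_
      rw [h]; rfl
  have hzV : (z : GL ι F) = flip hE hn5 (symmDiff S₄ U) := by
    rw [← flip_mul hE hn5, ← hUeq]
    show _ = flip hE hn5 S₄ * (flip hE hn5 S₄ * (z : GL ι F))
    rw [← mul_assoc, flip_mul_self, one_mul]
  have hV1 : (symmDiff S₄ U).Nonempty := Finset.nonempty_iff_ne_empty.2 fun h => hz1 (Subtype.ext (by
    rw [hzV, h]
    exact hE.gl_ext fun i => by rw [act_flip, if_neg (Finset.notMem_empty i)]; exact (act_one _).symm))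
  have hV2 : symmDiff S₄ U ≠ Finset.univ := fun h => by
    have hsub : (Finset.univ : Finset (Fin n)) ⊆ S₄ ∪ U := by
      rw [← h]
      intro i hi
      rw [Finset.mem_symmDiff] at hi
      rw [Finset.mem_union]; tauto
    have := (Finset.card_le_card hsub).trans (Finset.card_union_le _ _)
    rw [Finset.card_univ, Fintype.card_fin] at this
    omega
  have hxm : (x : GL ι F) ∈ monoGroup e := by
    refine hstab _ hV1 hV2 _ x.2 ?_
    rw [← hzV, mul_inv_eq_iff_eq_mul]
    exact congrArg Subtype.val hzx.symm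
  exact diag_of_conj hE hn5 hM hMΩ hstab hn hg (hne S₂ (Or.inl h2)).1 (hne S₂ (Or.inl h2)).2 hxm

end Cfsg.Agent.MaxCl.Mono
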