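/-
Orthogonal frames of pairwise isometric lines: coordinates, sign changes, transpositions, monomial maps.
-/
import Cfsg.Agent.Lib.MaxCl.OrthPlaneBlocks

set_option autoImplicit false
set_option linter.unusedSectionVars false

namespace Cfsg.Agent.MaxCl.Mono

open scoped MatrixGroups Matrix
open Module (finrank)
open Orth

variable {ι : Type} [Fintype ι] [DecidableEq ι] {F : Type*} [Field F] {Q : QuadraticForm F (ι → F)} {n : ℕ}
  {e : Fin n → ι → F} {c : F}

set_option quotPrecheck false in
local notation "B" => QuadraticMap.polar (⇑Q)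

/-- An orthogonal frame of vectors of one value, spanning the space. -/
structure Frame (Q : QuadraticForm F (ι → F)) (e : Fin n → ι → F) (c : F) : Prop where
  Qe : ∀ i, Q (e i) = c
  c0 : c ≠ 0
  two : (2 : F) ≠ 0
  orth : ∀ i j, i ≠ j → QuadraticMap.polar (⇑Q) (e i) (e j) = 0
  span : Submodule.span F (Set.range e) = ⊤

variable (hE : Frame Q e c)
include hE

theorem Frame.B_self (i : Fin n) : B (e i) (e i) = 2 * c := by rw [Orth.B_self Q, hE.Qe]

theorem Frame.two_c : 2 * c ≠ 0 := mul_ne_zero hE.two hE.c0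

theorem Frame.ne_zero (i : Fin n) : e i ≠ 0 := fun h => hE.c0 (by rw [← hE.Qe i, h, map_zero])

theorem Frame.indep : LinearIndependent F e := by
  classical
  rw [Fintype.linearIndependent_iff]
  intro g hg i
  have h := congrArg (fun x => QuadraticMap.polarBilin Q (e i) x) hg
  simp only [map_sum, map_smul, map_zero, smul_eq_mul, QuadraticMap.polarBilin_apply_apply] at h
  rw [Finset.sum_eq_single i (fun j _ hj => by rw [hE.orth i j hj.symm, mul_zero])
    (fun h => absurd (Finset.mem_univ i) h), hE.B_self] at h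
  exact (mul_eq_zero.1 h).resolve_right hE.two_c

theorem Frame.card : Fintype.card ι = n := by
  have h := finrank_span_eq_card hE.indep
  rw [hE.span, finrank_top, Module.finrank_pi, Fintype.card_fin] at h
  exact h

theorem Frame.eq_smul {i j : Fin n} {s t : F} (h : s • e i = t • e j) (hs : s ≠ 0) : i = j ∧ s = t := by
  have h' := congrArg (fun x => B (e i) x) h
  simp only [B_smul_right Q, hE.B_self] at h'
  by_cases hij : i = j
  · subst hij
    rw [hE.B_self] at h'
    exact ⟨rfl, mul_right_cancel₀ hE.two_c h'⟩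
  · rw [hE.orth i j hij, mul_zero] at h'
    exact absurd ((mul_eq_zero.1 h').resolve_right hE.two_c) hs

omit hE

/-- The coordinate of `x` at `e i`. -/
noncomputable def co (Q : QuadraticForm F (ι → F)) (e : Fin n → ι → F) (c : F) (x : ι → F) (i : Fin n) : F :=
  QuadraticMap.polar (⇑Q) (e i) x / (2 * c)

theorem co_add (x y : ι → F) (i : Fin n) : co Q e c (x + y) i = co Q e c x i + co Q e c y i := by
  rw [co, co, co, B_add_right Q, add_div]

theorem co_smul (a : F) (x : ι → F) (i : Fin n) : co Q e c (a • x) i = a * co Q e c x i := by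
  rw [co, co, B_smul_right Q, mul_div_assoc]

theorem co_sub (x y : ι → F) (i : Fin n) : co Q e c (x - y) i = co Q e c x i - co Q e c y i := by
  rw [co, co, co, B_sub_right Q, sub_div]

theorem co_neg (x : ι → F) (i : Fin n) : co Q e c (-x) i = - co Q e c x i := by
  rw [co, co, B_neg_right Q, neg_div]

theorem co_zero (i : Fin n) : co Q e c 0 i = 0 := by rw [co, B_zero_right Q, zero_div]

include hE

theorem Frame.co_e (i j : Fin n) : co Q e c (e j) i = if i = j then 1 else 0 := by
  rw [co]
  split_ifs with h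
  · subst h; rw [hE.B_self, div_self hE.two_c]
  · rw [hE.orth i j h, zero_div]

theorem Frame.co_sum (a : Fin n → F) (i : Fin n) : co Q e c (∑ j, a j • e j) i = a i := by
  classical
  have h : ∀ s : Finset (Fin n), co Q e c (∑ j ∈ s, a j • e j) i = ∑ j ∈ s, a j * co Q e c (e j) i := by
    intro s
    induction s using Finset.induction_on with
    | empty => simp [co_zero]
    | insert j s hj ih => rw [Finset.sum_insert hj, Finset.sum_insert hj, co_add, co_smul, ih]
  rw [h, Finset.sum_eq_single i (fun j _ hj => by rw [hE.co_e, if_neg hj.symm, mul_zero])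
    (fun h => absurd (Finset.mem_univ i) h), hE.co_e, if_pos rfl, mul_one]

theorem Frame.repr (x : ι → F) : ∑ i, co Q e c x i • e i = x := by
  obtain ⟨a, rfl⟩ := (Submodule.mem_span_range_iff_exists_fun F).1 (hE.span.ge (Submodule.mem_top (x := x)))
  exact Finset.sum_congr rfl fun i _ => by rw [hE.co_sum]

theorem Frame.ext_co {x y : ι → F} (h : ∀ i, co Q e c x i = co Q e c y i) : x = y := by
  rw [← hE.repr x, ← hE.repr y]
  exact Finset.sum_congr rfl fun i _ => by rw [h]

theorem Frame.B_eq (x y : ι → F) : B x y = 2 * c * ∑ i, co Q e c x i * co Q e c y i := by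
  conv_lhs => rw [← hE.repr x]
  rw [← QuadraticMap.polarBilin_apply_apply, map_sum, LinearMap.sum_apply, Finset.mul_sum]
  refine Finset.sum_congr rfl fun i _ => ?_
  have h := mul_div_cancel₀ (B (e i) y) hE.two_c
  rw [map_smul, LinearMap.smul_apply, QuadraticMap.polarBilin_apply_apply, smul_eq_mul]
  show _ * B (e i) y = 2 * c * (_ * (B (e i) y / (2 * c)))
  linear_combination -(co Q e c x i) * h

theorem Frame.Q_eq (x : ι → F) : Q x = c * ∑ i, co Q e c x i ^ 2 := by
  have h := hE.B_eq x x
  rw [Orth.B_self Q] at h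
  have h' : 2 * Q x = 2 * (c * ∑ i, co Q e c x i ^ 2) := by
    rw [h, mul_assoc]; simp only [pow_two]
  exact mul_left_cancel₀ hE.two h'

theorem Frame.nondegenerate : (QuadraticMap.polarBilin Q).Nondegenerate := by
  refine ⟨fun x hx => ?_, fun y hy => ?_⟩
  · refine hE.ext_co fun i => ?_
    rw [co_zero, co, B_comm Q]
    have := hx (e i)
    rw [QuadraticMap.polarBilin_apply_apply] at this
    rw [this, zero_div]
  · refine hE.ext_co fun i => ?_
    rw [co_zero, co]
    have := hy (e i)
    rw [QuadraticMap.polarBilin_apply_apply] at this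
    rw [this, zero_div]

theorem Frame.gl_ext {g h : GL ι F} (H : ∀ i, act g (e i) = act h (e i)) : g = h :=
  MaxCl.gl_ext fun x => by
    rw [← hE.repr x, map_sum, map_sum]
    exact Finset.sum_congr rfl fun i _ => by rw [map_smul, map_smul, H]

/-! ### Sign changes and transpositions -/

theorem Frame.act_refl_e (i j : Fin n) : act (refl Q (e i)) (e j) = if i = j then -e j else e j := by
  split_ifs with h
  · subst h; exact act_refl_self Q (by rw [hE.Qe]; exact hE.c0)
  · exact act_refl_fix Q (by rw [hE.Qe]; exact hE.c0) (hE.orth i j h)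

variable [Finite F]

theorem Frame.exists_flip (hn : 5 ≤ n) (S : Finset (Fin n)) :
    ∃ g ∈ isometryGroup F Q, (∀ j, act g (e j) = if j ∈ S then -e j else e j) ∧
      (Even S.card → g ∈ Cfsg.Geo.omegaGL Q) ∧
      (¬ Even S.card → g * refl Q (e ⟨0, by omega⟩) ∈ Cfsg.Geo.omegaGL Q) := by
  classical
  have hn5 : 5 ≤ Fintype.card ι := by rw [hE.card]; exact hn
  have pair : ∀ i j, refl Q (e i) * refl Q (e j) ∈ Cfsg.Geo.omegaGL Q := fun i j => by
    rw [omega_eq_sgGroup hE.nondegenerate hn5]
    exact refl_mul_refl_mem hE.nondegenerate hn5 (by rw [hE.Qe, hE.Qe])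
  induction S using Finset.induction_on with
  | empty => exact ⟨1, one_mem _, fun j => by simp [act_one], fun _ => one_mem _, fun h => absurd ⟨0, rfl⟩ h⟩
  | insert a S ha ih =>
    obtain ⟨g, hg, hact, hev, hodd⟩ := ih
    refine ⟨g * refl Q (e a), mul_mem hg (refl_mem_iso Q _), fun j => ?_, fun h => ?_, fun h => ?_⟩
    · rw [act_mul, hE.act_refl_e]
      by_cases hja : a = j
      · subst hja
        rw [if_pos rfl, if_pos (Finset.mem_insert_self a S), map_neg, hact, if_neg ha]
      · rw [if_neg hja, hact]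
        simp [Finset.mem_insert, Ne.symm hja]
    · rw [Finset.card_insert_of_notMem ha, Nat.even_add_one] at h
      have := mul_mem (hodd h) (pair ⟨0, by omega⟩ a)
      rwa [mul_assoc, ← mul_assoc (refl Q _) (refl Q _), refl_mul_self, one_mul] at this
    · rw [Finset.card_insert_of_notMem ha, Nat.even_add_one, not_not] at h
      rw [mul_assoc]
      exact mul_mem (hev h) (pair _ _)

/-- The sign change on the set `S`. -/
noncomputable def flip (hn : 5 ≤ n) (S : Finset (Fin n)) : GL ι F := (hE.exists_flip hn S).choose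

theorem flip_mem_iso (hn : 5 ≤ n) (S : Finset (Fin n)) : flip hE hn S ∈ isometryGroup F Q :=
  (hE.exists_flip hn S).choose_spec.1

theorem act_flip (hn : 5 ≤ n) (S : Finset (Fin n)) (j : Fin n) :
    act (flip hE hn S) (e j) = if j ∈ S then -e j else e j :=
  (hE.exists_flip hn S).choose_spec.2.1 j

theorem flip_mem_omega (hn : 5 ≤ n) {S : Finset (Fin n)} (h : Even S.card) :
    flip hE hn S ∈ Cfsg.Geo.omegaGL Q :=
  (hE.exists_flip hn S).choose_spec.2.2.1 h

theorem co_flip (hn : 5 ≤ n) (S : Finset (Fin n)) (x : ι → F) (i : Fin n) :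
    co Q e c (act (flip hE hn S) x) i = if i ∈ S then -co Q e c x i else co Q e c x i := by
  have h : act (flip hE hn S) x = ∑ j, (if j ∈ S then -co Q e c x j else co Q e c x j) • e j := by
    conv_lhs => rw [← hE.repr x, map_sum]
    refine Finset.sum_congr rfl fun j _ => ?_
    rw [map_smul, act_flip]
    split_ifs <;> simp
  rw [h, hE.co_sum]

theorem flip_mul_self (hn : 5 ≤ n) (S : Finset (Fin n)) : flip hE hn S * flip hE hn S = 1 := by
  refine hE.gl_ext fun j => ?_
  rw [act_mul, act_one, act_flip]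
  split_ifs with h <;> simp [map_neg, act_flip, h]

theorem flip_inv (hn : 5 ≤ n) (S : Finset (Fin n)) : (flip hE hn S)⁻¹ = flip hE hn S :=
  inv_eq_of_mul_eq_one_right (flip_mul_self hE hn S)

theorem flip_mul (hn : 5 ≤ n) (S T : Finset (Fin n)) :
    flip hE hn S * flip hE hn T = flip hE hn (symmDiff S T) := by
  refine hE.gl_ext fun j => ?_
  rw [act_mul, act_flip, act_flip]
  by_cases hS : j ∈ S <;> by_cases hT : j ∈ T <;>
    simp [Finset.mem_symmDiff, hS, hT, map_neg, act_flip]

theorem flip_pair (hn : 5 ≤ n) {a b : Fin n} (h : a ≠ b) :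
    flip hE hn {a, b} = refl Q (e a) * refl Q (e b) := by
  refine hE.gl_ext fun j => ?_
  rw [act_flip, act_mul, hE.act_refl_e]
  by_cases hb : b = j
  · subst hb; simp [map_neg, hE.act_refl_e, h]
  · by_cases ha : a = j
    · subst ha; simp [hb, hE.act_refl_e]
    · simp [hb, hE.act_refl_e, ha, Ne.symm ha, Ne.symm hb]

theorem flip_injective (hn : 5 ≤ n) {S T : Finset (Fin n)} (h : flip hE hn S = flip hE hn T) : S = T := by
  ext j
  have hj := congrArg (fun g => co Q e c (act g (e j)) j) h
  simp only [co_flip, hE.co_e, if_pos rfl] at hj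
  have h1 : (-1 : F) ≠ 1 := fun h => hE.two (by linear_combination -h)
  by_cases hS : j ∈ S <;> by_cases hT : j ∈ T <;> simp [hS, hT, h1, h1.symm] at hj ⊢

theorem flip_fixed (hn : 5 ≤ n) {S : Finset (Fin n)} {x : ι → F} :
    act (flip hE hn S) x = x ↔ ∀ i ∈ S, co Q e c x i = 0 := by
  refine ⟨fun h i hi => ?_, fun h => hE.ext_co fun i => ?_⟩
  · have h' := congrArg (co Q e c · i) h
    simp only [co_flip, if_pos hi] at h'
    exact (mul_eq_zero.1 (show (2 : F) * co Q e c x i = 0 by linear_combination -h')).resolve_left hE.two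
  · rw [co_flip]; split_ifs with hi
    · rw [h i hi, neg_zero]
    · rfl

theorem flip_negated (hn : 5 ≤ n) {S : Finset (Fin n)} {x : ι → F} :
    act (flip hE hn S) x = -x ↔ ∀ i ∉ S, co Q e c x i = 0 := by
  refine ⟨fun h i hi => ?_, fun h => hE.ext_co fun i => ?_⟩
  · have h' := congrArg (co Q e c · i) h
    simp only [co_flip, if_neg hi, co_neg] at h'
    exact (mul_eq_zero.1 (show (2 : F) * co Q e c x i = 0 by linear_combination h')).resolve_left hE.two
  · rw [co_flip, co_neg]; split_ifs with hi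
    · rfl
    · rw [h i hi, neg_zero]

omit [Finite F]

theorem Frame.Q_sub_e {a b : Fin n} (h : a ≠ b) : Q (e a - e b) = 2 * c := by
  rw [Q_sub Q, hE.Qe, hE.Qe, hE.orth a b h]; ring

theorem act_swap {a b : Fin n} (h : a ≠ b) (j : Fin n) :
    act (refl Q (e a - e b)) (e j) = e (Equiv.swap a b j) := by
  have hQ : Q (e a - e b) ≠ 0 := by rw [hE.Q_sub_e h]; exact hE.two_c
  rw [act_refl Q hQ, hE.Q_sub_e h, B_sub_left Q]
  by_cases hja : j = a
  · subst hja
    rw [hE.B_self, hE.orth b j (Ne.symm h), sub_zero, inv_mul_cancel₀ hE.two_c, one_smul, sub_sub_cancel,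
      Equiv.swap_apply_left]
  · by_cases hjb : j = b
    · subst hjb
      rw [hE.B_self, hE.orth a j h, zero_sub, mul_neg, inv_mul_cancel₀ hE.two_c, Equiv.swap_apply_right]
      module
    · rw [hE.orth a j (Ne.symm hja), hE.orth b j (Ne.symm hjb), Equiv.swap_apply_of_ne_of_ne hja hjb]
      simp

/-- Reflection pairs of a double transposition lie in Omega. -/
theorem swap_pair_mem_omega [Finite F] (hn : 5 ≤ n) {a b a' b' : Fin n} (h : a ≠ b) (h' : a' ≠ b') :
    refl Q (e a - e b) * refl Q (e a' - e b') ∈ Cfsg.Geo.omegaGL Q := by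
  have hn5 : 5 ≤ Fintype.card ι := by rw [hE.card]; exact hn
  rw [omega_eq_sgGroup hE.nondegenerate hn5]
  exact refl_mul_refl_mem hE.nondegenerate hn5 (by rw [hE.Q_sub_e h, hE.Q_sub_e h'])

/-! ### Monomial maps -/

omit hE

/-- `g` permutes the frame lines. -/
def IsMono (e : Fin n → ι → F) (g : GL ι F) : Prop :=
  ∃ σ : Equiv.Perm (Fin n), ∀ i, ∃ s : F, s ≠ 0 ∧ act g (e i) = s • e (σ i)

variable (e) in
/-- The group of maps permuting the frame lines. -/
def monoGroup : Subgroup (GL ι F) where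
  carrier := {g | IsMono e g}
  mul_mem' := by
    rintro g h ⟨σ, hσ⟩ ⟨τ, hτ⟩
    refine ⟨σ * τ, fun i => ?_⟩
    obtain ⟨s, hs, e1⟩ := hτ i
    obtain ⟨t, ht, e2⟩ := hσ (τ i)
    exact ⟨s * t, mul_ne_zero hs ht, by rw [act_mul, e1, map_smul, e2, smul_smul, Equiv.Perm.mul_apply]⟩
  one_mem' := ⟨1, fun i => ⟨1, one_ne_zero, by rw [act_one, one_smul]; rfl⟩⟩
  inv_mem' := by
    rintro g ⟨σ, hσ⟩
    refine ⟨σ⁻¹, fun i => ?_⟩
    obtain ⟨s, hs, e1⟩ := hσ (σ⁻¹ i)
    rw [show σ (σ⁻¹ i) = i from σ.apply_symm_apply i] at e1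
    refine ⟨s⁻¹, inv_ne_zero hs, act_injective g ?_⟩
    rw [act_act_inv, map_smul, e1, smul_smul, inv_mul_cancel₀ hs, one_smul]

include hE

theorem isMono_of_forall {g : GL ι F} (h : ∀ i, ∃ j : Fin n, ∃ s : F, act g (e i) = s • e j) :
    IsMono e g := by
  choose σ s hs using h
  have hs0 : ∀ i, s i ≠ 0 := fun i h0 => hE.ne_zero i (act_injective g (by rw [hs, h0, zero_smul, map_zero]))
  have hinj : Function.Injective σ := fun i j hij => by
    have : act g (s j • e i) = act g (s i • e j) := by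
      rw [map_smul, map_smul, hs, hs, hij, smul_smul, smul_smul, mul_comm]
    exact (hE.eq_smul (act_injective g this) (hs0 j)).1
  exact ⟨Equiv.ofBijective σ (Finite.injective_iff_bijective.1 hinj), fun i => ⟨s i, hs0 i, hs i⟩⟩

theorem flip_mem_mono [Finite F] (hn : 5 ≤ n) (S : Finset (Fin n)) : flip hE hn S ∈ monoGroup e :=
  isMono_of_forall hE fun i => ⟨i, if i ∈ S then -1 else 1, by rw [act_flip]; split_ifs <;> simp⟩

theorem swap_mem_mono {a b : Fin n} (h : a ≠ b) : refl Q (e a - e b) ∈ monoGroup e :=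
  isMono_of_forall hE fun i => ⟨Equiv.swap a b i, 1, by rw [act_swap hE h, one_smul]⟩

theorem swap_pair_mem_mono {a b a' b' : Fin n} (h : a ≠ b) (h' : a' ≠ b') :
    refl Q (e a - e b) * refl Q (e a' - e b') ∈ monoGroup e :=
  mul_mem (swap_mem_mono hE h) (swap_mem_mono hE h')

theorem sign_of_iso {g : GL ι F} (hg : g ∈ isometryGroup F Q) {i j : Fin n} {s : F}
    (h : act g (e i) = s • e j) : s = 1 ∨ s = -1 := by
  have h1 := Q_act hg (e i)
  rw [h, Q_smul Q, hE.Qe, hE.Qe] at h1
  exact mul_self_eq_one_iff.1 (mul_right_cancel₀ hE.c0 (h1.trans (one_mul c).symm))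

theorem conj_flip [Finite F] (hn : 5 ≤ n) {g : GL ι F} {σ : Equiv.Perm (Fin n)}
    (hσ : ∀ i, ∃ s : F, s ≠ 0 ∧ act g (e i) = s • e (σ i)) (S : Finset (Fin n)) :
    g * flip hE hn S * g⁻¹ = flip hE hn (S.map σ.toEmbedding) := by
  refine hE.gl_ext fun j => ?_
  obtain ⟨s, hs, hi⟩ := hσ (σ.symm j)
  rw [Equiv.apply_symm_apply] at hi
  have hj : act g⁻¹ (e j) = s⁻¹ • e (σ.symm j) := act_injective g (by
    rw [act_act_inv, map_smul, hi, smul_smul, inv_mul_cancel₀ hs, one_smul])
  rw [act_mul, act_mul, hj, map_smul, map_smul, act_flip, act_flip]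
  by_cases hS : σ.symm j ∈ S <;>
    simp [hS, Finset.mem_map_equiv, map_neg, hi, smul_smul, inv_mul_cancel₀ hs]

omit hE in
theorem refl_smul (a : ι → F) {k : F} (hk : k ≠ 0) : refl Q (k • a) = refl Q a := by
  by_cases h : Q a = 0
  · rw [refl_of_singular Q h, refl_of_singular Q (by rw [Q_smul Q, h, mul_zero])]
  · apply MaxCl.gl_ext
    intro x
    rw [act_refl Q h, act_refl Q (by rw [Q_smul Q]; exact mul_ne_zero (mul_ne_zero hk hk) h), B_smul_left Q,
      Q_smul Q, smul_smul]
    congr 2
    field_simp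

omit hE in
theorem exists_natCast (hp : (Nat.card F).Prime) (a : F) : ∃ k : ℕ, (k : F) = a := by
  haveI : Finite F := Nat.finite_of_card_ne_zero hp.pos.ne'
  haveI := Fintype.ofFinite F
  have hp' : (Fintype.card F).Prime := by rwa [← Nat.card_eq_fintype_card]
  haveI := Fact.mk hp'
  haveI : CharP F (Fintype.card F) := by
    obtain ⟨⟨m, hm⟩, hr, hc⟩ := FiniteField.card F (ringChar F)
    have h1 := (Nat.Prime.pow_eq_iff hp').1 hc.symm
    exact ringChar.of_eq h1.1
  have hb : Function.Bijective (ZMod.castHom (dvd_refl (Fintype.card F)) F) :=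
    (Fintype.bijective_iff_injective_and_card _).2 ⟨(ZMod.castHom _ F).injective, ZMod.card _⟩
  obtain ⟨z, hz⟩ := hb.2 a
  exact ⟨z.val, by rw [← hz, ← ZMod.natCast_zmod_val z, map_natCast, ZMod.natCast_zmod_val]⟩

end Cfsg.Agent.MaxCl.Mono
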