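/-
Rotations in dimension three over a field of prime order: the axis of an element of order prime to the
characteristic, and the counting of axes for a finite group containing the octahedral group.
-/
import Mathlib

set_option autoImplicit false
set_option linter.unusedSectionVars false

namespace Cfsg.Agent.MaxCl.Mono

open Matrix
open Module (finrank)

variable {F : Type*} [Field F]

/-- Isometries of the standard form of determinant one. -/
def IsRot (A : Matrix (Fin 3) (Fin 3) F) : Prop := Aᵀ * A = 1 ∧ A.det = 1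

theorem IsRot.mul {A B : Matrix (Fin 3) (Fin 3) F} (hA : IsRot A) (hB : IsRot B) : IsRot (A * B) :=
  ⟨by rw [transpose_mul, Matrix.mul_assoc, ← Matrix.mul_assoc Aᵀ, hA.1, Matrix.one_mul, hB.1],
    by rw [det_mul, hA.2, hB.2, one_mul]⟩

theorem IsRot.pow {A : Matrix (Fin 3) (Fin 3) F} (hA : IsRot A) (k : ℕ) : IsRot (A ^ k) := by
  induction k with
  | zero => exact ⟨by simp, by simp⟩
  | succ k ih => rw [pow_succ]; exact ih.mul hA

theorem IsRot.dot {A : Matrix (Fin 3) (Fin 3) F} (hA : IsRot A) (x y : Fin 3 → F) :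
    (A *ᵥ x) ⬝ᵥ (A *ᵥ y) = x ⬝ᵥ y := by
  rw [dotProduct_mulVec, ← mulVec_transpose, mulVec_mulVec, hA.1, one_mulVec]

theorem IsRot.adjugate {A : Matrix (Fin 3) (Fin 3) F} (hA : IsRot A) : A.adjugate = Aᵀ := by
  have h1 := A.mul_adjugate
  rw [hA.2, one_smul] at h1
  calc A.adjugate = (Aᵀ * A) * A.adjugate := by rw [hA.1, Matrix.one_mul]
    _ = Aᵀ := by rw [Matrix.mul_assoc, h1, Matrix.mul_one]

theorem cube_identity (A : Matrix (Fin 3) (Fin 3) F) :
    A * A * A - A.trace • (A * A) + A.adjugate.trace • A - A.det • (1 : Matrix (Fin 3) (Fin 3) F) = 0 := by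
  ext i j
  rw [det_fin_three, trace_fin_three, trace_fin_three, adjugate_fin_three]
  simp only [Matrix.sub_apply, Matrix.add_apply, Matrix.smul_apply, Matrix.mul_apply, Fin.sum_univ_three,
    smul_eq_mul, Matrix.zero_apply]
  fin_cases i <;> fin_cases j <;> simp <;> ring

theorem IsRot.cube {A : Matrix (Fin 3) (Fin 3) F} (hA : IsRot A) :
    A * A * A - A.trace • (A * A) + A.trace • A - 1 = 0 := by
  have h := cube_identity A
  rwa [hA.adjugate, hA.2, one_smul, trace_transpose] at h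

theorem IsRot.trace_sq {A : Matrix (Fin 3) (Fin 3) F} (hA : IsRot A) :
    (A * A).trace = A.trace * A.trace - 2 * A.trace := by
  have h : A.adjugate.trace = A.trace := by rw [hA.adjugate, trace_transpose]
  rw [adjugate_fin_three, trace_fin_three, trace_fin_three] at h
  simp [trace_fin_three, Matrix.mul_apply, Fin.sum_univ_three] at h ⊢
  linear_combination -2 * h

theorem IsRot.cross {A : Matrix (Fin 3) (Fin 3) F} (hA : IsRot A) (a b : Fin 3 → F) :
    A *ᵥ (a ⨯₃ b) = (A *ᵥ a) ⨯₃ (A *ᵥ b) := by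
  have h : A = A.adjugateᵀ := by rw [hA.adjugate, transpose_transpose]
  conv_lhs => rw [h]
  funext i
  rw [adjugate_fin_three]
  fin_cases i <;> simp [cross_apply, Matrix.mulVec, dotProduct, Fin.sum_univ_three] <;> ring

section Prime

variable {p : ℕ} [Fact p.Prime] [CharP F p]

theorem pow_eq_one_of_trace {A : Matrix (Fin 3) (Fin 3) F} (hA : IsRot A) (hT : A.trace = 3) (hp : 3 ≤ p) :
    A ^ p = 1 := by
  have h := hA.cube
  rw [hT] at h
  have h3 : (A - 1) ^ 3 = 0 := by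
    rw [← h]
    simp only [pow_succ, pow_zero, one_mul, sub_mul, mul_sub, mul_one, Matrix.one_mul]
    have e : ∀ M : Matrix (Fin 3) (Fin 3) F, (3 : F) • M = M + M + M := fun M => by module
    rw [e, e]
    abel
  have hN : (A - 1) ^ p = 0 := by
    rw [show p = (p - 3) + 3 by omega, pow_add, h3, mul_zero]
  haveI : CharP (Matrix (Fin 3) (Fin 3) F) p := inferInstance
  rwa [sub_pow_char_of_commute p (Commute.one_right A), one_pow, sub_eq_zero] at hN

theorem trace_of_pow {A : Matrix (Fin 3) (Fin 3) F} (h : A ^ p = 1) : A.trace = 3 := by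
  haveI : CharP (Matrix (Fin 3) (Fin 3) F) p := inferInstance
  have hn : IsNilpotent (A - 1) :=
    ⟨p, by rw [sub_pow_char_of_commute p (Commute.one_right A), one_pow, h, sub_self]⟩
  have h0 := (Matrix.isNilpotent_trace_of_isNilpotent hn).eq_zero
  rwa [trace_sub, trace_one, Fintype.card_fin, sub_eq_zero, Nat.cast_ofNat] at h0

/-- The fixed space of a rotation which is not unipotent is a non-singular line. -/
theorem exists_axis {A : Matrix (Fin 3) (Fin 3) F} (hA : IsRot A) (hp : 3 < p) (hne : A ^ p ≠ 1) :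
    ∃ s : Fin 3 → F, s ⬝ᵥ s ≠ 0 ∧ A *ᵥ s = s ∧ ∀ v, A *ᵥ v = v → v ∈ F ∙ s := by
  set T := A.trace with hT
  have hk : 3 - T ≠ 0 := fun e => hne (pow_eq_one_of_trace hA (sub_eq_zero.1 e).symm hp.le)
  set k := (3 - T)⁻¹ with hkd
  set P : Matrix (Fin 3) (Fin 3) F := k • (A * A - (T - 1) • A + 1) with hP
  have hc := hA.cube
  rw [← hT] at hc
  have hAP : A * P = P := by
    rw [← sub_eq_zero, hP, Matrix.mul_smul, ← smul_sub, show A * (A * A - (T - 1) • A + 1) - (A * A - (T - 1) • A + 1)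
      = A * A * A - T • (A * A) + T • A - 1 by
        rw [Matrix.mul_add, Matrix.mul_sub, Matrix.mul_smul, Matrix.mul_one, Matrix.mul_assoc]; module,
      hc, smul_zero]
  have hfix : ∀ v, A *ᵥ v = v → P *ᵥ v = v := by
    intro v hv
    rw [hP, smul_mulVec, add_mulVec, sub_mulVec, smul_mulVec, ← mulVec_mulVec, hv, hv, one_mulVec,
      show v - (T - 1) • v + v = (3 - T) • v by module, smul_smul, hkd, inv_mul_cancel₀ hk, one_smul]
  have hAPv : ∀ v, A *ᵥ (P *ᵥ v) = P *ᵥ v := fun v => by rw [mulVec_mulVec, hAP]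
  have hPP : ∀ v, P *ᵥ (P *ᵥ v) = P *ᵥ v := fun v => hfix _ (hAPv v)
  have hsymm : Pᵀ = P := by
    have hcommA : P * A = P := by
      have : Commute P A := by
        rw [hP]
        exact ((((Commute.refl A).mul_left (Commute.refl A)).sub_left
          ((Commute.refl A).smul_left _)).add_left (Commute.one_left A)).smul_left k
      rw [this.eq, hAP]
    have h1 : Aᵀ * P = P := by
      conv_lhs => rw [← hAP, ← Matrix.mul_assoc, hA.1, Matrix.one_mul]
    have h2 : Aᵀ * Aᵀ * (A * A - (T - 1) • A + 1) = 1 - (T - 1) • Aᵀ + Aᵀ * Aᵀ := by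
      have e1 : Aᵀ * Aᵀ * (A * A) = 1 := by
        rw [Matrix.mul_assoc, ← Matrix.mul_assoc Aᵀ A A, hA.1, Matrix.one_mul, hA.1]
      have e2 : Aᵀ * Aᵀ * A = Aᵀ := by rw [Matrix.mul_assoc, hA.1, Matrix.mul_one]
      rw [Matrix.mul_add, Matrix.mul_sub, Matrix.mul_smul, e1, e2, Matrix.mul_one]
    calc Pᵀ = Aᵀ * Aᵀ * P := by
          rw [hP, Matrix.mul_smul, h2, transpose_smul, transpose_add, transpose_sub, transpose_smul,
            transpose_mul, transpose_one]
          congr 1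
          abel
      _ = P := by rw [Matrix.mul_assoc, h1, h1]
  have htr : P.trace = 1 := by
    rw [hP, trace_smul, trace_add, trace_sub, trace_smul, trace_one, Fintype.card_fin, hA.trace_sq, ← hT,
      smul_eq_mul, smul_eq_mul, Nat.cast_ofNat]
    rw [hkd, show T * T - 2 * T - (T - 1) * T + 3 = 3 - T by ring, inv_mul_cancel₀ hk]
  set W := LinearMap.range (Matrix.toLin' P) with hW
  have hproj : LinearMap.IsProj W (Matrix.toLin' P) := by
    refine ⟨fun x => ⟨x, rfl⟩, ?_⟩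
    rintro _ ⟨y, rfl⟩
    rw [Matrix.toLin'_apply, Matrix.toLin'_apply, hPP]
  have hrank : finrank F W = 1 := by
    have h := hproj.trace
    rw [Matrix.trace_toLin'_eq, htr] at h
    have hle : finrank F W ≤ 3 := (Submodule.finrank_le W).trans_eq (by simp)
    have h' : (((finrank F W : ℕ)) : F) = ((1 : ℕ) : F) := by rw [Nat.cast_one, ← h]
    exact ((CharP.natCast_injOn_Iio F p) (Set.mem_Iio.2 (by omega)) (Set.mem_Iio.2 (by omega)) h')
  obtain ⟨⟨s, hs⟩, hs0, hall⟩ := finrank_eq_one_iff'.1 hrank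
  have hs0' : s ≠ 0 := fun e => hs0 (Subtype.ext e)
  have hPs : P *ᵥ s = s := by
    obtain ⟨y, rfl⟩ := hs
    rw [Matrix.toLin'_apply, hPP]
  refine ⟨s, fun hss => hs0' ?_, by rw [← hPs, hAPv], fun v hv => ?_⟩
  · apply dotProduct_eq_zero
    intro y
    obtain ⟨c, hc⟩ := hall ⟨P *ᵥ y, y, Matrix.toLin'_apply P y⟩
    have hc' : c • s = P *ᵥ y := congrArg Subtype.val hc
    rw [← hPs, dotProduct_comm, dotProduct_mulVec, ← mulVec_transpose, hsymm, dotProduct_comm, ← hc',
      dotProduct_smul, hss, smul_zero]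
  · obtain ⟨c, hc⟩ := hall ⟨v, v, by rw [Matrix.toLin'_apply, hfix v hv]⟩
    exact Submodule.mem_span_singleton.2 ⟨c, congrArg Subtype.val hc⟩

end Prime

/-- The arithmetic of the axis count. -/
theorem orbit_arith_two {g a b n₁ n₂ f : ℕ} (ha : 4 ≤ a) (hb : 2 ≤ b) (hf : f = 1 ∨ f = 2) (hn₁ : 3 ≤ n₁)
    (hn₂ : 1 ≤ n₂) (h1 : n₁ * (2 * a) = g) (h2 : n₂ * (f * b) = g)
    (h : n₁ * (a - 1) + n₂ * (b - 1) + 1 = g) : False := by
  have e1 := Nat.mul_sub n₁ a 1
  have e2 := Nat.mul_sub n₂ b 1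
  have i1 : n₁ ≤ n₁ * a := Nat.le_mul_of_pos_right _ (by omega)
  have i2 : n₂ * 2 ≤ n₂ * b := Nat.mul_le_mul_left _ hb
  have i4 : n₁ * 4 ≤ n₁ * a := Nat.mul_le_mul_left _ ha
  have r1 : n₁ * (2 * a) = 2 * (n₁ * a) := by ring
  rcases hf with rfl | rfl
  · rw [one_mul] at h2
    rcases Nat.lt_or_ge b 3 with hb3 | hb3
    · obtain rfl : b = 2 := by omega
      omega
    · have i3 : n₂ * 3 ≤ n₂ * b := Nat.mul_le_mul_left _ hb3
      omega
  · have r2 : n₂ * (2 * b) = 2 * (n₂ * b) := by ring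
    omega

theorem orbit_arith_three {g a b c n₁ n₂ n₃ f f' : ℕ} (ha : 4 ∣ a) (ha0 : 0 < a) (hb : 2 ≤ b) (hc : 2 ≤ c)
    (hf : f = 1 ∨ f = 2) (hf' : f' = 1 ∨ f' = 2) (hn₁ : 3 ≤ n₁)
    (h1 : n₁ * (2 * a) = g) (h2 : n₂ * (f * b) = g) (h3 : n₃ * (f' * c) = g)
    (h : n₁ * (a - 1) + n₂ * (b - 1) + n₃ * (c - 1) + 1 = g) : n₁ = 3 := by
  have e1 := Nat.mul_sub n₁ a 1
  have e2 := Nat.mul_sub n₂ b 1
  have e3 := Nat.mul_sub n₃ c 1
  have j1 : n₁ ≤ n₁ * a := Nat.le_mul_of_pos_right _ ha0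
  have j2 : n₂ * 2 ≤ n₂ * b := Nat.mul_le_mul_left _ hb
  have j3 : n₃ * 2 ≤ n₃ * c := Nat.mul_le_mul_left _ hc
  have i4 : n₁ * 4 ≤ n₁ * a := Nat.mul_le_mul_left _ (Nat.le_of_dvd ha0 ha)
  have r1 : n₁ * (2 * a) = 2 * (n₁ * a) := by ring
  rcases hf with rfl | rfl <;> rcases hf' with rfl | rfl <;> (try simp only [one_mul] at h2) <;>
    (try simp only [one_mul] at h3)
  · omega
  · have r3 : n₃ * (2 * c) = 2 * (n₃ * c) := by ring
    omega
  · have r2 : n₂ * (2 * b) = 2 * (n₂ * b) := by ring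
    omega
  have r2 : n₂ * (2 * b) = 2 * (n₂ * b) := by ring
  have r3 : n₃ * (2 * c) = 2 * (n₃ * c) := by ring
  obtain ⟨k, rfl⟩ := ha
  rcases Nat.lt_or_ge k 2 with hk | hk
  · obtain rfl : k = 1 := by omega
    rcases Nat.lt_or_ge b 3 with hb3 | hb3 <;> rcases Nat.lt_or_ge c 3 with hc3 | hc3
    · obtain rfl : b = 2 := by omega
      obtain rfl : c = 2 := by omega
      omega
    · obtain rfl : b = 2 := by omega
      rcases Nat.lt_or_ge c 4 with hc4 | hc4
      · obtain rfl : c = 3 := by omega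
        omega
      · have i3 : n₃ * 4 ≤ n₃ * c := Nat.mul_le_mul_left _ hc4
        omega
    · obtain rfl : c = 2 := by omega
      rcases Nat.lt_or_ge b 4 with hb4 | hb4
      · obtain rfl : b = 3 := by omega
        omega
      · have i2 : n₂ * 4 ≤ n₂ * b := Nat.mul_le_mul_left _ hb4
        omega
    · have i2 : n₂ * 3 ≤ n₂ * b := Nat.mul_le_mul_left _ hb3
      have i3 : n₃ * 3 ≤ n₃ * c := Nat.mul_le_mul_left _ hc3
      omega
  · have i8 : n₁ * 8 ≤ n₁ * (4 * k) := Nat.mul_le_mul_left _ (by omega)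
    rcases Nat.lt_or_ge b 3 with hb3 | hb3 <;> rcases Nat.lt_or_ge c 3 with hc3 | hc3
    · obtain rfl : b = 2 := by omega
      obtain rfl : c = 2 := by omega
      omega
    · obtain rfl : b = 2 := by omega
      have i3 : n₃ * 3 ≤ n₃ * c := Nat.mul_le_mul_left _ hc3
      omega
    · obtain rfl : c = 2 := by omega
      have i2 : n₂ * 3 ≤ n₂ * b := Nat.mul_le_mul_left _ hb3
      omega
    · have i2 : n₂ * 3 ≤ n₂ * b := Nat.mul_le_mul_left _ hb3
      have i3 : n₃ * 3 ≤ n₃ * c := Nat.mul_le_mul_left _ hc3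
      omega

end Cfsg.Agent.MaxCl.Mono
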