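/-
A group of isometries of the standard form in dimension three over a field of prime order which contains all
sign changes, is invariant under coordinate permutations and is not monomial is transitive on every sphere of
non-zero radius.
-/
import Cfsg.Agent.Lib.MaxCl.Mono.Rotation

set_option autoImplicit false
set_option linter.unusedSectionVars false
set_option linter.style.haveILetI false
set_option maxHeartbeats 800000

namespace Cfsg.Agent.MaxCl.Mono.Trans

open Matrix

variable {F : Type*} [Field F]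

local notation "G3" => GL (Fin 3) F
local notation "M3" => Matrix (Fin 3) (Fin 3) F
local notation "V3" => Fin 3 → F

theorem coe_inv_of_orth {g : G3} (hg : (g : M3)ᵀ * (g : M3) = 1) : ((g⁻¹ : G3) : M3) = (g : M3)ᵀ := by
  rw [Matrix.coe_units_inv]
  exact Matrix.inv_eq_left_inv hg

theorem det_eq_or {g : M3} (hg : gᵀ * g = 1) : g.det = 1 ∨ g.det = -1 := by
  have h := congrArg Matrix.det hg
  rw [det_mul, det_transpose, det_one] at h
  exact mul_self_eq_one_iff.1 h

theorem orth_dot {A : M3} (hA : Aᵀ * A = 1) (x y : V3) : (A *ᵥ x) ⬝ᵥ (A *ᵥ y) = x ⬝ᵥ y := by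
  rw [dotProduct_mulVec, ← mulVec_transpose, mulVec_mulVec, hA, one_mulVec]

theorem dot_cross_self (s z : V3) : (s ⨯₃ z) ⬝ᵥ (s ⨯₃ z) = (s ⬝ᵥ s) * (z ⬝ᵥ z) - (s ⬝ᵥ z) * (s ⬝ᵥ z) := by
  simp [cross_apply, dotProduct, Fin.sum_univ_three]
  ring

/-- A vector orthogonal to `s`, to `z` and to their cross product vanishes, when that product is non-singular. -/
theorem eq_zero_of_dots {s z d : V3} (h : (s ⨯₃ z) ⬝ᵥ (s ⨯₃ z) ≠ 0) (h1 : d ⬝ᵥ s = 0) (h2 : d ⬝ᵥ z = 0)
    (h3 : d ⬝ᵥ (s ⨯₃ z) = 0) : d = 0 := by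
  have key : ((s ⨯₃ z) ⬝ᵥ (s ⨯₃ z)) • d =
      (d ⬝ᵥ s) • (z ⨯₃ (s ⨯₃ z)) + (d ⬝ᵥ z) • ((s ⨯₃ z) ⨯₃ s) + (d ⬝ᵥ (s ⨯₃ z)) • (s ⨯₃ z) := by
    funext i
    fin_cases i <;> simp [cross_apply, dotProduct, Fin.sum_univ_three] <;> ring
  rw [h1, h2, h3, zero_smul, zero_smul, zero_smul, add_zero, add_zero] at key
  exact (smul_eq_zero.1 key).resolve_left h

/-- A rotation fixing a vector and another one with non-singular cross product is the identity. -/
theorem rot_eq_one {A : M3} (hA : IsRot A) {s z : V3} (h : (s ⨯₃ z) ⬝ᵥ (s ⨯₃ z) ≠ 0) (hs : A *ᵥ s = s)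
    (hz : A *ᵥ z = z) : A = 1 := by
  refine Matrix.ext_iff_mulVec.2 fun x => ?_
  rw [one_mulVec, ← sub_eq_zero]
  have hn : A *ᵥ (s ⨯₃ z) = s ⨯₃ z := by rw [hA.cross, hs, hz]
  refine eq_zero_of_dots h ?_ ?_ ?_ <;> rw [sub_dotProduct]
  · conv_lhs => arg 1; rw [← hs, hA.dot]
    rw [sub_self]
  · conv_lhs => arg 1; rw [← hz, hA.dot]
    rw [sub_self]
  · conv_lhs => arg 1; rw [← hn, hA.dot]
    rw [sub_self]

theorem cross_ne_of_sing {s z : V3} (hs : s ⬝ᵥ s = 0) (h : s ⬝ᵥ z ≠ 0) : (s ⨯₃ z) ⬝ᵥ (s ⨯₃ z) ≠ 0 := by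
  rw [dot_cross_self, hs, zero_mul, zero_sub, neg_ne_zero]
  exact mul_ne_zero h h

/-! ### Unipotent rotations -/

section Unipotent

variable [Finite F] {p : ℕ} [hpf : Fact p.Prime] [CharP F p]

theorem exists_singular_fixed {A : M3} (hA : IsRot A) (hAp : A ^ p = 1) (hA1 : A ≠ 1) :
    ∃ s : V3, s ≠ 0 ∧ s ⬝ᵥ s = 0 ∧ A *ᵥ s = s := by
  have hT := trace_of_pow hAp
  have h := hA.cube
  rw [hT] at h
  set N := A - 1 with hN
  have h3 : N * (N * N) = 0 := by
    rw [← h, hN]
    simp only [sub_mul, mul_sub, mul_one, one_mul, Matrix.mul_assoc]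
    module
  have main : ∀ y : V3, N *ᵥ (N *ᵥ y) = 0 → N *ᵥ y ≠ 0 →
      ∃ s : V3, s ≠ 0 ∧ s ⬝ᵥ s = 0 ∧ A *ᵥ s = s := by
    intro y hy0 hy
    have hfix : A *ᵥ (N *ᵥ y) = N *ᵥ y := by
      rw [show A = N + 1 by rw [hN]; abel, add_mulVec, hy0, zero_add, one_mulVec]
    refine ⟨_, hy, ?_, hfix⟩
    conv_lhs => arg 1; rw [hN, sub_mulVec, one_mulVec]
    rw [sub_dotProduct]
    nth_rw 1 [← hfix]
    rw [hA.dot, sub_self]
  by_cases h2 : N * N = 0
  · obtain ⟨y, hy⟩ : ∃ y, N *ᵥ y ≠ 0 := by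
      by_contra hc
      push Not at hc
      refine hA1 (sub_eq_zero.1 (Matrix.ext_iff_mulVec.2 fun y => ?_))
      rw [zero_mulVec]; exact hc y
    exact main y (by rw [mulVec_mulVec, h2, zero_mulVec]) hy
  · obtain ⟨y, hy⟩ : ∃ y, (N * N) *ᵥ y ≠ 0 := by
      by_contra hc
      push Not at hc
      refine h2 (Matrix.ext_iff_mulVec.2 fun y => ?_)
      rw [zero_mulVec]; exact hc y
    refine main (N *ᵥ y) ?_ (by rwa [mulVec_mulVec])
    rw [mulVec_mulVec, mulVec_mulVec, Matrix.mul_assoc, h3, zero_mulVec]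

theorem fixes_of_pow {A : M3} (hAp : A ^ p = 1) {z : V3} {i : ℕ} (hi : ¬ p ∣ i) (h : (A ^ i) *ᵥ z = z) :
    A *ᵥ z = z := by
  have hfix : ∀ j, ((A ^ i) ^ j) *ᵥ z = z := by
    intro j
    induction j with
    | zero => rw [pow_zero, one_mulVec]
    | succ j ih => rw [pow_succ, ← mulVec_mulVec, h, ih]
  obtain ⟨j, hj⟩ := Nat.exists_mul_mod_eq_one_of_coprime
    (k := p) (n := i) ((hpf.out.coprime_iff_not_dvd.2 hi).symm) hpf.out.one_lt
  have := hfix j
  rwa [← pow_mul, ← Nat.mod_add_div (i * j) p, hj.2, pow_add, pow_mul A p, hAp, one_pow, mul_one,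
    pow_one] at this

/-- The powers of a non-trivial unipotent rotation are transitive on each fibre off the fixed singular line. -/
theorem exists_pow_fibre {A : M3} (hA : IsRot A) (hF : Nat.card F = p) (h2 : (2 : F) ≠ 0) (hAp : A ^ p = 1)
    (hA1 : A ≠ 1) {s : V3} (hs : s ⬝ᵥ s = 0) (hfix : A *ᵥ s = s) {z z' : V3} (hz : s ⬝ᵥ z ≠ 0)
    (h1 : s ⬝ᵥ z' = s ⬝ᵥ z) (hn : z' ⬝ᵥ z' = z ⬝ᵥ z) : ∃ i : ℕ, (A ^ i) *ᵥ z = z' := by
  classical
  haveI := Fintype.ofFinite F
  set n := s ⨯₃ z with hnd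
  have hns : s ⬝ᵥ n = 0 := dot_self_cross s z
  set S : Finset V3 := Finset.univ.filter fun x => s ⬝ᵥ x = s ⬝ᵥ z ∧ x ⬝ᵥ x = z ⬝ᵥ z with hS
  have hinj : Set.InjOn (fun x => x ⬝ᵥ n) (S : Set V3) := by
    intro x hx y hy hxy
    simp only [hS, Finset.coe_filter, Finset.mem_univ, true_and, Set.mem_ofPred_eq] at hx hy
    simp only at hxy
    set t := ((x - y) ⬝ᵥ z) / (s ⬝ᵥ z) with ht
    have hd : x - y - t • s = 0 := by
      refine eq_zero_of_dots (cross_ne_of_sing hs hz) ?_ ?_ ?_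
      · rw [sub_dotProduct, sub_dotProduct, smul_dotProduct, dotProduct_comm x s, dotProduct_comm y s, hx.1,
          hy.1, hs, smul_zero, sub_self, sub_zero]
      · rw [sub_dotProduct, smul_dotProduct, ht, smul_eq_mul, div_mul_cancel₀ _ hz, sub_self]
      · rw [← hnd, sub_dotProduct, smul_dotProduct, hns, smul_zero, sub_zero, sub_dotProduct, hxy, sub_self]
    rw [sub_sub, sub_eq_zero] at hd
    have hnorm := hx.2
    rw [hd, add_dotProduct, dotProduct_add, dotProduct_add, smul_dotProduct, dotProduct_smul, dotProduct_smul,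
      smul_dotProduct, hs, hy.2, dotProduct_comm y s, hy.1] at hnorm
    simp only [smul_eq_mul, mul_zero, add_zero] at hnorm
    have : t * ((2 : F) * (s ⬝ᵥ z)) = 0 := by linear_combination hnorm
    rw [(mul_eq_zero.1 this).resolve_right (mul_ne_zero h2 hz), zero_smul, add_zero] at hd
    exact hd
  have hcard : S.card ≤ p := by
    have := Finset.card_le_card_of_injOn (fun x => x ⬝ᵥ n) (fun x _ => Finset.mem_univ _) hinj
    rwa [Finset.card_univ, ← Nat.card_eq_fintype_card, hF] at this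
  have hzfix : A *ᵥ z ≠ z := fun e => hA1 (rot_eq_one hA (cross_ne_of_sing hs hz) hfix e)
  have hsi : ∀ i, (A ^ i) *ᵥ s = s := fun i => by
    induction i with
    | zero => rw [pow_zero, one_mulVec]
    | succ i ih => rw [pow_succ, ← mulVec_mulVec, hfix, ih]
  set O : Finset V3 := (Finset.range p).image fun i => (A ^ i) *ᵥ z with hO
  have hOS : O ⊆ S := by
    intro x hx
    simp only [hO, Finset.mem_image, Finset.mem_range] at hx
    obtain ⟨i, -, rfl⟩ := hx
    simp only [hS, Finset.mem_filter, Finset.mem_univ, true_and]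
    refine ⟨?_, (hA.pow i).dot z z⟩
    conv_lhs => arg 1; rw [← hsi i]
    exact (hA.pow i).dot s z
  have key : ∀ i j, i < j → j < p → (A ^ i) *ᵥ z ≠ (A ^ j) *ᵥ z := by
    intro i j hij hj e
    refine hzfix (fixes_of_pow (p := p) hAp (i := j - i) (fun hd => ?_) ?_)
    · have := Nat.le_of_dvd (by omega) hd
      omega
    · have e' := congrArg (fun x => (A ^ (p - i)) *ᵥ x) e
      simp only [mulVec_mulVec, ← pow_add] at e'
      rw [show p - i + j = (j - i) + p by omega] at e'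
      rw [show p - i + i = p by omega, hAp, one_mulVec] at e'
      rw [pow_add, hAp, mul_one] at e'
      exact e'.symm
  have hOc : O.card = p := by
    rw [hO, Finset.card_image_of_injOn, Finset.card_range]
    intro i hi j hj e
    simp only [Finset.coe_range, Set.mem_Iio] at hi hj
    rcases lt_trichotomy i j with h | h | h
    · exact absurd e (key i j h hj)
    · exact h
    · exact absurd e.symm (key j i h hi)
  have hmem : z' ∈ S := by simp [hS, h1, hn]
  rw [← Finset.eq_of_subset_of_card_le hOS (by rw [hOc]; exact hcard)] at hmem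
  simp only [hO, Finset.mem_image] at hmem
  obtain ⟨i, -, hi⟩ := hmem
  exact ⟨i, hi⟩

end Unipotent

/-! ### Counting axes -/

section Count

variable [Finite F] {p : ℕ} [Fact p.Prime] [CharP F p]

theorem act_inj (g : G3) {x y : V3} (h : (g : M3) *ᵥ x = (g : M3) *ᵥ y) : x = y := by
  have := congrArg (fun v => ((g⁻¹ : G3) : M3) *ᵥ v) h
  simpa [mulVec_mulVec, ← Units.val_mul] using this

/-- The fixed space. -/
def fixSp (g : M3) : Submodule F V3 := LinearMap.eqLocus (Matrix.toLin' g) LinearMap.id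

theorem mem_fixSp {g : M3} {x : V3} : x ∈ fixSp g ↔ g *ᵥ x = x := by
  simp [fixSp]

theorem smul_span (g : M3) (s : V3) :
    (Submodule.span F {s}).map (Matrix.toLin' g) = Submodule.span F {g *ᵥ s} := by
  rw [Submodule.map_span, Set.image_singleton, Matrix.toLin'_apply]

theorem map_le_fixSp_iff (g h : G3) (L : Submodule F V3) :
    L.map (Matrix.toLin' (h : M3)) ≤ fixSp ((h * g * h⁻¹ : G3) : M3) ↔ L ≤ fixSp (g : M3) := by
  rw [Submodule.map_le_iff_le_comap]
  have : ∀ x, Matrix.toLin' (h : M3) x ∈ fixSp ((h * g * h⁻¹ : G3) : M3) ↔ x ∈ fixSp (g : M3) := by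
    intro x
    rw [Matrix.toLin'_apply, mem_fixSp, mem_fixSp, mulVec_mulVec, ← Units.val_mul, inv_mul_cancel_right,
      Units.val_mul, ← mulVec_mulVec]
    exact ⟨fun e => act_inj h e, fun e => by rw [e]⟩
  exact ⟨fun hl x hx => (this x).1 (hl hx), fun hl x hx => (this x).2 (hl hx)⟩

theorem map_fixSp (g h : G3) :
    (fixSp (g : M3)).map (Matrix.toLin' (h : M3)) = fixSp ((h * g * h⁻¹ : G3) : M3) := by
  refine le_antisymm ((map_le_fixSp_iff g h _).2 le_rfl) fun x hx => ?_
  have e := (map_le_fixSp_iff (h * g * h⁻¹) h⁻¹ (fixSp ((h * g * h⁻¹ : G3) : M3))).2 le_rfl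
  rw [show h⁻¹ * (h * g * h⁻¹) * h⁻¹⁻¹ = g by group] at e
  refine ⟨((h⁻¹ : G3) : M3) *ᵥ x, e ⟨x, hx, Matrix.toLin'_apply _ _⟩, ?_⟩
  rw [Matrix.toLin'_apply, mulVec_mulVec, ← Units.val_mul, mul_inv_cancel, Units.val_one, one_mulVec]

set_option maxHeartbeats 1600000 in
/-- A finite rotation group of order prime to `p` containing the octahedral group permutes the coordinate axes. -/
theorem octahedral_perm (hp : 3 < p) (G : Subgroup G3) (hrot : ∀ g ∈ G, IsRot (g : M3))
    (hdvd : ∀ g ∈ G, g ^ p = 1 → g = 1) {r f w : G3} (hr : r ∈ G) (hr4 : orderOf r = 4)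
    (hre : (r : M3) *ᵥ Pi.single (2 : Fin 3) (1 : F) = Pi.single 2 1) (hf : f ∈ G)
    (hfe : (f : M3) *ᵥ Pi.single (2 : Fin 3) (1 : F) = -Pi.single 2 1)
    (hw : w ∈ G) (hw0 : (w : M3) *ᵥ Pi.single (2 : Fin 3) (1 : F) = Pi.single 0 1)
    (hw1 : (w : M3) *ᵥ Pi.single (0 : Fin 3) (1 : F) = Pi.single 1 1) :
    ∀ g ∈ G, ∀ j : Fin 3, ∃ i : Fin 3, ∀ k, k ≠ i → (g : M3) k j = 0 := by
  classical
  haveI := Fintype.ofFinite F
  haveI : Finite (Submodule F V3) := Finite.of_injective (fun L => (L : Set V3)) SetLike.coe_injective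
  haveI := Fintype.ofFinite (Submodule F V3)
  let e : Fin 3 → V3 := fun i => Pi.single i 1
  let act : G → Submodule F V3 → Submodule F V3 := fun g L => L.map (Matrix.toLin' ((g : G3) : M3))
  letI : MulAction G (Submodule F V3) :=
    { smul := act
      one_smul := fun L => by
        show act 1 L = L
        simp [act]
      mul_smul := fun g h L => by
        show act (g * h) L = act g (act h L)
        simp only [act, Subgroup.coe_mul, Units.val_mul, Matrix.toLin'_mul, Submodule.map_comp] }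
  have smul_eq : ∀ (g : G) (L : Submodule F V3), g • L = L.map (Matrix.toLin' ((g : G3) : M3)) := fun g L => rfl
  -- centralisers of lines
  let C : Submodule F V3 → Finset G := fun L => Finset.univ.filter fun g => L ≤ fixSp ((g : G3) : M3)
  have mem_C : ∀ {L} {g : G}, g ∈ C L ↔ L ≤ fixSp ((g : G3) : M3) := fun {L g} => by simp [C]
  have hC : ∀ (h : G) L, (C (h • L)).card = (C L).card := by
    intro h L
    refine Finset.card_bij' (fun g _ => h⁻¹ * g * h) (fun g _ => h * g * h⁻¹) ?_ ?_ ?_ ?_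
    · intro g hg
      rw [mem_C] at hg ⊢
      rw [← map_le_fixSp_iff _ (h : G3)]
      have e1 : (h : G3) * ((h⁻¹ * g * h : G) : G3) * (h : G3)⁻¹ = (g : G3) := by
        simp only [Subgroup.coe_mul, Subgroup.coe_inv]; group
      rw [e1]; exact hg
    · intro g hg
      rw [mem_C] at hg ⊢
      exact (map_le_fixSp_iff _ (h : G3) _).2 hg
    · intro g _; group
    · intro g _; group
  -- the axis of a non-trivial element
  have axis : ∀ g : G, g ≠ 1 → ∃ s : V3, s ⬝ᵥ s ≠ 0 ∧ fixSp ((g : G3) : M3) = F ∙ s := by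
    intro g hg
    obtain ⟨s, hs, hgs, huniq⟩ := exists_axis (p := p) (hrot _ g.2) hp (fun e => hg (Subtype.ext
      (hdvd _ g.2 (Units.ext (by rw [Units.val_pow_eq_pow_val, e, Units.val_one])))))
    refine ⟨s, hs, le_antisymm (fun v hv => huniq v (mem_fixSp.1 hv)) ?_⟩
    rw [Submodule.span_singleton_le_iff_mem, mem_fixSp]; exact hgs
  let X : Finset (Submodule F V3) :=
    (Finset.univ.erase (1 : G)).image fun g : G => fixSp ((g : G3) : M3)
  have mem_X : ∀ {L}, L ∈ X ↔ ∃ g : G, g ≠ 1 ∧ fixSp ((g : G3) : M3) = L := fun {L} => by simp [X]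
  have hXline : ∀ L ∈ X, ∃ s : V3, s ⬝ᵥ s ≠ 0 ∧ L = F ∙ s := by
    intro L hL
    obtain ⟨g, hg, rfl⟩ := mem_X.1 hL
    exact axis g hg
  have h2C : ∀ L ∈ X, 2 ≤ (C L).card := by
    intro L hL
    obtain ⟨g, hg, rfl⟩ := mem_X.1 hL
    refine Finset.one_lt_card.2 ⟨g, mem_C.2 le_rfl, 1, mem_C.2 fun x _ => ?_, hg⟩
    simp [mem_fixSp]
  have hXinv : ∀ (h : G), ∀ L ∈ X, h • L ∈ X := by
    intro h L hL
    obtain ⟨g, hg, rfl⟩ := mem_X.1 hL
    refine mem_X.2 ⟨h * g * h⁻¹, fun e => hg ?_, ?_⟩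
    · calc g = h⁻¹ * (h * g * h⁻¹) * h := by group
        _ = 1 := by rw [e]; group
    · have hrfl : ((h * g * h⁻¹ : G) : G3) = (h : G3) * g * (h : G3)⁻¹ := by simp
      rw [hrfl, smul_eq]
      exact (map_fixSp _ _).symm
  -- the class equation
  have htot : ∑ L ∈ X, ((C L).card - 1) + 1 = Fintype.card G := by
    have h1 := Finset.card_eq_sum_card_fiberwise (s := Finset.univ.erase (1 : G)) (t := X)
      (f := fun g : G => fixSp ((g : G3) : M3)) (fun g hg => by
        exact mem_X.2 ⟨g, by simpa using hg, rfl⟩)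
    have h2 : ∀ L ∈ X, ((Finset.univ.erase (1 : G)).filter fun g : G => fixSp ((g : G3) : M3) = L) =
        (C L).erase 1 := by
      intro L hL
      ext g
      simp only [Finset.mem_filter, Finset.mem_erase, Finset.mem_univ, and_true, mem_C]
      refine ⟨fun h => ⟨h.1, h.2.ge⟩, fun h => ⟨h.1, ?_⟩⟩
      obtain ⟨s, hs, rfl⟩ := hXline L hL
      obtain ⟨s', hs', e'⟩ := axis g h.1
      have hmem : s ∈ F ∙ s' := e' ▸ h.2 (Submodule.mem_span_singleton_self s)
      obtain ⟨c, rfl⟩ := Submodule.mem_span_singleton.1 hmem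
      have hc : c ≠ 0 := fun hc => hs (by rw [hc, zero_smul, zero_dotProduct])
      rw [e', Submodule.span_singleton_smul_eq (isUnit_iff_ne_zero.2 hc)]
    rw [Finset.card_erase_of_mem (Finset.mem_univ _), Finset.card_univ,
      Finset.sum_congr rfl (fun L hL => by
        rw [h2 L hL, Finset.card_erase_of_mem (mem_C.2 fun x _ => by simp [mem_fixSp])])] at h1
    have := Fintype.card_pos (α := G)
    omega
  let orb : Submodule F V3 → Finset (Submodule F V3) := fun L => Finset.univ.image fun g : G => g • L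
  have orb_sub : ∀ L ∈ X, orb L ⊆ X := by
    intro L hL M hM
    simp only [orb, Finset.mem_image] at hM
    obtain ⟨g, -, rfl⟩ := hM
    exact hXinv g L hL
  -- one orbit
  have horb : ∀ L ∈ X, ∃ k, (k = 1 ∨ k = 2) ∧ (orb L).card * (k * (C L).card) = Fintype.card G ∧
      ∑ M ∈ orb L, ((C M).card - 1) = (orb L).card * ((C L).card - 1) ∧
      ((∃ g : G, ∀ x ∈ L, ((g : G3) : M3) *ᵥ x = -x) → k = 2) := by
    intro L hL
    obtain ⟨s, hs, hLs⟩ := hXline L hL
    have h2 : (2 : F) ≠ 0 := by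
      intro h
      have : ((2 : ℕ) : F) = 0 := by simpa using h
      rw [CharP.cast_eq_zero_iff F p] at this
      have := Nat.le_of_dvd two_pos this
      omega
    have hs0 : s ≠ 0 := fun h => hs (by rw [h, zero_dotProduct])
    let C' : Finset G := Finset.univ.filter fun g => ((g : G3) : M3) *ᵥ s = -s
    have memC : ∀ g : G, g ∈ C L ↔ ((g : G3) : M3) *ᵥ s = s := fun g => by
      rw [mem_C, hLs, Submodule.span_singleton_le_iff_mem, mem_fixSp]
    have hstab : (Finset.univ.filter fun g : G => g • L = L) = C L ∪ C' := by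
      ext g
      simp only [Finset.mem_filter, Finset.mem_univ, true_and, Finset.mem_union, C', memC]
      rw [smul_eq, hLs, smul_span]
      constructor
      · intro h
        have hm : ((g : G3) : M3) *ᵥ s ∈ F ∙ s := h ▸ Submodule.mem_span_singleton_self _
        obtain ⟨c, hc⟩ := Submodule.mem_span_singleton.1 hm
        have hd := (hrot _ g.2).dot s s
        rw [← hc, smul_dotProduct, dotProduct_smul, smul_smul, smul_eq_mul] at hd
        rcases mul_self_eq_one_iff.1 ((mul_eq_right₀ hs).1 hd) with rfl | rfl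
        · left; rw [← hc, one_smul]
        · right; rw [← hc, neg_one_smul]
      · rintro (h | h) <;> rw [h]
        rw [← Set.neg_singleton, Submodule.span_neg]
    have hdis : Disjoint (C L) C' := by
      rw [Finset.disjoint_left]
      intro g h h'
      simp only [C', Finset.mem_filter, Finset.mem_univ, true_and] at h'
      rw [memC, h', neg_eq_iff_add_eq_zero, ← two_smul F] at h
      exact hs0 ((smul_eq_zero.1 h).resolve_left h2)
    have hcardS : Fintype.card G = (orb L).card * ((C L).card + C'.card) := by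
      have := MulAction.card_orbit_mul_card_stabilizer_eq_card_group G L
      rw [← this, ← Finset.card_union_of_disjoint hdis, ← hstab]
      congr 1
      · rw [← Set.toFinset_card]
        congr 1
        ext M
        simp [orb, MulAction.mem_orbit_iff]
      · rw [Fintype.card_subtype]
        congr 1
    have hsum : ∑ M ∈ orb L, ((C M).card - 1) = (orb L).card * ((C L).card - 1) := by
      rw [Finset.sum_congr rfl fun M hM => ?_, Finset.sum_const, smul_eq_mul]
      simp only [orb, Finset.mem_image] at hM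
      obtain ⟨g, -, rfl⟩ := hM
      rw [hC]
    rcases C'.eq_empty_or_nonempty with he | ⟨h, hh⟩
    · refine ⟨1, Or.inl rfl, ?_, hsum, ?_⟩
      · rw [hcardS, he, Finset.card_empty, add_zero, one_mul]
      · rintro ⟨g, hg⟩
        have : g ∈ C' := by
          simp only [C', Finset.mem_filter, Finset.mem_univ, true_and]
          exact hg s (hLs ▸ Submodule.mem_span_singleton_self s)
        rw [he] at this; simp at this
    · refine ⟨2, Or.inr rfl, ?_, hsum, fun _ => rfl⟩
      have hh' : ((h : G3) : M3) *ᵥ s = -s := by simpa [C'] using hh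
      have : C'.card = (C L).card := by
        refine Finset.card_bij' (fun g _ => h⁻¹ * g) (fun g _ => h * g) ?_ ?_ ?_ ?_
        · intro g hg
          rw [memC]
          simp only [C', Finset.mem_filter, Finset.mem_univ, true_and] at hg
          refine act_inj (h : G3) ?_
          rw [mulVec_mulVec, ← Units.val_mul, hh', Subgroup.coe_mul, Subgroup.coe_inv, mul_inv_cancel_left, hg]
        · intro g hg
          rw [memC] at hg
          simp only [C', Finset.mem_filter, Finset.mem_univ, true_and]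
          rw [Subgroup.coe_mul, Units.val_mul, ← mulVec_mulVec, hg, hh']
        · intro g _; group
        · intro g _; group
      rw [hcardS, this, two_mul]
  -- the third coordinate axis
  set L₀ : Submodule F V3 := F ∙ e 2 with hL₀
  have hr1 : (⟨r, hr⟩ : G) ≠ 1 := fun h => by
    have := congrArg (fun g : G => orderOf (g : G3)) h
    simp [hr4] at this
  have hrC : (⟨r, hr⟩ : G) ∈ C L₀ := by
    rw [mem_C, hL₀, Submodule.span_singleton_le_iff_mem, mem_fixSp]; exact hre
  have hL₀X : L₀ ∈ X := by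
    obtain ⟨s, hs, es⟩ := axis _ hr1
    refine mem_X.2 ⟨_, hr1, ?_⟩
    have hm : e 2 ∈ F ∙ s := es ▸ mem_fixSp.2 hre
    obtain ⟨c, hc⟩ := Submodule.mem_span_singleton.1 hm
    have hc0 : c ≠ 0 := fun h => by
      have := congrFun hc 2
      simp [h, e] at this
    rw [es, hL₀, ← hc, Submodule.span_singleton_smul_eq (isUnit_iff_ne_zero.2 hc0)]
  have h4 : 4 ∣ (C L₀).card := by
    let H : Subgroup G :=
      { carrier := {g | L₀ ≤ fixSp ((g : G3) : M3)}
        one_mem' := fun x _ => by simp [mem_fixSp]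
        mul_mem' := fun {a b} ha hb x hx => by
          rw [mem_fixSp, Subgroup.coe_mul, Units.val_mul, ← mulVec_mulVec, mem_fixSp.1 (hb hx),
            mem_fixSp.1 (ha hx)]
        inv_mem' := fun {a} ha x hx => by
          rw [mem_fixSp, Subgroup.coe_inv]
          refine act_inj (a : G3) ?_
          rw [mulVec_mulVec, ← Units.val_mul, mul_inv_cancel, Units.val_one, one_mulVec,
            mem_fixSp.1 (ha hx)] }
    have hmem : (⟨r, hr⟩ : G) ∈ H := mem_C.1 hrC
    have hd : orderOf (⟨⟨r, hr⟩, hmem⟩ : H) ∣ Nat.card H := orderOf_dvd_natCard _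
    rw [Subgroup.orderOf_mk, Subgroup.orderOf_mk, hr4, Nat.card_eq_fintype_card, Fintype.card_subtype] at hd
    exact hd
  obtain ⟨k₁, -, hk₁, hs₁, hk₁2⟩ := horb L₀ hL₀X
  have hk2 : k₁ = 2 := hk₁2 ⟨⟨f, hf⟩, fun x hx => by
    obtain ⟨c, rfl⟩ := Submodule.mem_span_singleton.1 hx
    rw [mulVec_smul, hfe, smul_neg]⟩
  rw [hk2] at hk₁
  have hne01 : ∀ i j : Fin 3, i ≠ j → F ∙ e i ≠ F ∙ e j := by
    intro i j hij h
    obtain ⟨c, hc⟩ := Submodule.mem_span_singleton.1
      (h ▸ Submodule.mem_span_singleton_self (e i) : e i ∈ F ∙ e j)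
    have := congrFun hc i
    simp [e, hij] at this
  have horb₀ : ∀ i : Fin 3, F ∙ e i ∈ orb L₀ := by
    intro i
    simp only [orb, Finset.mem_image, Finset.mem_univ, true_and]
    fin_cases i
    · exact ⟨⟨w, hw⟩, by rw [smul_eq, hL₀, smul_span]; simp only [e]; rw [hw0]; rfl⟩
    · refine ⟨⟨w, hw⟩ * ⟨w, hw⟩, ?_⟩
      rw [smul_eq, hL₀, smul_span]
      simp only [e, Subgroup.coe_mul, Units.val_mul]
      rw [← mulVec_mulVec, hw0, hw1]; rfl
    · exact ⟨1, one_smul _ _⟩
  have hn₁ : 3 ≤ (orb L₀).card := by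
    calc 3 = (Finset.univ.image fun i : Fin 3 => F ∙ e i).card := by
          rw [Finset.card_image_of_injective _ fun i j h => by_contra fun hij => hne01 i j hij h]
          simp
      _ ≤ _ := Finset.card_le_card fun M hM => by
          simp only [Finset.mem_image, Finset.mem_univ, true_and] at hM
          obtain ⟨i, rfl⟩ := hM
          exact horb₀ i
  have ha4 : 4 ≤ (C L₀).card := Nat.le_of_dvd (by have := h2C _ hL₀X; omega) h4
  -- split off orbits
  have split : ∀ A : Finset (Submodule F V3), A ⊆ X → (∀ (h : G), ∀ M ∈ A, h • M ∈ A) → ∀ L ∈ A,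
      orb L ⊆ A ∧ ∑ M ∈ A, ((C M).card - 1) =
        ∑ M ∈ orb L, ((C M).card - 1) + ∑ M ∈ A \ orb L, ((C M).card - 1) ∧
      ∀ (h : G), ∀ M ∈ A \ orb L, h • M ∈ A \ orb L := by
    intro A _ hAinv L hL
    have hsub : orb L ⊆ A := by
      intro M hM
      simp only [orb, Finset.mem_image] at hM
      obtain ⟨g, -, rfl⟩ := hM
      exact hAinv g L hL
    refine ⟨hsub, ?_, ?_⟩
    · rw [add_comm, Finset.sum_sdiff hsub]
    · intro h M hM
      simp only [Finset.mem_sdiff, orb, Finset.mem_image, Finset.mem_univ, true_and, not_exists] at hM ⊢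
      refine ⟨hAinv h M hM.1, fun g hg => hM.2 (h⁻¹ * g) ?_⟩
      rw [mul_smul, hg, inv_smul_smul]
  obtain ⟨-, e₁, inv₁⟩ := split X (subset_refl _) hXinv L₀ hL₀X
  set A₁ := X \ orb L₀
  have hA₁ : A₁ ⊆ X := Finset.sdiff_subset
  have hpos := Fintype.card_pos (α := G)
  have quarter : ∀ {n k a g : ℕ}, (k = 1 ∨ k = 2) → 2 ≤ a → n * (k * a) = g → g ≤ 4 * (n * (a - 1)) := by
    intro n k a g hk ha hg
    rw [← hg]
    have : k * a ≤ 4 * (a - 1) := by rcases hk with rfl | rfl <;> omega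
    calc n * (k * a) ≤ n * (4 * (a - 1)) := Nat.mul_le_mul_left _ this
      _ = 4 * (n * (a - 1)) := by ring
  have threeEighths : ∀ {n a g : ℕ}, 4 ≤ a → n * (2 * a) = g → 3 * g ≤ 8 * (n * (a - 1)) := by
    intro n a g ha hg
    rw [← hg]
    calc 3 * (n * (2 * a)) = n * (6 * a) := by ring
      _ ≤ n * (8 * (a - 1)) := Nat.mul_le_mul_left _ (by omega)
      _ = 8 * (n * (a - 1)) := by ring
  have hn3 : (orb L₀).card = 3 := by
    rcases A₁.eq_empty_or_nonempty with hA | ⟨L₂, hL₂⟩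
    · rw [hA, Finset.sum_empty, add_zero, hs₁] at e₁
      rw [e₁, ← hk₁] at htot
      have := threeEighths ha4 hk₁
      have e2 := Nat.mul_sub (orb L₀).card (C L₀).card 1
      have i1 : (orb L₀).card ≤ (orb L₀).card * (C L₀).card := Nat.le_mul_of_pos_right _ (by omega)
      have r1 : (orb L₀).card * (2 * (C L₀).card) = 2 * ((orb L₀).card * (C L₀).card) := by ring
      omega
    obtain ⟨k₂, hk₂, hc₂, hs₂, -⟩ := horb L₂ (hA₁ hL₂)
    obtain ⟨-, e₂, inv₂⟩ := split A₁ hA₁ inv₁ L₂ hL₂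
    set A₂ := A₁ \ orb L₂
    have hA₂ : A₂ ⊆ X := (Finset.sdiff_subset).trans hA₁
    rcases A₂.eq_empty_or_nonempty with hA | ⟨L₃, hL₃⟩
    · rw [hA, Finset.sum_empty, add_zero, hs₂] at e₂
      rw [e₁, hs₁, e₂] at htot
      refine (orbit_arith_two ha4 (h2C _ (hA₁ hL₂)) hk₂ hn₁ ?_ hk₁ hc₂ htot).elim
      exact Finset.card_pos.2 ⟨L₂, by simp only [orb, Finset.mem_image]; exact ⟨1, by simp⟩⟩
    obtain ⟨k₃, hk₃, hc₃, hs₃, -⟩ := horb L₃ (hA₂ hL₃)
    obtain ⟨-, e₃, inv₃⟩ := split A₂ hA₂ inv₂ L₃ hL₃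
    set A₃ := A₂ \ orb L₃
    have hA₃ : A₃ ⊆ X := (Finset.sdiff_subset).trans hA₂
    rcases A₃.eq_empty_or_nonempty with hA | ⟨L₄, hL₄⟩
    · rw [hA, Finset.sum_empty, add_zero, hs₃] at e₃
      rw [e₁, hs₁, e₂, hs₂, e₃, ← add_assoc] at htot
      exact orbit_arith_three h4 (by omega) (h2C _ (hA₁ hL₂)) (h2C _ (hA₂ hL₃)) hk₂ hk₃ hn₁ hk₁ hc₂ hc₃ htot
    obtain ⟨k₄, hk₄, hc₄, hs₄, -⟩ := horb L₄ (hA₃ hL₄)
    obtain ⟨-, e₄, -⟩ := split A₃ hA₃ inv₃ L₄ hL₄
    rw [e₁, hs₁, e₂, hs₂, e₃, hs₃, e₄, hs₄] at htot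
    have q1 := threeEighths ha4 hk₁
    have q2 := quarter hk₂ (h2C _ (hA₁ hL₂)) hc₂
    have q3 := quarter hk₃ (h2C _ (hA₂ hL₃)) hc₃
    have q4 := quarter hk₄ (h2C _ (hA₃ hL₄)) hc₄
    omega
  have heq : (Finset.univ.image fun i : Fin 3 => F ∙ e i) = orb L₀ := by
    refine Finset.eq_of_subset_of_card_le (fun M hM => ?_) ?_
    · simp only [Finset.mem_image, Finset.mem_univ, true_and] at hM
      obtain ⟨i, rfl⟩ := hM
      exact horb₀ i
    · rw [hn3, Finset.card_image_of_injective _ fun i j h => by_contra fun hij => hne01 i j hij h]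
      simp
  intro g hg j
  obtain ⟨h, -, hh⟩ : ∃ h : G, h ∈ Finset.univ ∧ h • L₀ = F ∙ e j := by
    simpa [orb] using horb₀ j
  have : (⟨g, hg⟩ : G) • (F ∙ e j) ∈ orb L₀ := by
    simp only [orb, Finset.mem_image, Finset.mem_univ, true_and]
    exact ⟨⟨g, hg⟩ * h, by rw [mul_smul, hh]⟩
  rw [← heq] at this
  simp only [Finset.mem_image, Finset.mem_univ, true_and] at this
  obtain ⟨i, hi⟩ := this
  refine ⟨i, fun k hk => ?_⟩
  rw [smul_eq, smul_span] at hi
  have hm : (g : M3) *ᵥ e j ∈ F ∙ e i := hi ▸ Submodule.mem_span_singleton_self _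
  obtain ⟨c, hc⟩ := Submodule.mem_span_singleton.1 hm
  have := congrFun hc k
  simpa [e, hk] using this.symm

end Count

/-! ### Transitivity -/

section Main

variable [Finite F]

/-- A permutation matrix as an element of the general linear group. -/
def permGL : Equiv.Perm (Fin 3) →* G3 where
  toFun σ :=
    { val := σ⁻¹.permMatrix F
      inv := σ.permMatrix F
      val_inv := by rw [← Matrix.permMatrix_mul, mul_inv_cancel, Matrix.permMatrix_one]
      inv_val := by rw [← Matrix.permMatrix_mul, inv_mul_cancel, Matrix.permMatrix_one] }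
  map_one' := Units.ext (by simp)
  map_mul' σ τ := Units.ext (by simp [← Matrix.permMatrix_mul, _root_.mul_inv_rev])

theorem coe_permGL (σ : Equiv.Perm (Fin 3)) : (permGL (F := F) σ : M3) = σ⁻¹.permMatrix F := rfl

theorem permGL_mulVec (σ : Equiv.Perm (Fin 3)) (j : Fin 3) :
    (permGL (F := F) σ : M3) *ᵥ Pi.single j 1 = Pi.single (σ j) 1 := by
  funext i
  rw [coe_permGL, Matrix.permMatrix_mulVec]
  simp [Pi.single_apply, Equiv.symm_apply_eq]

theorem orth_permGL (σ : Equiv.Perm (Fin 3)) : (permGL (F := F) σ : M3)ᵀ * (permGL (F := F) σ : M3) = 1 := by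
  rw [coe_permGL, Matrix.transpose_permMatrix, inv_inv, ← Matrix.permMatrix_mul, inv_mul_cancel,
    Matrix.permMatrix_one]

theorem conj_permGL (σ : Equiv.Perm (Fin 3)) (g : G3) :
    ((permGL σ * g * (permGL σ)⁻¹ : G3) : M3) = (g : M3).submatrix ⇑(σ⁻¹) ⇑(σ⁻¹) := by
  rw [← map_inv, Units.val_mul, Units.val_mul, coe_permGL, coe_permGL, inv_inv]
  simp only [Equiv.Perm.permMatrix, PEquiv.mul_toMatrix_toPEquiv, PEquiv.toMatrix_toPEquiv_mul]
  ext i j
  simp

/-- Every sphere of non-zero radius is one orbit. -/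
theorem rotation_transitive_aux {p : ℕ} [hpf : Fact p.Prime] [CharP F p] (hF : Nat.card F = p) (hp : 3 < p)
    (K : Subgroup G3) (horth : ∀ g ∈ K, (g : M3)ᵀ * (g : M3) = 1)
    (hsign : ∀ ε : Fin 3 → F, (∀ i, ε i = 1 ∨ ε i = -1) → ∃ g ∈ K, (g : M3) = Matrix.diagonal ε)
    (hperm : ∀ σ : Equiv.Perm (Fin 3), ∀ g ∈ K, ∃ h ∈ K, (h : M3) = (g : M3).submatrix σ σ)
    (hnon : ∃ g ∈ K, ∃ i k j, i ≠ k ∧ (g : M3) i j ≠ 0 ∧ (g : M3) k j ≠ 0)
    {v w : V3} (hvw : v ⬝ᵥ v = w ⬝ᵥ w) (hv : v ⬝ᵥ v ≠ 0) : ∃ g ∈ K, (g : M3) *ᵥ v = w := by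
  classical
  haveI := Fintype.ofFinite F
  have h2 : (2 : F) ≠ 0 := fun h => by
    have h' : ((2 : ℕ) : F) = 0 := by simpa using h
    rw [CharP.cast_eq_zero_iff F p] at h'
    have := Nat.le_of_dvd two_pos h'
    omega
  have h10 : (1 : F) ≠ -1 := fun h => h2 (by linear_combination h)
  have hneg : ∃ m ∈ K, (m : M3) = -1 := by
    obtain ⟨m, hm, e⟩ := hsign (fun _ => -1) fun _ => Or.inr rfl
    exact ⟨m, hm, by rw [e, ← Matrix.diagonal_one, Matrix.diagonal_neg]⟩
  have hnorm : ∀ σ : Equiv.Perm (Fin 3), ∀ g ∈ K, permGL σ * g * (permGL σ)⁻¹ ∈ K := by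
    intro σ g hg
    obtain ⟨h, hh, e⟩ := hperm σ⁻¹ g hg
    rwa [show permGL σ * g * (permGL σ)⁻¹ = h from Units.ext (by rw [conj_permGL, e])]
  -- an element of order `p`
  have hex : ∃ u ∈ K, u ^ p = 1 ∧ u ≠ 1 := by
    by_contra hc
    push Not at hc
    let N : Subgroup G3 :=
      { carrier := {g | ∃ k ∈ K, ∃ σ : Equiv.Perm (Fin 3), g = k * permGL σ}
        one_mem' := ⟨1, one_mem _, 1, by simp⟩
        mul_mem' := fun {a b} ha hb => by
          obtain ⟨k, hk, σ, rfl⟩ := ha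
          obtain ⟨l, hl, τ, rfl⟩ := hb
          exact ⟨k * (permGL σ * l * (permGL σ)⁻¹), mul_mem hk (hnorm σ l hl), σ * τ, by rw [map_mul]; group⟩
        inv_mem' := fun {a} ha => by
          obtain ⟨k, hk, σ, rfl⟩ := ha
          exact ⟨_, hnorm σ⁻¹ _ (inv_mem hk), σ⁻¹, by rw [map_inv]; group⟩ }
    let G : Subgroup G3 := N ⊓ (Matrix.GeneralLinearGroup.det : G3 →* Fˣ).ker
    have memG : ∀ {g : G3}, g ∈ G ↔ g ∈ N ∧ (g : M3).det = 1 := by
      intro g
      simp only [G, Subgroup.mem_inf, MonoidHom.mem_ker, Units.ext_iff, Matrix.GeneralLinearGroup.val_det_apply,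
        Units.val_one]
    have hNorth : ∀ g ∈ N, (g : M3)ᵀ * (g : M3) = 1 := by
      rintro _ ⟨k, hk, σ, rfl⟩
      rw [Units.val_mul, transpose_mul, Matrix.mul_assoc, ← Matrix.mul_assoc (k : M3)ᵀ, horth k hk,
        Matrix.one_mul, orth_permGL]
    have hrot : ∀ g ∈ G, IsRot (g : M3) := fun g hg => ⟨hNorth g (memG.1 hg).1, (memG.1 hg).2⟩
    have hdvd : ∀ g ∈ G, g ^ p = 1 → g = 1 := by
      intro g hg hgp
      obtain ⟨k, hk, σ, rfl⟩ := (memG.1 hg).1
      have key : ∀ n : ℕ, ∃ k' ∈ K, (k * permGL σ) ^ n = k' * permGL (σ ^ n) := by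
        intro n
        induction n with
        | zero => exact ⟨1, one_mem _, by simp⟩
        | succ n ih =>
          obtain ⟨k', hk', e⟩ := ih
          exact ⟨k' * (permGL (σ ^ n) * k * (permGL (σ ^ n))⁻¹), mul_mem hk' (hnorm _ k hk),
            by rw [pow_succ, e, pow_succ σ n, map_mul]; group⟩
      obtain ⟨k', hk', e⟩ := key 6
      have hσ6 : σ ^ 6 = 1 := by
        have := pow_card_eq_one (x := σ)
        rwa [Fintype.card_perm, Fintype.card_fin] at this
      rw [hσ6, map_one, mul_one] at e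
      have h6 : (k * permGL σ) ^ 6 = 1 := by
        refine hc _ (e ▸ hk') ?_
        rw [← pow_mul, mul_comm, pow_mul, hgp, one_pow]
      have hco : Nat.Coprime p 6 :=
        hpf.out.coprime_iff_not_dvd.2 fun hd => by
          have := Nat.le_of_dvd (by norm_num) hd
          have hp' := hpf.out
          interval_cases p <;> norm_num at *
      have := (pow_gcd_eq_one (a := k * permGL σ) (m := p) (n := 6)).2 ⟨hgp, h6⟩
      rwa [hco.gcd_eq_one, pow_one] at this
    -- octahedral elements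
    have hG : ∀ (σ : Equiv.Perm (Fin 3)) (ε : Fin 3 → F), (∀ i, ε i = 1 ∨ ε i = -1) →
        (Matrix.diagonal ε).det * (σ⁻¹.permMatrix F).det = 1 →
        ∃ g ∈ G, (g : M3) = Matrix.diagonal ε * (σ⁻¹.permMatrix F) := by
      intro σ ε hε hd
      obtain ⟨d, hdK, e⟩ := hsign ε hε
      refine ⟨d * permGL σ, memG.2 ⟨⟨d, hdK, σ, rfl⟩, ?_⟩, ?_⟩
      · rw [Units.val_mul, e, coe_permGL, det_mul, hd]
      · rw [Units.val_mul, e, coe_permGL]
    have hdet : ∀ σ : Equiv.Perm (Fin 3), (σ⁻¹.permMatrix F).det = (Equiv.Perm.sign σ : ℤ) := fun σ => by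
      rw [Matrix.det_permutation, Equiv.Perm.sign_inv]
    obtain ⟨r, hr, er⟩ := hG (Equiv.swap 0 1) ![-1, 1, 1] (fun i => by fin_cases i <;> simp) (by
      rw [det_diagonal, hdet, Equiv.Perm.sign_swap (by decide)]
      simp [Fin.prod_univ_three])
    obtain ⟨f, hf, ef⟩ := hG 1 ![1, -1, -1] (fun i => by fin_cases i <;> simp) (by
      rw [det_diagonal, hdet, map_one]
      simp [Fin.prod_univ_three])
    obtain ⟨c, hc', ec⟩ := hG (Equiv.swap 0 1 * Equiv.swap 1 2) ![1, 1, 1] (fun i => by fin_cases i <;> simp) (by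
      rw [det_diagonal, hdet, map_mul, Equiv.Perm.sign_swap (by decide), Equiv.Perm.sign_swap (by decide)]
      simp [Fin.prod_univ_three])
    have act : ∀ (ε : Fin 3 → F) (σ : Equiv.Perm (Fin 3)) (j : Fin 3),
        (Matrix.diagonal ε * σ⁻¹.permMatrix F) *ᵥ Pi.single j 1 = Pi.single (σ j) (ε (σ j)) := by
      intro ε σ j
      rw [← mulVec_mulVec, ← coe_permGL, permGL_mulVec, Matrix.diagonal_mulVec_single, mul_one]
    have hr4 : orderOf r = 4 := by
      have hr2 : (r : M3) * (r : M3) = Matrix.diagonal ![-1, -1, 1] := by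
        refine Matrix.ext_iff_mulVec.2 fun x => ?_
        rw [er, ← mulVec_mulVec, ← mulVec_mulVec, ← mulVec_mulVec]
        funext i
        simp only [Matrix.mulVec_diagonal, Matrix.permMatrix_mulVec, Function.comp_apply]
        fin_cases i <;> simp [Equiv.swap_apply_def, Matrix.mulVec_diagonal]
      refine orderOf_eq_prime_pow (p := 2) (n := 1) (fun h => ?_) ?_
      · have e' := congrArg (fun g : G3 => (g : M3)) h
        simp only [pow_one, sq, Units.val_mul, Units.val_one, hr2] at e'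
        have := congrFun (congrFun e' 0) 0
        simp at this
        exact h10 this.symm
      · apply Units.ext
        rw [show (2 : ℕ) ^ (1 + 1) = 2 + 2 from rfl, pow_add, sq, Units.val_mul, Units.val_mul, hr2,
          Matrix.diagonal_mul_diagonal, Units.val_one]
        ext i j
        fin_cases i <;> fin_cases j <;> simp
    have hmono := octahedral_perm (p := p) hp G hrot hdvd hr hr4 (by
        rw [er, act]; simp [Equiv.swap_apply_def]) hf (by
        rw [ef, act]; simp [← Pi.single_neg]) hc' (by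
        rw [ec, act]; simp [Equiv.swap_apply_def]) (by
        rw [ec, act]; simp [Equiv.swap_apply_def])
    obtain ⟨g, hg, i, k, j, hik, hi, hk⟩ := hnon
    obtain ⟨m, hm, em⟩ := hneg
    rcases det_eq_or (horth g hg) with hd | hd
    · obtain ⟨l, hl⟩ := hmono g (memG.2 ⟨⟨g, hg, 1, by simp⟩, hd⟩) j
      by_cases hil : i = l
      · exact hk (hl k (fun e => hik (hil.trans e.symm)))
      · exact hi (hl i hil)
    · obtain ⟨l, hl⟩ := hmono (m * g) (memG.2 ⟨⟨m * g, mul_mem hm hg, 1, by simp⟩, by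
        rw [Units.val_mul, em, det_mul, hd, det_neg, det_one, Fintype.card_fin]; norm_num⟩) j
      have hl' : ∀ k, k ≠ l → (g : M3) k j = 0 := fun k hk => by
        simpa [em] using hl k hk
      by_cases hil : i = l
      · exact hk (hl' k (fun e => hik (hil.trans e.symm)))
      · exact hi (hl' i hil)
  obtain ⟨u, hu, hup, hu1⟩ := hex
  have huo : (u : M3)ᵀ * (u : M3) = 1 := horth u hu
  have hAp : (u : M3) ^ p = 1 := by rw [← Units.val_pow_eq_pow_val, hup, Units.val_one]
  have hA : IsRot (u : M3) := ⟨huo, by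
    rcases det_eq_or huo with h | h
    · exact h
    · exfalso
      have := congrArg Matrix.det hAp
      rw [det_pow, h, det_one, (hpf.out.odd_of_ne_two (by omega)).neg_one_pow] at this
      exact h10 this.symm⟩
  have hA1 : (u : M3) ≠ 1 := fun h => hu1 (Units.ext h)
  obtain ⟨s, hs0, hs, hfix⟩ := exists_singular_fixed hA hAp hA1
  obtain ⟨j, hj⟩ : ∃ j, s j ≠ 0 := Function.ne_iff.1 hs0
  obtain ⟨d, hdK, ed⟩ := hsign (Function.update (fun _ => 1) j (-1)) fun i => by
    by_cases h : i = j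
    · subst h; simp
    · simp [h]
  set s' := (d : M3) *ᵥ s with hs'd
  have hdd : (d : M3) * (d : M3) = 1 := by
    rw [ed, Matrix.diagonal_mul_diagonal, ← Matrix.diagonal_one]
    congr 1
    funext i
    by_cases h : i = j
    · subst h; simp
    · simp [h]
  set A' := (d : M3) * (u : M3) * (d : M3) with hA'd
  have hA' : IsRot A' := by
    refine ⟨?_, ?_⟩
    · have hdo := horth d hdK
      have := horth (d * u * d) (mul_mem (mul_mem hdK hu) hdK)
      rwa [Units.val_mul, Units.val_mul] at this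
    · rw [hA'd, det_mul, det_mul, hA.2, mul_one, ← det_mul, hdd, det_one]
  have hA'p : A' ^ p = 1 := by
    have hd2 : d⁻¹ = d := inv_eq_of_mul_eq_one_right (Units.ext hdd)
    have e : A' = ((d * u * d⁻¹ : G3) : M3) := by rw [hd2, Units.val_mul, Units.val_mul]
    rw [e, ← Units.val_pow_eq_pow_val, conj_pow, hup, mul_one, mul_inv_cancel, Units.val_one]
  have hA'1 : A' ≠ 1 := fun h => hA1 (by
    calc (u : M3) = (d : M3) * A' * (d : M3) := by
          rw [hA'd, ← Matrix.mul_assoc, ← Matrix.mul_assoc, hdd, Matrix.one_mul, Matrix.mul_assoc, hdd,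
            Matrix.mul_one]
      _ = 1 := by rw [h, Matrix.mul_one, hdd])
  have hs's' : s' ⬝ᵥ s' = 0 := by rw [hs'd, orth_dot (horth d hdK), hs]
  have hfix' : A' *ᵥ s' = s' := by
    rw [hA'd, hs'd, mulVec_mulVec, Matrix.mul_assoc, hdd, Matrix.mul_one, ← mulVec_mulVec, hfix]
  set κ := s ⬝ᵥ s' with hκd
  have hκ : κ ≠ 0 := by
    have : κ = s ⬝ᵥ s - 2 * (s j * s j) := by
      have e : s' = s - Pi.single j (2 * s j) := by
        funext i
        rw [hs'd, ed, Matrix.mulVec_diagonal]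
        by_cases h : i = j
        · subst h; simp; ring
        · simp [h]
      rw [hκd, e, dotProduct_sub, dotProduct_single]; ring
    rw [this, hs, zero_sub, neg_ne_zero]
    exact mul_ne_zero h2 (mul_ne_zero hj hj)
  set n := s ⨯₃ s' with hnd
  have hsn : s ⬝ᵥ n = 0 := dot_self_cross s s'
  have hs'n : s' ⬝ᵥ n = 0 := _root_.dot_cross_self s s'
  have hnn : n ⬝ᵥ n = -(κ * κ) := by rw [hnd, dot_cross_self, hs, zero_mul, zero_sub]
  have hs's : s' ⬝ᵥ s = κ := by rw [hκd, dotProduct_comm]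
  have dots : ∀ a b c : F, s ⬝ᵥ (a • s + b • s' + c • n) = b * κ ∧ s' ⬝ᵥ (a • s + b • s' + c • n) = a * κ ∧
      (a • s + b • s' + c • n) ⬝ᵥ (a • s + b • s' + c • n) = 2 * a * b * κ - c * c * (κ * κ) := by
    intro a b c
    have e1 : n ⬝ᵥ s = 0 := by rw [dotProduct_comm, hsn]
    have e2 : n ⬝ᵥ s' = 0 := by rw [dotProduct_comm, hs'n]
    simp only [dotProduct_add, add_dotProduct, dotProduct_smul, smul_dotProduct, smul_eq_mul, hs, hs's', hsn,
      hs'n, hnn, hs's, e1, e2, ← hκd]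
    refine ⟨by ring, by ring, by ring⟩
  -- the orbit relation
  let R : V3 → V3 → Prop := fun x y => ∃ g ∈ K, (g : M3) *ᵥ x = y
  have Rtrans : ∀ {x y z}, R x y → R y z → R x z := by
    rintro x y z ⟨g, hg, e⟩ ⟨h, hh, e'⟩
    exact ⟨h * g, mul_mem hh hg, by rw [Units.val_mul, ← mulVec_mulVec, e, e']⟩
  have Rsymm : ∀ {x y}, R x y → R y x := by
    rintro x y ⟨g, hg, rfl⟩
    exact ⟨g⁻¹, inv_mem hg, by rw [mulVec_mulVec, ← Units.val_mul, inv_mul_cancel, Units.val_one, one_mulVec]⟩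
  have R₁ : ∀ {x y}, s ⬝ᵥ x ≠ 0 → s ⬝ᵥ y = s ⬝ᵥ x → y ⬝ᵥ y = x ⬝ᵥ x → R x y := by
    intro x y hx hxy hn
    obtain ⟨i, hi⟩ := exists_pow_fibre hA hF h2 hAp hA1 hs hfix hx hxy hn
    exact ⟨u ^ i, pow_mem hu i, by rw [Units.val_pow_eq_pow_val, hi]⟩
  have R₂ : ∀ {x y}, s' ⬝ᵥ x ≠ 0 → s' ⬝ᵥ y = s' ⬝ᵥ x → y ⬝ᵥ y = x ⬝ᵥ x → R x y := by
    intro x y hx hxy hn
    obtain ⟨i, hi⟩ := exists_pow_fibre hA' hF h2 hA'p hA'1 hs's' hfix' hx hxy hn
    refine ⟨(d * u * d) ^ i, pow_mem (mul_mem (mul_mem hdK hu) hdK) i, ?_⟩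
    rw [Units.val_pow_eq_pow_val, Units.val_mul, Units.val_mul, ← hA'd, hi]
  set α := v ⬝ᵥ v with hα
  -- coordinates
  have coords : ∀ x : V3, ∃ a b c : F, x = a • s + b • s' + c • n := by
    intro x
    refine ⟨(s' ⬝ᵥ x) / κ, (s ⬝ᵥ x) / κ, -(n ⬝ᵥ x) / (κ * κ), ?_⟩
    rw [← sub_eq_zero]
    have hne : (s ⨯₃ s') ⬝ᵥ (s ⨯₃ s') ≠ 0 := by
      rw [← hnd, hnn, neg_ne_zero]; exact mul_ne_zero hκ hκ
    have d3 := dots ((s' ⬝ᵥ x) / κ) ((s ⬝ᵥ x) / κ) (-(n ⬝ᵥ x) / (κ * κ))
    refine eq_zero_of_dots hne ?_ ?_ ?_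
    · rw [sub_dotProduct, dotProduct_comm _ s, dotProduct_comm _ s, d3.1, div_mul_cancel₀ _ hκ, sub_self]
    · rw [sub_dotProduct, dotProduct_comm _ s', dotProduct_comm _ s', d3.2.1, div_mul_cancel₀ _ hκ, sub_self]
    · rw [← hnd, sub_dotProduct, dotProduct_comm _ n, dotProduct_comm _ n, dotProduct_add, dotProduct_add,
        dotProduct_smul, dotProduct_smul, dotProduct_smul, dotProduct_comm n s, dotProduct_comm n s', hsn, hs'n,
        hnn]
      simp only [smul_eq_mul]
      field_simp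
      ring
  by_cases hcase : ∃ c₀ : F, -(c₀ * c₀ * (κ * κ)) = α
  · obtain ⟨c₀, hc₀⟩ := hcase
    set z₀ := c₀ • n with hz₀
    have hc₀0 : c₀ ≠ 0 := fun h => hv (by rw [← hc₀, h]; ring)
    -- the powers of `u` move `z₀` along the line through `s`
    obtain ⟨t, ht, hut⟩ : ∃ t : F, t ≠ 0 ∧ (u : M3) *ᵥ z₀ = z₀ + t • s := by
      obtain ⟨a, b, c, e⟩ := coords ((u : M3) *ᵥ z₀)
      have hsz : s ⬝ᵥ ((u : M3) *ᵥ z₀) = 0 := by
        conv_lhs => arg 1; rw [← hfix]
        rw [hA.dot, hz₀, dotProduct_smul, hsn, smul_zero]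
      have hb : b = 0 := by
        have := (dots a b c).1
        rw [← e, hsz] at this
        exact (mul_eq_zero.1 this.symm).resolve_right hκ
      subst hb
      rw [zero_smul, add_zero] at e
      have hN := hA.dot z₀ z₀
      rw [e, show a • s + c • n = a • s + (0 : F) • s' + c • n by rw [zero_smul, add_zero], (dots a 0 c).2.2,
        hz₀, dotProduct_smul, smul_dotProduct, hnn] at hN
      simp only [smul_eq_mul] at hN
      have hcc : c = c₀ ∨ c = -c₀ := mul_self_eq_mul_self_iff.1 (mul_right_cancel₀ (mul_ne_zero hκ hκ)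
        (show c * c * (κ * κ) = c₀ * c₀ * (κ * κ) by linear_combination -hN))
      rcases hcc with rfl | rfl
      · refine ⟨a, fun ha => ?_, by rw [e, hz₀, add_comm]⟩
        subst ha
        rw [zero_smul, zero_add, hz₀, mulVec_smul] at e
        have hfn : (u : M3) *ᵥ n = n := smul_right_injective _ hc₀0 e
        have hx := hA.dot n s'
        obtain ⟨a', b', c', e'⟩ := coords ((u : M3) *ᵥ s')
        rw [hfn, e', dotProduct_add, dotProduct_add, dotProduct_smul, dotProduct_smul, dotProduct_smul,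
          dotProduct_comm n s, hsn, dotProduct_comm n s', hs'n, hnn] at hx
        simp only [smul_eq_mul, mul_zero, zero_add] at hx
        have hc' : c' = 0 := (mul_eq_zero.1 hx).resolve_right (neg_ne_zero.2 (mul_ne_zero hκ hκ))
        have hy := hA.dot s s'
        rw [hfix, e', (dots a' b' c').1, ← hκd] at hy
        have hb' : b' = 1 := (mul_eq_right₀ hκ).1 hy
        have hz := hA.dot s' s'
        rw [e', (dots a' b' c').2.2, hs's', hc', hb'] at hz
        have ha' : a' = 0 := by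
          have : a' * (2 * κ) = 0 := by linear_combination hz
          exact (mul_eq_zero.1 this).resolve_right (mul_ne_zero h2 hκ)
        rw [ha', hb', hc', zero_smul, zero_smul, one_smul, zero_add, add_zero] at e'
        exact hA1 (rot_eq_one hA (s := s) (z := s') (by
          rw [← hnd, hnn, neg_ne_zero]; exact mul_ne_zero hκ hκ) hfix e')
      · exfalso
        have key : ∀ i : ℕ, ∃ m : F, ((u : M3) ^ i) *ᵥ z₀ = (-1 : F) ^ i • z₀ + m • s := by
          intro i
          induction i with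
          | zero => exact ⟨0, by simp⟩
          | succ i ih =>
            obtain ⟨m, hm⟩ := ih
            refine ⟨(-1) ^ i * a + m, ?_⟩
            rw [pow_succ', ← mulVec_mulVec, hm, mulVec_add, mulVec_smul _ ((-1 : F) ^ i) z₀, mulVec_smul _ m s, hfix, e, hz₀]
            module
        obtain ⟨m, hm⟩ := key p
        rw [hAp, one_mulVec, (hpf.out.odd_of_ne_two (by omega)).neg_one_pow] at hm
        have := congrArg (fun x => n ⬝ᵥ x) hm
        simp only [dotProduct_add, dotProduct_smul, hz₀, dotProduct_comm n s, hsn, hnn, smul_eq_mul] at this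
        have h0 : c₀ * (2 * (κ * κ)) = 0 := by linear_combination -this
        exact hc₀0 ((mul_eq_zero.1 h0).resolve_right (mul_ne_zero h2 (mul_ne_zero hκ hκ)))
    have line : ∀ m : F, R z₀ (z₀ + m • s) := by
      intro m
      obtain ⟨k, hk⟩ : ∃ k : ℕ, (k : F) = m / t := by
        have hb : Function.Bijective fun k : Fin p => ((k : ℕ) : F) := by
          rw [Fintype.bijective_iff_injective_and_card]
          refine ⟨fun i j h => Fin.ext ((CharP.natCast_injOn_Iio F p) (Set.mem_Iio.2 i.2) (Set.mem_Iio.2 j.2) h),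
            by rw [Fintype.card_fin, ← Nat.card_eq_fintype_card, hF]⟩
        obtain ⟨k, hk⟩ := hb.2 (m / t)
        exact ⟨k, hk⟩
      refine ⟨u ^ k, pow_mem hu k, ?_⟩
      have key : ∀ i : ℕ, ((u : M3) ^ i) *ᵥ z₀ = z₀ + ((i : F) * t) • s := by
        intro i
        induction i with
        | zero => simp
        | succ i ih =>
          rw [pow_succ', ← mulVec_mulVec, ih, mulVec_add, hut, mulVec_smul, hfix]
          push_cast
          module
      rw [Units.val_pow_eq_pow_val, key, hk, div_mul_cancel₀ _ ht]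
    have hnegR : R z₀ (-z₀) := by
      obtain ⟨m, hm, em⟩ := hneg
      exact ⟨m, hm, by rw [em, neg_mulVec, one_mulVec]⟩
    have main : ∀ x : V3, x ⬝ᵥ x = α → R x z₀ := by
      intro x hx
      obtain ⟨a, b, c, rfl⟩ := coords x
      obtain ⟨d1, d2, d3⟩ := dots a b c
      have ha0 : ∀ a' : F, R (a' • s + (0 : F) • s' + c₀ • n) z₀ := fun a' => by
        rw [zero_smul, add_zero, add_comm, ← hz₀]; exact Rsymm (line a')
      by_cases hb : b = 0
      · subst hb
        rw [hx] at d3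
        rcases mul_self_eq_mul_self_iff.1 (mul_right_cancel₀ (mul_ne_zero hκ hκ)
          (show c * c * (κ * κ) = c₀ * c₀ * (κ * κ) by linear_combination d3 + hc₀)) with rfl | rfl
        · exact ha0 a
        · refine Rtrans ?_ (Rsymm hnegR)
          obtain ⟨g, hg, e⟩ := ha0 (-a)
          refine ⟨g, hg, ?_⟩
          rw [show a • s + (0 : F) • s' + (-c₀) • n = -((-a) • s + (0 : F) • s' + c₀ • n) by module, mulVec_neg, e]
      · have hb' : 2 * b * κ ≠ 0 := mul_ne_zero (mul_ne_zero h2 hb) hκ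
        obtain ⟨c', hc'⟩ : ∃ c' : F, c' * c' * (κ * κ) + α ≠ 0 := by
          refine ⟨0, ?_⟩
          simpa using hv
        set a₁ := (c' * c' * (κ * κ) + α) / (2 * b * κ) with ha₁
        have ha₁0 : a₁ ≠ 0 := div_ne_zero hc' hb'
        obtain ⟨e1, e2, e3⟩ := dots a₁ b c'
        have en : (a₁ • s + b • s' + c' • n) ⬝ᵥ (a₁ • s + b • s' + c' • n) = α := by
          rw [e3, ha₁]; field_simp; ring
        refine Rtrans (R₁ (by rw [d1]; exact mul_ne_zero hb hκ) (by rw [e1, d1]) (by rw [en, hx])) ?_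
        obtain ⟨f1, f2, f3⟩ := dots a₁ 0 c₀
        exact Rtrans (R₂ (by rw [e2]; exact mul_ne_zero ha₁0 hκ) (by rw [f2, e2])
          (by rw [f3, en, ← hc₀]; ring)) (ha0 a₁)
    exact Rtrans (main v rfl) (Rsymm (main w hvw.symm))
  · push Not at hcase
    have hb0 : ∀ a b c : F, (a • s + b • s' + c • n) ⬝ᵥ (a • s + b • s' + c • n) = α → b ≠ 0 := by
      intro a b c h hb
      apply hcase c
      rw [← h, (dots a b c).2.2, hb]; ring
    obtain ⟨a, b, c, ev⟩ := coords v
    obtain ⟨a₁, b₁, c₁, ew⟩ := coords w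
    have hnv : (a • s + b • s' + c • n) ⬝ᵥ (a • s + b • s' + c • n) = α := by rw [← ev]
    have hnw : (a₁ • s + b₁ • s' + c₁ • n) ⬝ᵥ (a₁ • s + b₁ • s' + c₁ • n) = α := by rw [← ew]; exact hvw.symm
    have hb := hb0 a b c hnv
    have hb₁ := hb0 _ _ _ hnw
    obtain ⟨x, y, hxy⟩ : ∃ x y : F, (α + x * x * (κ * κ)) / b = (α + y * y * (κ * κ)) / b₁ := by
      obtain ⟨x, y, h⟩ := FiniteField.exists_root_sum_quadratic
        (f := Polynomial.C (κ * κ / b) * Polynomial.X ^ 2)
        (g := Polynomial.C (-(κ * κ) / b₁) * Polynomial.X ^ 2 + Polynomial.C (α / b - α / b₁))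
        (Polynomial.degree_C_mul_X_pow 2 (div_ne_zero (mul_ne_zero hκ hκ) hb))
        (by
          have hne := div_ne_zero (neg_ne_zero.2 (mul_ne_zero hκ hκ)) hb₁
          rw [Polynomial.degree_add_C (by rw [Polynomial.degree_C_mul_X_pow 2 hne]; decide),
            Polynomial.degree_C_mul_X_pow 2 hne]; rfl)
        (FiniteField.odd_card_of_char_ne_two fun hc => h2 (by
          haveI := ringChar.of_eq hc
          exact CharTwo.two_eq_zero))
      simp only [Polynomial.eval_mul, Polynomial.eval_C, Polynomial.eval_pow, Polynomial.eval_X,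
        Polynomial.eval_add] at h
      refine ⟨x, y, ?_⟩
      field_simp at h ⊢
      linear_combination h
    set a' := (α + x * x * (κ * κ)) / b / (2 * κ) with ha'
    have ha'0 : a' ≠ 0 := by
      refine div_ne_zero (div_ne_zero (fun h => ?_) hb) (mul_ne_zero h2 hκ)
      exact hcase x (by linear_combination -h)
    have n1 : (a' • s + b • s' + x • n) ⬝ᵥ (a' • s + b • s' + x • n) = α := by
      rw [(dots a' b x).2.2, ha']; field_simp; ring
    have n2 : (a' • s + b₁ • s' + y • n) ⬝ᵥ (a' • s + b₁ • s' + y • n) = α := by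
      rw [(dots a' b₁ y).2.2, ha', hxy]; field_simp; ring
    have r1 : R v (a' • s + b • s' + x • n) := by
      rw [ev]
      exact R₁ (by rw [(dots a b c).1]; exact mul_ne_zero hb hκ) (by rw [(dots a' b x).1, (dots a b c).1])
        (by rw [n1, hnv])
    have r2 : R w (a' • s + b₁ • s' + y • n) := by
      rw [ew]
      exact R₁ (by rw [(dots a₁ b₁ c₁).1]; exact mul_ne_zero hb₁ hκ)
        (by rw [(dots a' b₁ y).1, (dots a₁ b₁ c₁).1]) (by rw [n2, hnw])
    exact Rtrans (Rtrans r1 (R₂ (by rw [(dots a' b x).2.1]; exact mul_ne_zero ha'0 hκ)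
      (by rw [(dots a' b x).2.1, (dots a' b₁ y).2.1]) (by rw [n1, n2]))) (Rsymm r2)

end Main

end Cfsg.Agent.MaxCl.Mono.Trans

namespace Cfsg.Agent.MaxCl.Mono

open Matrix

/-- A group of isometries of dimension three containing all sign changes, invariant under coordinate permutations
and not monomial, is transitive on each sphere of non-zero radius. -/
theorem rotation_transitive {F : Type*} [Field F] (hp : (Nat.card F).Prime) (h2 : (2 : F) ≠ 0)
    (K : Subgroup (GL (Fin 3) F))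
    (horth : ∀ g ∈ K, (g : Matrix (Fin 3) (Fin 3) F)ᵀ * (g : Matrix (Fin 3) (Fin 3) F) = 1)
    (hsign : ∀ ε : Fin 3 → F, (∀ i, ε i = 1 ∨ ε i = -1) →
      ∃ g ∈ K, (g : Matrix (Fin 3) (Fin 3) F) = Matrix.diagonal ε)
    (hperm : ∀ σ : Equiv.Perm (Fin 3), ∀ g ∈ K, ∃ h ∈ K,
      (h : Matrix (Fin 3) (Fin 3) F) = (g : Matrix (Fin 3) (Fin 3) F).submatrix σ σ)
    (hnon : ∃ g ∈ K, ∃ i k j, i ≠ k ∧ (g : Matrix (Fin 3) (Fin 3) F) i j ≠ 0 ∧
      (g : Matrix (Fin 3) (Fin 3) F) k j ≠ 0)
    {v w : Fin 3 → F} (hvw : v ⬝ᵥ v = w ⬝ᵥ w) (hv : v ⬝ᵥ v ≠ 0) :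
    ∃ g ∈ K, (g : Matrix (Fin 3) (Fin 3) F) *ᵥ v = w := by
  haveI : Finite F := Nat.finite_of_card_ne_zero hp.ne_zero
  haveI := Fintype.ofFinite F
  haveI hpf : Fact (Nat.card F).Prime := ⟨hp⟩
  haveI : CharP F (Nat.card F) := charP_of_card_eq_prime Fintype.card_eq_nat_card
  rcases lt_or_ge 3 (Nat.card F) with h | h
  · exact Trans.rotation_transitive_aux rfl h K horth hsign hperm hnon hvw hv
  exfalso
  have h3 : Nat.card F = 3 := by
    have := hp.two_le
    rcases Nat.lt_or_ge (Nat.card F) 3 with h' | h'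
    · have e : Nat.card F = 2 := by omega
      have := CharP.cast_eq_zero F (Nat.card F)
      rw [e, Nat.cast_ofNat] at this
      exact absurd this h2
    · omega
  have sq : ∀ x : F, x ≠ 0 → x * x = 1 := fun x hx => by
    have := FiniteField.pow_card_sub_one_eq_one x hx
    rw [← Nat.card_eq_fintype_card, h3] at this
    rwa [← sq]
  have three : (3 : F) = 0 := by
    have := CharP.cast_eq_zero F (Nat.card F)
    rw [h3] at this
    simpa using this
  obtain ⟨g, hg, i, k, j, hik, hi, hk⟩ := hnon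
  have e := congrFun (congrFun (horth g hg) j) j
  simp only [Matrix.mul_apply, Matrix.transpose_apply, Fin.sum_univ_three, Matrix.one_apply_eq] at e
  have key : ∀ x y z : F, x ≠ 0 → y ≠ 0 → x * x + y * y + z * z ≠ 1 := by
    intro x y z hx hy h
    rw [sq x hx, sq y hy] at h
    rcases eq_or_ne z 0 with rfl | hz
    · exact one_ne_zero (show (1 : F) = 0 by linear_combination h)
    · rw [sq z hz] at h
      exact one_ne_zero (show (1 : F) = 0 by linear_combination three - h)
  fin_cases i <;> fin_cases k <;> simp_all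
  all_goals exact key _ _ _ hi hk (by linear_combination e)

end Cfsg.Agent.MaxCl.Mono
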