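/-
An overgroup of the monomial group which contains a product of two reflections, one of them in a non-monomial
vector of small support and value of the frame, contains all of Omega.
-/
import Cfsg.Agent.Lib.MaxCl.Mono.Frame
import Cfsg.Agent.Lib.MaxCl.Mono.Transitive

set_option autoImplicit false
set_option linter.unusedSectionVars false
set_option linter.style.haveILetI false

namespace Cfsg.Agent.MaxCl.Mono

open scoped MatrixGroups Matrix
open Module (finrank)
open Orth

variable {ι : Type} [Fintype ι] [DecidableEq ι] {F : Type*} [Field F] {Q : QuadraticForm F (ι → F)} {n : ℕ}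
  {e : Fin n → ι → F} {c : F}

set_option quotPrecheck false in
local notation "B" => QuadraticMap.polar (⇑Q)

/-- Vectors of the frame value whose reflection pairs with that of `e i₀` inside `M`. -/
def PairU (Q : QuadraticForm F (ι → F)) (e : Fin n → ι → F) (c : F) (M : Subgroup (GL ι F)) (i₀ : Fin n)
    (v : ι → F) : Prop :=
  Q v = c ∧ refl Q v * refl Q (e i₀) ∈ M

/-- The isometries preserving the set `PairU`. -/
noncomputable def pairStab (Q : QuadraticForm F (ι → F)) (e : Fin n → ι → F) (c : F) (M : Subgroup (GL ι F))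
    (i₀ : Fin n) : Subgroup (GL ι F) where
  carrier := {g | g ∈ isometryGroup F Q ∧ ∀ x, PairU Q e c M i₀ (act g x) ↔ PairU Q e c M i₀ x}
  one_mem' := ⟨one_mem _, fun x => by rw [act_one]⟩
  mul_mem' := fun {g h} ⟨hg, g'⟩ ⟨hh, h'⟩ => ⟨mul_mem hg hh, fun x => by rw [act_mul, g', h']⟩
  inv_mem' := fun {g} ⟨hg, g'⟩ => ⟨inv_mem hg, fun x => by rw [← g', act_act_inv]⟩

theorem pairU_refl_iff_e {M : Subgroup (GL ι F)} {i₀ : Fin n} {g : GL ι F} (hg : g ∈ pairStab Q e c M i₀)
    (x : ι → F) : PairU Q e c M i₀ (act g x) ↔ PairU Q e c M i₀ x := hg.2 x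

variable (hE : Frame Q e c)
include hE

theorem co_act_of_perm {g : GL ι F} (hg : g ∈ isometryGroup F Q) {π : Fin n → Fin n} {l : Fin n}
    (h : act g (e l) = e (π l)) (x : ι → F) : co Q e c (act g x) (π l) = co Q e c x l := by
  rw [co, co, ← h, B_act hg]

theorem co_comb (τ : Fin 3 → Fin n) (x : Fin 3 → F) (l : Fin n) :
    co Q e c (∑ i, x i • e (τ i)) l = ∑ i, if l = τ i then x i else 0 := by
  simp only [Fin.sum_univ_three, co_add, co_smul, hE.co_e, mul_ite, mul_one, mul_zero]

theorem co_comb_self {τ : Fin 3 → Fin n} (hτ : Function.Injective τ) (x : Fin 3 → F) (j : Fin 3) :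
    co Q e c (∑ i, x i • e (τ i)) (τ j) = x j := by
  rw [co_comb hE, Finset.sum_eq_single j (fun i _ hij => if_neg fun h => hij (hτ h).symm)
    (fun h => absurd (Finset.mem_univ j) h), if_pos rfl]

theorem co_comb_off {τ : Fin 3 → Fin n} (x : Fin 3 → F) {l : Fin n} (hl : ∀ i, l ≠ τ i) :
    co Q e c (∑ i, x i • e (τ i)) l = 0 := by
  rw [co_comb hE]
  exact Finset.sum_eq_zero fun i _ => if_neg (hl i)

theorem B_comb {τ : Fin 3 → Fin n} (hτ : Function.Injective τ) (x y : Fin 3 → F) :
    B (∑ i, x i • e (τ i)) (∑ i, y i • e (τ i)) = 2 * c * (x ⬝ᵥ y) := by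
  have o : ∀ i j, i ≠ j → B (e (τ i)) (e (τ j)) = 0 := fun i j h => hE.orth _ _ fun h' => h (hτ h')
  simp only [Fin.sum_univ_three, B_add_left Q, B_add_right Q, B_smul_left Q, B_smul_right Q, hE.B_self,
    o 0 1 (by decide), o 0 2 (by decide), o 1 0 (by decide), o 1 2 (by decide), o 2 0 (by decide),
    o 2 1 (by decide), dotProduct]
  ring

theorem eq_comb {τ : Fin 3 → Fin n} (hτ : Function.Injective τ) {x : ι → F}
    (hx : ∀ l, (∀ i, l ≠ τ i) → co Q e c x l = 0) : x = ∑ i, co Q e c x (τ i) • e (τ i) := by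
  refine hE.ext_co fun l => ?_
  by_cases h : ∃ i, l = τ i
  · obtain ⟨i, rfl⟩ := h
    rw [co_comb_self hE hτ]
  · push Not at h
    rw [co_comb_off hE _ h, hx l h]

theorem supp_image {g : GL ι F} (hg : g ∈ isometryGroup F Q) {T : Finset (Fin n)}
    (hfix : ∀ l ∉ T, act g (e l) = e l) {x : ι → F} {l : Fin n} (hl : l ∉ T) :
    co Q e c (act g x) l = co Q e c x l := co_act_of_perm hE hg (π := id) (hfix l hl) x

omit hE in
/-- Two orthogonal anisotropic lines represent everything. -/
theorem exists_binary_value [Finite F] (h2 : (2 : F) ≠ 0) {a b : F} (ha : a ≠ 0) (hb : b ≠ 0) (v : F) :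
    ∃ p q : F, p * p * a + q * q * b = v := by
  haveI := Fintype.ofFinite F
  obtain ⟨p, q, h⟩ := FiniteField.exists_root_sum_quadratic
    (f := (Polynomial.C a * Polynomial.X ^ 2 : Polynomial F))
    (g := Polynomial.C b * Polynomial.X ^ 2 + Polynomial.C (-v))
    (Polynomial.degree_C_mul_X_pow 2 ha)
    (by rw [Polynomial.degree_add_C (by rw [Polynomial.degree_C_mul_X_pow 2 hb]; decide),
      Polynomial.degree_C_mul_X_pow 2 hb]; rfl)
    (FiniteField.odd_card_of_char_ne_two fun hc => h2 (by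
      haveI := ringChar.of_eq hc
      exact CharTwo.two_eq_zero))
  simp only [Polynomial.eval_mul, Polynomial.eval_pow, Polynomial.eval_X, Polynomial.eval_add,
    Polynomial.eval_C] at h
  exact ⟨p, q, by linear_combination h⟩

/-- An anisotropic vector orthogonal to a short list. -/
theorem exists_aniso_perp_span (hQ : (QuadraticMap.polarBilin Q).Nondegenerate) (hn : 5 ≤ n) {k : ℕ}
    (r : Fin k → ι → F) (hk : k ≤ 2) : ∃ z, (∀ i, B (r i) z = 0) ∧ Q z ≠ 0 := by
  by_contra hno
  push Not at hno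
  set R := Submodule.span F (Set.range r) with hR
  have hp : ∀ x, x ∈ Orth.perp Q R → ∀ i, B (r i) x = 0 :=
    fun x hx i => hx _ (Submodule.subset_span ⟨i, rfl⟩)
  have hle : Orth.perp Q R ≤ R := by
    intro y hy
    rw [← Orth.perp_perp hQ R]
    intro x hx
    have h := hno (x + y) (hp _ (Submodule.add_mem _ hx hy))
    rw [Q_add Q, hno x (hp x hx), hno y (hp y hy), zero_add, zero_add] at h
    exact h
  have h1 := Submodule.finrank_mono hle
  have h3 : finrank F R ≤ k := finrank_span_list_le r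
  rw [Orth.finrank_perp hQ, hE.card] at h1
  omega

/-- A second anisotropic vector orthogonal to a degenerate pair and a first one. -/
theorem exists_aniso_perp_three (hQ : (QuadraticMap.polarBilin Q).Nondegenerate) (hn : 5 ≤ n) {u w z : ι → F}
    (hu : Q u = 0) (huw : B u w = 0) (hw : Q w ≠ 0) (hzR : ∀ i, B (![u, w] i) z = 0) (hz : Q z ≠ 0) :
    ∃ z', (∀ i, B (![u, w, z] i) z' = 0) ∧ Q z' ≠ 0 := by
  by_contra hno
  push Not at hno
  set R := Submodule.span F (Set.range ![u, w, z]) with hR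
  have hp : ∀ x, x ∈ Orth.perp Q R → ∀ i, B (![u, w, z] i) x = 0 :=
    fun x hx i => hx _ (Submodule.subset_span ⟨i, rfl⟩)
  have hzu : B u z = 0 := hzR 0
  have hzw : B w z = 0 := hzR 1
  have hle : Orth.perp Q R ≤ Submodule.span F {u} := by
    intro y hy
    have hyR : y ∈ R := by
      rw [← Orth.perp_perp hQ R]
      intro x hx
      have h := hno (x + y) (hp _ (Submodule.add_mem _ hx hy))
      rw [Q_add Q, hno x (hp x hx), hno y (hp y hy), zero_add, zero_add] at h
      exact h
    obtain ⟨a, rfl⟩ := (Submodule.mem_span_range_iff_exists_fun F).1 hyR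
    have h1 : B w (∑ i, a i • ![u, w, z] i) = 0 := hp _ hy 1
    have h2 : B z (∑ i, a i • ![u, w, z] i) = 0 := hp _ hy 2
    simp only [Fin.sum_univ_three, Matrix.cons_val_zero, Matrix.cons_val_one, Matrix.cons_val, B_add_right Q,
      B_smul_right Q, B_comm Q w u, B_comm Q z u, B_comm Q z w, huw, hzu, hzw, Orth.B_self Q, mul_zero,
      zero_add, add_zero] at h1 h2
    have a1 : a 1 = 0 := (mul_eq_zero.1 h1).resolve_right (mul_ne_zero hE.two hw)
    have a2 : a 2 = 0 := (mul_eq_zero.1 h2).resolve_right (mul_ne_zero hE.two hz)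
    refine Submodule.mem_span_singleton.2 ⟨a 0, ?_⟩
    simp [Fin.sum_univ_three, a1, a2]
  have h1 := Submodule.finrank_mono hle
  have h2 : finrank F R ≤ 3 := finrank_span_list_le _
  have h3 : finrank F (Submodule.span F ({u} : Set (ι → F))) ≤ 1 := by
    refine (finrank_span_le_card _).trans ?_
    simp
  rw [Orth.finrank_perp hQ, hE.card] at h1
  omega

variable [Finite F] {M : Subgroup (GL ι F)} (hM : monoGroup e ⊓ Cfsg.Geo.omegaGL Q ≤ M) (hn : 5 ≤ n) {i₀ : Fin n}
include hM hn

theorem pairU_e (j : Fin n) : PairU Q e c M i₀ (e j) := by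
  refine ⟨hE.Qe j, ?_⟩
  by_cases h : j = i₀
  · rw [h, refl_mul_self]; exact one_mem _
  · rw [← flip_pair hE (by omega) h]
    exact hM ⟨flip_mem_mono hE (by omega) _, flip_mem_omega hE (by omega)
      (by rw [Finset.card_pair h]; exact even_two)⟩

theorem pairU_refl {a : ι → F} (ha : PairU Q e c M i₀ a) : refl Q a ∈ pairStab Q e c M i₀ := by
  have fwd : ∀ x, PairU Q e c M i₀ x → PairU Q e c M i₀ (act (refl Q a) x) := fun x hx => by
    refine ⟨by rw [Q_act (refl_mem_iso Q a), hx.1], ?_⟩
    rw [← conj_refl Q (refl_mem_iso Q a), refl_inv]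
    have h := mul_mem (mul_mem ha.2 (inv_mem hx.2)) ha.2
    rwa [mul_inv_rev, refl_inv, refl_inv,
      show refl Q a * refl Q (e i₀) * (refl Q (e i₀) * refl Q x) * (refl Q a * refl Q (e i₀)) =
        refl Q a * (refl Q (e i₀) * refl Q (e i₀)) * refl Q x * refl Q a * refl Q (e i₀) by group,
      refl_mul_self, mul_one] at h
  refine ⟨refl_mem_iso Q a, fun x => ⟨fun h => ?_, fwd x⟩⟩
  have := fwd _ h
  rwa [← act_mul, refl_mul_self, act_one] at this

theorem mem_pairStab {g : GL ι F} (hg : g ∈ monoGroup e ⊓ Cfsg.Geo.omegaGL Q) :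
    g ∈ pairStab Q e c M i₀ := by
  have fwd : ∀ g ∈ monoGroup e ⊓ Cfsg.Geo.omegaGL Q, ∀ x, PairU Q e c M i₀ x →
      PairU Q e c M i₀ (act g x) := by
    intro g hg x hx
    have hgI := omega_le_iso hg.2
    refine ⟨by rw [Q_act hgI, hx.1], ?_⟩
    obtain ⟨σ, hσ⟩ := hg.1
    obtain ⟨s, hs, he⟩ := hσ i₀
    have h := mul_mem (mul_mem (mul_mem (hM hg) hx.2) (inv_mem (hM hg)))
      (pairU_e hE hM hn (i₀ := i₀) (σ i₀)).2
    rwa [show g * (refl Q x * refl Q (e i₀)) * g⁻¹ = (g * refl Q x * g⁻¹) * (g * refl Q (e i₀) * g⁻¹) by group,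
      conj_refl Q hgI, conj_refl Q hgI, he, refl_smul _ hs, mul_assoc, ← mul_assoc (refl Q (e (σ i₀))),
      refl_mul_self, one_mul] at h
  refine ⟨omega_le_iso hg.2, fun x => ⟨fun h => ?_, fwd g hg x⟩⟩
  have := fwd g⁻¹ (inv_mem hg) _ h
  rwa [act_inv_act] at this

theorem refl_e_mem_pairStab (j : Fin n) : refl Q (e j) ∈ pairStab Q e c M i₀ :=
  pairU_refl hE hM hn (pairU_e hE hM hn j)

theorem swap_mem_pairStab {a b a' b' : Fin n} (h : a ≠ b) (h' : a' ≠ b') :
    refl Q (e a - e b) * refl Q (e a' - e b') ∈ pairStab Q e c M i₀ :=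
  mem_pairStab hE hM hn ⟨swap_pair_mem_mono hE h h', swap_pair_mem_omega hE (by omega) h h'⟩

/-- A monomial element of the stabiliser exchanging `a` and `b` and fixing a prescribed small set. -/
theorem exists_exchange {S : Finset (Fin n)} (hS : S.card + 2 ≤ n) {a b : Fin n} (hab : a ≠ b)
    (_ha : a ∈ S) (_hb : b ∈ S) :
    ∃ g, g ∈ pairStab Q e c M i₀ ∧ g ∈ monoGroup e ∧
      ∃ π : Equiv.Perm (Fin n), (∀ l, act g (e l) = e (π l)) ∧ ∀ l ∈ S, π l = Equiv.swap a b l := by
  classical
  obtain ⟨k, hk, l, hl, hkl⟩ := Finset.one_lt_card.1 (show 1 < Sᶜ.card by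
    rw [Finset.card_compl, Fintype.card_fin]; omega)
  rw [Finset.mem_compl] at hk hl
  refine ⟨_, swap_mem_pairStab hE hM hn hab hkl, swap_pair_mem_mono hE hab hkl,
    Equiv.swap a b * Equiv.swap k l, fun x => ?_, fun x hx => ?_⟩
  · rw [act_mul, act_swap hE hkl, act_swap hE hab]; rfl
  · rw [Equiv.Perm.mul_apply, Equiv.swap_apply_of_ne_of_ne (fun h : x = k => hk (h ▸ hx))
      (fun h : x = l => hl (h ▸ hx))]

/-- A non-monomial vector of `PairU` supported in `S`. -/
def BadSet (Q : QuadraticForm F (ι → F)) (e : Fin n → ι → F) (c : F) (M : Subgroup (GL ι F)) (i₀ : Fin n)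
    (S : Finset (Fin n)) : Prop :=
  ∃ v, PairU Q e c M i₀ v ∧ (∀ l, l ∉ S → co Q e c v l = 0) ∧ refl Q v ∉ monoGroup e

theorem bad_all {S : Finset (Fin n)} (hS : S.card = 3) (hbad : BadSet Q e c M i₀ S) :
    ∀ S' : Finset (Fin n), S'.card = 3 → BadSet Q e c M i₀ S' := by
  classical
  intro S' hS'
  induction hd : (S \ S').card using Nat.strong_induction_on generalizing S with
  | _ d ih =>
    by_cases hsub : S ⊆ S'
    · rwa [← Finset.eq_of_subset_of_card_le hsub (by omega)]
    obtain ⟨b, hb, hb'⟩ := Finset.not_subset.1 hsub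
    obtain ⟨a, ha', ha⟩ : ∃ a ∈ S', a ∉ S := Finset.not_subset.1 fun h =>
      hb' (by rw [Finset.eq_of_subset_of_card_le h (by omega)]; exact hb)
    have hab : a ≠ b := fun h => ha (h ▸ hb)
    obtain ⟨k, k', hkk, hker⟩ := Finset.card_eq_two.1
      (show (S.erase b).card = 2 by rw [Finset.card_erase_of_mem hb, hS])
    have hk : k ∈ S.erase b := by rw [hker]; simp
    have hk' : k' ∈ S.erase b := by rw [hker]; simp
    obtain ⟨hkb, hkS⟩ := Finset.mem_erase.1 hk
    obtain ⟨hk'b, hk'S⟩ := Finset.mem_erase.1 hk'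
    have hka : k ≠ a := fun h => ha (h ▸ hkS)
    have hk'a : k' ≠ a := fun h => ha (h ▸ hk'S)
    obtain ⟨g, hg, hgm, π, hπ, hπS⟩ : ∃ g, g ∈ pairStab Q e c M i₀ ∧ g ∈ monoGroup e ∧
        ∃ π : Equiv.Perm (Fin n), (∀ l, act g (e l) = e (π l)) ∧ ∀ l ∈ S, π l ∈ insert a (S.erase b) := by
      refine ⟨_, swap_mem_pairStab hE hM hn hab hkk, swap_pair_mem_mono hE hab hkk,
        Equiv.swap a b * Equiv.swap k k', fun x => by rw [act_mul, act_swap hE hkk, act_swap hE hab]; rfl,
        fun x hx => ?_⟩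
      rw [Equiv.Perm.mul_apply]
      by_cases hxb : x = b
      · subst hxb
        rw [Equiv.swap_apply_of_ne_of_ne hkb.symm hk'b.symm, Equiv.swap_apply_right]
        exact Finset.mem_insert_self _ _
      have hx' : x ∈ S.erase b := Finset.mem_erase.2 ⟨hxb, hx⟩
      rw [hker, Finset.mem_insert, Finset.mem_singleton] at hx'
      refine Finset.mem_insert_of_mem ?_
      rcases hx' with rfl | rfl
      · rwa [Equiv.swap_apply_left, Equiv.swap_apply_of_ne_of_ne hk'a hk'b]
      · rwa [Equiv.swap_apply_right, Equiv.swap_apply_of_ne_of_ne hka hkb]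
    obtain ⟨v, hv, hvS, hvm⟩ := hbad
    refine ih _ ?_ (S := insert a (S.erase b)) ?_ ⟨act g v, (hg.2 v).2 hv, fun l hl => ?_, fun hm => hvm ?_⟩ rfl
    · rw [← hd]
      refine Finset.card_lt_card ⟨fun x hx => ?_, fun h => ?_⟩
      · simp only [Finset.mem_sdiff, Finset.mem_insert, Finset.mem_erase] at hx ⊢
        rcases hx.1 with rfl | hx1
        · exact absurd ha' hx.2
        · exact ⟨hx1.2, hx.2⟩
      · have := h (Finset.mem_sdiff.2 ⟨hb, hb'⟩)
        simp [hab.symm] at this
    · rw [Finset.card_insert_of_notMem (fun h => ha (Finset.mem_of_mem_erase h)), Finset.card_erase_of_mem hb]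
      omega
    · obtain ⟨j, rfl⟩ := π.surjective l
      rw [co_act_of_perm hE hg.1 (π := π) (hπ j)]
      exact hvS j fun hj => hl (hπS j hj)
    · have := mul_mem (mul_mem (inv_mem hgm) hm) hgm
      rwa [← conj_refl Q hg.1, ← mul_assoc, ← mul_assoc, inv_mul_cancel, one_mul, mul_assoc, inv_mul_cancel,
        mul_one] at this

variable (hp : (Nat.card F).Prime)
include hp

/-- Transitivity inside a bad triple. -/
theorem move_triple {S : Finset (Fin n)} (hS : S.card = 3) (hbad : BadSet Q e c M i₀ S) {x y : ι → F}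
    (hx : ∀ l, l ∉ S → co Q e c x l = 0) (hy : ∀ l, l ∉ S → co Q e c y l = 0) (hxy : Q x = Q y)
    (hx0 : Q x ≠ 0) :
    ∃ g ∈ pairStab Q e c M i₀, (∀ l, l ∉ S → act g (e l) = e l) ∧ act g x = y := by
  classical
  set τ : Fin 3 → Fin n := fun i => S.orderEmbOfFin hS i with hτdef
  have hτ : Function.Injective τ := (S.orderEmbOfFin hS).injective
  have hτS : ∀ i, τ i ∈ S := fun i => S.orderEmbOfFin_mem hS i
  have hoff : ∀ l, l ∉ S → ∀ i, l ≠ τ i := fun l hl i h => hl (h ▸ hτS i)
  have hon : ∀ l, l ∈ S → ∃ i, l = τ i := fun l hl => by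
    have h : l ∈ Set.range (S.orderEmbOfFin hS) := by rw [Finset.range_orderEmbOfFin]; exact hl
    obtain ⟨i, hi⟩ := h
    exact ⟨i, hi.symm⟩
  have hsupp : ∀ z : ι → F, (∀ l, l ∉ S → co Q e c z l = 0) → ∀ l, (∀ i, l ≠ τ i) → co Q e c z l = 0 :=
    fun z hz l hl => hz l fun h => by
      obtain ⟨i, hi⟩ := hon l h
      exact hl i hi
  let lin : (Fin 3 → F) → ι → F := fun z => ∑ i, z i • e (τ i)
  have lin_inj : Function.Injective lin := fun z z' h => funext fun j => by
    have := congrArg (fun w => co Q e c w (τ j)) h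
    simpa only [lin, co_comb_self hE hτ] using this
  let K : Subgroup (GL (Fin 3) F) :=
    { carrier := {m | ∃ g ∈ pairStab Q e c M i₀, (∀ l, l ∉ S → act g (e l) = e l) ∧
        ∀ z, act g (lin z) = lin ((m : Matrix (Fin 3) (Fin 3) F) *ᵥ z)}
      one_mem' := ⟨1, one_mem _, fun l _ => act_one _, fun z => by rw [act_one, Units.val_one, Matrix.one_mulVec]⟩
      mul_mem' := fun {m m'} ⟨g, hg, f, hm⟩ ⟨g', hg', f', hm'⟩ => ⟨g * g', mul_mem hg hg',
        fun l hl => by rw [act_mul, f' l hl, f l hl],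
        fun z => by rw [act_mul, hm', hm, Units.val_mul, Matrix.mulVec_mulVec]⟩
      inv_mem' := fun {m} ⟨g, hg, f, hm⟩ => ⟨g⁻¹, inv_mem hg,
        fun l hl => by conv_lhs => rw [← f l hl, act_inv_act],
        fun z => act_injective g (by
          rw [act_act_inv, hm, Matrix.mulVec_mulVec, ← Units.val_mul, mul_inv_cancel, Units.val_one,
            Matrix.one_mulVec])⟩ }
  have isoK : ∀ g ∈ isometryGroup F Q, ∀ m : Matrix (Fin 3) (Fin 3) F,
      (∀ z, act g (lin z) = lin (m *ᵥ z)) → mᵀ * m = 1 := fun g hg m hm => by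
    ext i j
    have h := B_act hg (lin (Pi.single i 1)) (lin (Pi.single j 1))
    rw [hm, hm, B_comb hE hτ, B_comb hE hτ, Matrix.mulVec_single_one, Matrix.mulVec_single_one] at h
    have h' := mul_left_cancel₀ hE.two_c h
    rw [Matrix.mul_apply]
    simp only [dotProduct, Matrix.col_apply] at h'
    simp only [Matrix.transpose_apply]
    rw [h', Matrix.one_apply]
    simp [Pi.single_apply, eq_comm]
  have mk : ∀ g ∈ pairStab Q e c M i₀, (∀ l, l ∉ S → act g (e l) = e l) →
      ∃ m ∈ K, (∀ z, act g (lin z) = lin ((m : Matrix (Fin 3) (Fin 3) F) *ᵥ z)) ∧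
        ∀ i j, (m : Matrix (Fin 3) (Fin 3) F) i j = co Q e c (act g (e (τ j))) (τ i) := by
    intro g hg f
    set N : Matrix (Fin 3) (Fin 3) F := Matrix.of fun i j => co Q e c (act g (e (τ j))) (τ i) with hN
    have hNz : ∀ z, act g (lin z) = lin (N *ᵥ z) := by
      intro z
      have hj : ∀ j, act g (e (τ j)) = lin fun i => N i j := fun j => by
        refine eq_comb hE hτ (hsupp _ fun l hl => ?_)
        rw [supp_image hE hg.1 f hl, hE.co_e, if_neg (hoff l hl j)]
      simp only [lin, map_sum, map_smul]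
      simp only [hj, lin, Finset.smul_sum, smul_smul]
      rw [Finset.sum_comm]
      refine Finset.sum_congr rfl fun i _ => ?_
      rw [← Finset.sum_smul]
      congr 1
      simp only [Matrix.mulVec, dotProduct]
      exact Finset.sum_congr rfl fun j _ => mul_comm _ _
    have hNN := isoK g hg.1 N hNz
    obtain ⟨m, hmN⟩ : ∃ m : GL (Fin 3) F, (m : Matrix (Fin 3) (Fin 3) F) = N :=
      ⟨⟨N, Nᵀ, mul_eq_one_comm.1 hNN, hNN⟩, rfl⟩
    refine ⟨m, ⟨g, hg, f, ?_⟩, ?_, fun i j => by rw [hmN]; rfl⟩ <;> (rw [hmN]; exact hNz)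
  have horth : ∀ m ∈ K, (m : Matrix (Fin 3) (Fin 3) F)ᵀ * (m : Matrix (Fin 3) (Fin 3) F) = 1 :=
    fun m hmK => Exists.elim hmK fun g hg => isoK g hg.1.1 _ hg.2.2
  have hsign : ∀ ε : Fin 3 → F, (∀ i, ε i = 1 ∨ ε i = -1) →
      ∃ g ∈ K, (g : Matrix (Fin 3) (Fin 3) F) = Matrix.diagonal ε := by
    intro ε hε
    have one : ∀ i, ∃ g ∈ pairStab Q e c M i₀, (∀ l, l ∉ S → act g (e l) = e l) ∧
        ∀ j, act g (e (τ j)) = (if i = j then ε i else 1) • e (τ j) := by
      intro i
      rcases hε i with h | h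
      · exact ⟨1, one_mem _, fun l _ => act_one _, fun j => by rw [h]; simp [act_one]⟩
      · refine ⟨_, refl_e_mem_pairStab hE hM hn (τ i), fun l hl => ?_, fun j => ?_⟩
        · rw [hE.act_refl_e, if_neg fun h' => hoff l hl i h'.symm]
        · rw [hE.act_refl_e, h]
          by_cases hij : i = j
          · subst hij; simp
          · rw [if_neg fun h' => hij (hτ h'), if_neg hij, one_smul]
    choose f hf hfo hfa using one
    obtain ⟨m, hm, -, hme⟩ := mk (f 0 * f 1 * f 2) (mul_mem (mul_mem (hf 0) (hf 1)) (hf 2))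
      (fun l hl => by rw [act_mul, act_mul, hfo 2 l hl, hfo 1 l hl, hfo 0 l hl])
    refine ⟨m, hm, ?_⟩
    ext i j
    rw [hme, act_mul, act_mul, hfa, map_smul, hfa, map_smul, map_smul, hfa, co_smul, co_smul, co_smul, hE.co_e]
    fin_cases i <;> fin_cases j <;> simp [hτ.eq_iff]
  have hperm : ∀ σ : Equiv.Perm (Fin 3), ∀ m ∈ K, ∃ h ∈ K,
      (h : Matrix (Fin 3) (Fin 3) F) = (m : Matrix (Fin 3) (Fin 3) F).submatrix σ σ := by
    intro σ
    induction σ using Equiv.Perm.swap_induction_on' with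
    | one => exact fun m hm => ⟨m, hm, by ext; simp⟩
    | mul_swap σ a b hab ih =>
      intro m hm
      obtain ⟨m₁, hm₁, e₁⟩ := ih m hm
      obtain ⟨g, hg, f, hgz⟩ := hm₁
      obtain ⟨h, hh, -, π, hπ, hπS⟩ := exists_exchange hE hM hn (i₀ := i₀) (S := S) (by omega)
        (hτ.ne hab) (hτS a) (hτS b)
      have hlin : ∀ z, act h (lin z) = lin (z ∘ Equiv.swap a b) := by
        intro z
        simp only [lin, map_sum, map_smul, hπ, hπS _ (hτS _), hτ.swap_apply, Function.comp_apply]
        refine Finset.sum_nbij' (Equiv.swap a b) (Equiv.swap a b) ?_ ?_ ?_ ?_ ?_ <;> simp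
      have hinv : ∀ z, act h⁻¹ (lin z) = lin (z ∘ Equiv.swap a b) := fun z => act_injective h (by
        rw [act_act_inv, hlin]
        congr 1
        funext i
        simp)
      have hfix : ∀ l, l ∉ S → act (h * g * h⁻¹) (e l) = e l := by
        intro l hl
        obtain ⟨j, rfl⟩ := π.surjective l
        have hj : j ∉ S := fun hj => hl (by
          obtain ⟨i, rfl⟩ := hon j hj
          rw [hπS _ hj, hτ.swap_apply]; exact hτS _)
        rw [act_mul, act_mul, ← hπ j, act_inv_act, f j hj]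
      obtain ⟨m', hm', hm'z, -⟩ := mk (h * g * h⁻¹) (mul_mem (mul_mem hh hg) (inv_mem hh)) hfix
      refine ⟨m', hm', ?_⟩
      have key : ∀ z, (m' : Matrix (Fin 3) (Fin 3) F) *ᵥ z =
          (m₁ : Matrix (Fin 3) (Fin 3) F).submatrix (Equiv.swap a b) (Equiv.swap a b) *ᵥ z := fun z => lin_inj (by
        rw [← hm'z, act_mul, act_mul, hinv, hgz, hlin, Matrix.submatrix_mulVec_equiv, Equiv.symm_swap])
      rw [Matrix.ext_iff_mulVec.2 key, e₁, Matrix.submatrix_submatrix, Equiv.Perm.coe_mul]
  obtain ⟨v, hv, hvS, hvm⟩ := hbad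
  have hnon : ∃ g ∈ K, ∃ i k j, i ≠ k ∧ (g : Matrix (Fin 3) (Fin 3) F) i j ≠ 0 ∧
      (g : Matrix (Fin 3) (Fin 3) F) k j ≠ 0 := by
    have hr := pairU_refl hE hM hn hv
    have hQv : Q v ≠ 0 := by rw [hv.1]; exact hE.c0
    have f : ∀ l, l ∉ S → act (refl Q v) (e l) = e l := fun l hl => act_refl_fix Q hQv (by
      rw [B_comm Q]
      have h := hvS l hl
      rw [co, div_eq_zero_iff] at h
      exact h.resolve_right hE.two_c)
    obtain ⟨m, hm, -, hme⟩ := mk _ hr f
    refine ⟨m, hm, ?_⟩
    by_contra hc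
    push Not at hc
    refine hvm (isMono_of_forall hE fun l => ?_)
    by_cases hl : l ∈ S
    swap
    · exact ⟨l, 1, by rw [f l hl, one_smul]⟩
    obtain ⟨j, rfl⟩ := hon l hl
    have hcol : ∀ l', (∀ i, l' ≠ τ i) → co Q e c (act (refl Q v) (e (τ j))) l' = 0 := hsupp _ fun l' hl' => by
      rw [supp_image hE hr.1 f hl', hE.co_e, if_neg (hoff l' hl' j)]
    rw [eq_comb hE hτ hcol]
    simp only [← hme]
    obtain ⟨i, hi⟩ : ∃ i, ∀ k, k ≠ i → (m : Matrix (Fin 3) (Fin 3) F) k j = 0 := by
      by_cases h : ∃ i, (m : Matrix (Fin 3) (Fin 3) F) i j ≠ 0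
      · obtain ⟨i, hi⟩ := h
        exact ⟨i, fun k hk => by_contra fun hk' => hk' (hc i k j hk.symm hi)⟩
      · push Not at h
        exact ⟨0, fun k _ => h k⟩
    exact ⟨τ i, (m : Matrix (Fin 3) (Fin 3) F) i j, Finset.sum_eq_single i
      (fun k _ hk => by rw [hi k hk, zero_smul]) (fun h => absurd (Finset.mem_univ i) h)⟩
  have hxl := eq_comb hE hτ (hsupp x hx)
  have hyl := eq_comb hE hτ (hsupp y hy)
  set a : Fin 3 → F := fun i => co Q e c x (τ i)
  set b : Fin 3 → F := fun i => co Q e c y (τ i)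
  have hBa : B x x = 2 * c * (a ⬝ᵥ a) := by rw [hxl, B_comb hE hτ]
  have hBb : B y y = 2 * c * (b ⬝ᵥ b) := by rw [hyl, B_comb hE hτ]
  rw [Orth.B_self Q] at hBa hBb
  have hab : a ⬝ᵥ a = b ⬝ᵥ b := mul_left_cancel₀ hE.two_c (by rw [← hBa, ← hBb, hxy])
  have ha0 : a ⬝ᵥ a ≠ 0 := fun h => by
    rw [h, mul_zero] at hBa
    exact hx0 ((mul_eq_zero.1 hBa).resolve_left hE.two)
  obtain ⟨m, ⟨g, hg, f, hgz⟩, hmv⟩ := rotation_transitive hp hE.two K horth hsign hperm hnon hab ha0
  refine ⟨g, hg, f, ?_⟩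
  rw [hxl, hyl]
  show act g (lin a) = lin b
  rw [hgz, hmv]

/-- All vectors of the frame value, away from characteristic three. -/
theorem pairU_all_of_bad {S : Finset (Fin n)} (hS : S.card = 3) (hbad : BadSet Q e c M i₀ S)
    (h3 : (3 : F) ≠ 0) : ∀ w, Q w = c → PairU Q e c M i₀ w := by
  classical
  haveI := Fintype.ofFinite F
  intro w
  induction hd : (Finset.univ.filter fun i => co Q e c w i ≠ 0).card using Nat.strong_induction_on generalizing w with
  | _ d ih =>
    intro hw
    set W := Finset.univ.filter fun i => co Q e c w i ≠ 0 with hW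
    have hW0 : ∀ l, l ∉ W → co Q e c w l = 0 := fun l hl => by simpa [hW] using hl
    by_cases hd3 : d ≤ 3
    · obtain ⟨T, hWT, -, hT⟩ := Finset.exists_subsuperset_card_eq (Finset.subset_univ W)
        (show W.card ≤ 3 by omega) (show 3 ≤ (Finset.univ : Finset (Fin n)).card by simp; omega)
      obtain ⟨j, hj⟩ : T.Nonempty := Finset.card_pos.1 (by omega)
      obtain ⟨g, hg, -, hge⟩ := move_triple hE hM hn hp hT (bad_all hE hM hn hS hbad T hT) (x := e j) (y := w)
        (fun l hl => by rw [hE.co_e, if_neg (fun h : l = j => hl (h ▸ hj))])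
        (fun l hl => hW0 l fun h => hl (hWT h)) (by rw [hE.Qe, hw]) (by rw [hE.Qe]; exact hE.c0)
      rw [← hge, pairU_refl_iff_e hg]
      exact pairU_e hE hM hn j
    obtain ⟨T, hTW, hT, hs⟩ : ∃ T, T ⊆ W ∧ T.card = 3 ∧ (∑ i ∈ T, co Q e c w i ^ 2) ≠ 0 := by
      by_contra hc
      push Not at hc
      obtain ⟨R, hRW, hR⟩ := Finset.exists_subset_card_eq (show 4 ≤ W.card by omega)
      have h : ∀ i ∈ R, co Q e c w i ^ 2 = ∑ l ∈ R, co Q e c w l ^ 2 := fun i hi => by
        rw [← Finset.add_sum_erase R _ hi, hc (R.erase i) ((Finset.erase_subset i R).trans hRW)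
          (by rw [Finset.card_erase_of_mem hi, hR]), add_zero]
      have hsum := Finset.sum_congr rfl h
      rw [Finset.sum_const, hR, nsmul_eq_mul] at hsum
      have hz : (∑ l ∈ R, co Q e c w l ^ 2) = 0 := by
        refine (mul_eq_zero.1 (?_ : (3 : F) * _ = 0)).resolve_left h3
        push_cast at hsum
        linear_combination -hsum
      obtain ⟨i, hi⟩ : R.Nonempty := Finset.card_pos.1 (by omega)
      have := h i hi
      rw [hz, sq_eq_zero_iff] at this
      have hiW := hRW hi
      simp [hW, this] at hiW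
    obtain ⟨a, b, r, hab, har, hbr, rfl⟩ := Finset.card_eq_three.1 hT
    set s := ∑ i ∈ ({a, b, r} : Finset (Fin n)), co Q e c w i ^ 2 with hsdef
    obtain ⟨p, q, hpq⟩ : ∃ p q : F, p ^ 2 + q ^ 2 = s := by
      obtain ⟨p, q, h⟩ := FiniteField.exists_root_sum_quadratic
        (f := (Polynomial.X ^ 2 : Polynomial F)) (g := Polynomial.X ^ 2 + Polynomial.C (-s))
        (Polynomial.degree_X_pow 2)
        (by rw [Polynomial.degree_add_C (by rw [Polynomial.degree_X_pow]; decide), Polynomial.degree_X_pow]; rfl)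
        (FiniteField.odd_card_of_char_ne_two fun hc => hE.two (by
          haveI := ringChar.of_eq hc
          exact CharTwo.two_eq_zero))
      simp only [Polynomial.eval_pow, Polynomial.eval_X, Polynomial.eval_add, Polynomial.eval_C] at h
      exact ⟨p, q, by linear_combination h⟩
    set u : ι → F := ∑ i, (if i ∈ ({a, b, r} : Finset (Fin n)) then co Q e c w i else 0) • e i with hu
    set z : ι → F := p • e a + q • e b with hz
    have hu0 : ∀ l, l ∉ ({a, b, r} : Finset (Fin n)) → co Q e c u l = 0 := fun l hl => by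
      rw [hu, hE.co_sum, if_neg hl]
    have hz0 : ∀ l, l ∉ ({a, b, r} : Finset (Fin n)) → co Q e c z l = 0 := fun l hl => by
      simp only [Finset.mem_insert, Finset.mem_singleton, not_or] at hl
      simp [hz, co_add, co_smul, hE.co_e, hl.1, hl.2.1]
    have hQu : Q u = c * s := by
      rw [hE.Q_eq, hsdef]
      congr 1
      rw [← Finset.sum_subset (Finset.subset_univ ({a, b, r} : Finset (Fin n))) (fun l _ hl => by
        rw [hu0 l hl]; ring)]
      exact Finset.sum_congr rfl fun l hl => by rw [hu, hE.co_sum, if_pos hl]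
    have hQz : Q z = c * s := by
      rw [hz, Q_add Q, Q_smul Q, Q_smul Q, B_smul_left Q, B_smul_right Q, hE.orth a b hab, hE.Qe, hE.Qe, ← hpq]
      ring
    obtain ⟨g, hg, f, hgu⟩ := move_triple hE hM hn hp hT (bad_all hE hM hn hS hbad _ hT) hu0 hz0
      (hQu.trans hQz.symm) (by rw [hQu]; exact mul_ne_zero hE.c0 hs)
    rw [← pairU_refl_iff_e hg]
    refine ih _ ?_ (act g w) rfl (by rw [Q_act hg.1, hw])
    rw [← hd]
    refine Finset.card_lt_card ⟨fun l hl => ?_, fun h => ?_⟩
    · simp only [Finset.mem_filter, Finset.mem_univ, true_and] at hl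
      by_contra hlW
      exact hl (by
        rw [supp_image hE hg.1 f (fun h => hlW (hTW h))]
        exact hW0 l hlW)
    · have hr : co Q e c (act g w) r = 0 := by
        have hrest : act g (w - u) = w - u := by
          conv_lhs => rw [← hE.repr (w - u), map_sum]
          conv_rhs => rw [← hE.repr (w - u)]
          refine Finset.sum_congr rfl fun l _ => ?_
          by_cases hl : l ∈ ({a, b, r} : Finset (Fin n))
          · rw [show co Q e c (w - u) l = 0 by rw [co_sub, hu, hE.co_sum, if_pos hl, sub_self], zero_smul, map_zero]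
          · rw [map_smul, f l hl]
        have : act g w = z + (w - u) := by
          rw [← hgu]
          conv_rhs => rw [← hrest, ← map_add, add_sub_cancel]
        rw [this, co_add, co_sub, hu, hE.co_sum, if_pos (by simp), sub_self, add_zero]
        simp [hz, co_add, co_smul, hE.co_e, har.symm, hbr.symm]
      have := h (hTW (show r ∈ ({a, b, r} : Finset (Fin n)) by simp))
      simp [hr] at this

/-- All vectors of the frame value over the field of three elements. -/
theorem pairU_all_of_four (hq : Nat.card F = 3) {v : ι → F} (hv : PairU Q e c M i₀ v) {T : Finset (Fin n)}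
    (hT : ∀ l, l ∉ T → co Q e c v l = 0) (hTc : T.card ≤ 4) (hvm : refl Q v ∉ monoGroup e) :
    ∀ w, Q w = c → PairU Q e c M i₀ w := by
  classical
  haveI := Fintype.ofFinite F
  have sq1 : ∀ x : F, x ≠ 0 → x ^ 2 = 1 := fun x hx => by
    have := FiniteField.pow_card_sub_one_eq_one x hx
    rwa [← Nat.card_eq_fintype_card, hq] at this
  have pm : ∀ x y : F, x ≠ 0 → y ≠ 0 → x = y ∨ x = -y := fun x y hx hy =>
    sq_eq_sq_iff_eq_or_eq_neg.1 ((sq1 x hx).trans (sq1 y hy).symm)
  have h30 : (3 : F) = 0 := by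
    have h := Nat.cast_card_eq_zero F
    rw [← Nat.card_eq_fintype_card, hq] at h
    exact_mod_cast h
  let W : (ι → F) → Finset (Fin n) := fun x => Finset.univ.filter fun i => co Q e c x i ≠ 0
  have hWm : ∀ x i, i ∈ W x ↔ co Q e c x i ≠ 0 := fun x i => by simp [W]
  have hmod : ∀ x, Q x = c → ((W x).card : F) = 1 := fun x hx => by
    rw [hE.Q_eq] at hx
    have h : ∑ i, co Q e c x i ^ 2 = 1 := mul_left_cancel₀ hE.c0 (hx.trans (mul_one c).symm)
    rw [← Finset.sum_filter_ne_zero] at h
    rw [← h, Finset.card_eq_sum_ones, Nat.cast_sum]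
    refine Finset.sum_congr (by ext i; simp [W]) fun i hi => ?_
    simp only [Finset.mem_filter, Finset.mem_univ, true_and] at hi
    rw [sq1 _ (fun h => hi (by rw [h]; ring))]
    simp
  have small : ∀ x, Q x = c → (W x).card ≤ 4 → (W x).card = 4 ∨ ∃ j, ∃ s : F, s ≠ 0 ∧ x = s • e j := by
    intro x hx hle
    have h := hmod x hx
    have h2 := hE.two
    interval_cases hk : (W x).card
    · exact absurd h (by simp)
    · obtain ⟨j, hj⟩ := Finset.card_eq_one.1 hk
      refine Or.inr ⟨j, co Q e c x j, (hWm x j).1 (by rw [hj]; exact Finset.mem_singleton_self j), hE.ext_co fun l => ?_⟩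
      rw [co_smul, hE.co_e]
      by_cases hlj : l = j
      · rw [hlj, if_pos rfl, mul_one]
      · rw [if_neg hlj, mul_zero]
        by_contra hne
        exact hlj (Finset.mem_singleton.1 (hj ▸ (hWm x l).2 hne))
    · exact absurd (show (1 : F) = 0 by push_cast at h; linear_combination h) one_ne_zero
    · exact absurd (show (1 : F) = 0 by push_cast at h; linear_combination -h + h30) one_ne_zero
    · exact Or.inl rfl
  have hv4 : (W v).card = 4 := by
    refine (small v hv.1 ((Finset.card_le_card fun i hi => ?_).trans hTc)).resolve_right ?_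
    · by_contra hi'
      exact (hWm v i).1 hi (hT i hi')
    · rintro ⟨j, s, hs, rfl⟩
      rw [refl_smul _ hs] at hvm
      exact hvm (isMono_of_forall hE fun i =>
        ⟨i, if j = i then -1 else 1, by rw [hE.act_refl_e]; by_cases h : j = i <;> simp [h]⟩)
  have same : ∀ x, Q x = c → W x = W v → PairU Q e c M i₀ x := by
    intro x
    induction hd : ((W v).filter fun i => co Q e c x i ≠ co Q e c v i).card using Nat.strong_induction_on
      generalizing x with
    | _ d ih =>
      intro hx hWx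
      by_cases h : ∃ i ∈ W v, co Q e c x i ≠ co Q e c v i
      swap
      · push Not at h
        rwa [show x = v from hE.ext_co fun i => by
          by_cases hi : i ∈ W v
          · exact h i hi
          · have h1 : i ∉ W x := by rw [hWx]; exact hi
            rw [hWm, not_not] at hi h1
            rw [hi, h1]]
      obtain ⟨i, hi, hne⟩ := h
      rw [← pairU_refl_iff_e (refl_e_mem_pairStab hE hM hn i)]
      have hco : ∀ l, co Q e c (act (refl Q (e i)) x) l = if i = l then -co Q e c x l else co Q e c x l := by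
        intro l
        rw [co, co, ← B_act (refl_mem_iso Q (e i)) _ (act (refl Q (e i)) x), ← act_mul, refl_mul_self, act_one,
          hE.act_refl_e]
        split_ifs <;> simp [B_neg_left Q, neg_div]
      refine ih _ ?_ _ rfl (by rw [Q_act (refl_mem_iso Q _), hx]) ?_
      · rw [← hd]
        refine Finset.card_lt_card ⟨fun l hl => ?_, fun h => ?_⟩
        · simp only [Finset.mem_filter, hco] at hl ⊢
          refine ⟨hl.1, ?_⟩
          by_cases hil : i = l
          · subst hil; exact hne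
          · rw [if_neg hil] at hl; exact hl.2
        · have := h (Finset.mem_filter.2 ⟨hi, hne⟩)
          simp only [Finset.mem_filter, hco, if_true] at this
          have hxi : co Q e c x i ≠ 0 := (hWm x i).1 (hWx ▸ hi)
          exact this.2 (((pm _ _ hxi ((hWm v i).1 hi)).resolve_left hne).symm ▸ neg_neg _)
      · rw [← hWx]
        ext l
        simp only [hWm, hco]
        split_ifs <;> simp
  have four : ∀ x, Q x = c → (W x).card = 4 → PairU Q e c M i₀ x := by
    intro x
    induction hd : (W x \ W v).card using Nat.strong_induction_on generalizing x with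
    | _ d ih =>
      intro hx hx4
      by_cases hsub : W x ⊆ W v
      · exact same x hx (Finset.eq_of_subset_of_card_le hsub (by omega))
      obtain ⟨a, ha, ha'⟩ := Finset.not_subset.1 hsub
      obtain ⟨b, hb', hb⟩ : ∃ b ∈ W v, b ∉ W x := Finset.not_subset.1 fun h =>
        ha' (by rw [Finset.eq_of_subset_of_card_le h (by omega)]; exact ha)
      have hab : a ≠ b := fun h => hb (h ▸ ha)
      obtain ⟨k, hk, k', hk', hkk⟩ := Finset.one_lt_card.1
        (show 1 < ((W x).erase a).card by rw [Finset.card_erase_of_mem ha]; omega)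
      obtain ⟨hka, hkx⟩ := Finset.mem_erase.1 hk
      obtain ⟨hk'a, hk'x⟩ := Finset.mem_erase.1 hk'
      have hkb : k ≠ b := fun h => hb (h ▸ hkx)
      have hk'b : k' ≠ b := fun h => hb (h ▸ hk'x)
      obtain ⟨g, hg, π, hπ, hπS⟩ : ∃ g, g ∈ pairStab Q e c M i₀ ∧
          ∃ π : Equiv.Perm (Fin n), (∀ l, act g (e l) = e (π l)) ∧
            ∀ l, π l ∈ insert b ((W x).erase a) ↔ l ∈ W x := by
        refine ⟨_, swap_mem_pairStab hE hM hn hab hkk, Equiv.swap a b * Equiv.swap k k',
          fun l => by rw [act_mul, act_swap hE hkk, act_swap hE hab]; rfl, fun l => ?_⟩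
        rw [Equiv.Perm.mul_apply]
        by_cases hlk : l = k
        · subst hlk
          rw [Equiv.swap_apply_left, Equiv.swap_apply_of_ne_of_ne hk'a hk'b]
          simp [hk'a, hk'x, hkx]
        by_cases hlk' : l = k'
        · subst hlk'
          rw [Equiv.swap_apply_right, Equiv.swap_apply_of_ne_of_ne hka hkb]
          simp [hka, hkx, hk'x]
        rw [Equiv.swap_apply_of_ne_of_ne hlk hlk']
        by_cases hla : l = a
        · subst hla; simp [ha]
        by_cases hlb : l = b
        · subst hlb; simp [hb, hab]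
        rw [Equiv.swap_apply_of_ne_of_ne hla hlb]
        simp [hla, hlb]
      rw [← pairU_refl_iff_e hg]
      have hWg : W (act g x) = insert b ((W x).erase a) := by
        ext l
        obtain ⟨j, rfl⟩ := π.surjective l
        rw [hWm, co_act_of_perm hE hg.1 (π := π) (hπ j), ← hWm, hπS]
      refine ih _ ?_ _ rfl (by rw [Q_act hg.1, hx]) ?_
      · rw [← hd, hWg]
        refine Finset.card_lt_card ⟨fun l hl => ?_, fun h => ?_⟩
        · simp only [Finset.mem_sdiff, Finset.mem_insert, Finset.mem_erase] at hl ⊢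
          rcases hl.1 with rfl | h1
          · exact absurd hb' hl.2
          · exact ⟨h1.2, hl.2⟩
        · have := h (Finset.mem_sdiff.2 ⟨ha, ha'⟩)
          simp [hab] at this
      · rw [hWg, Finset.card_insert_of_notMem (fun h => hb (Finset.mem_of_mem_erase h)),
          Finset.card_erase_of_mem ha]
        omega
  intro w
  induction hd : (W w).card using Nat.strong_induction_on generalizing w with
  | _ d ih =>
    intro hw
    by_cases hd4 : d ≤ 4
    · rcases small w hw (by omega) with h | ⟨j, s, hs, rfl⟩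
      · exact four w hw h
      · refine ⟨hw, ?_⟩
        rw [refl_smul _ hs]
        exact (pairU_e hE hM hn j).2
    obtain ⟨R, hRW, hR⟩ := Finset.exists_subset_card_eq (show 4 ≤ (W w).card by omega)
    obtain ⟨l, hl⟩ : R.Nonempty := Finset.card_pos.1 (by omega)
    set a : ι → F := ∑ i, (if i ∈ R then (if i = l then -co Q e c w i else co Q e c w i) else 0) • e i with ha
    have hca : ∀ i, co Q e c a i = if i ∈ R then (if i = l then -co Q e c w i else co Q e c w i) else 0 :=
      fun i => by rw [ha, hE.co_sum]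
    have hR0 : ∀ i ∈ R, co Q e c w i ≠ 0 := fun i hi => (hWm w i).1 (hRW hi)
    have hsum : ∀ f : Fin n → F, (∀ i, i ∉ R → f i = 0) → ∑ i, f i = ∑ i ∈ R, f i := fun f hf =>
      (Finset.sum_subset (Finset.subset_univ R) fun i _ hi => hf i hi).symm
    have hQa : Q a = c := by
      rw [hE.Q_eq, hsum _ (fun i hi => by rw [hca, if_neg hi]; ring), Finset.sum_congr rfl (fun i hi => (show
        co Q e c a i ^ 2 = 1 from by
          rw [hca, if_pos hi]; split_ifs
          · rw [neg_sq]; exact sq1 _ (hR0 i hi)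
          · exact sq1 _ (hR0 i hi))), Finset.sum_const, hR, nsmul_eq_mul, mul_one]
      push_cast
      linear_combination c * h30
    have hBaw : B a w = c := by
      rw [hE.B_eq, hsum _ (fun i hi => by rw [hca, if_neg hi, zero_mul]), ← Finset.add_sum_erase R _ hl,
        Finset.sum_congr rfl (fun i hi => (show co Q e c a i * co Q e c w i = 1 from by
          obtain ⟨hil, hiR⟩ := Finset.mem_erase.1 hi
          rw [hca, if_pos hiR, if_neg hil, ← sq, sq1 _ (hR0 i hiR)])), Finset.sum_const,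
        Finset.card_erase_of_mem hl, hR, hca, if_pos hl, if_pos rfl, nsmul_eq_mul, mul_one, neg_mul, ← sq,
        sq1 _ (hR0 l hl)]
      push_cast
      linear_combination c * h30
    have hU : PairU Q e c M i₀ a := by
      refine four a hQa ?_
      rw [← hR]
      congr 1
      ext i
      rw [hWm, hca]
      by_cases hi : i ∈ R
      · simp only [hi, iff_true]
        split_ifs <;> simp [hR0 i hi]
      · simp [hi]
    rw [← pairU_refl_iff_e (pairU_refl hE hM hn hU)]
    have hact : act (refl Q a) w = w - a := by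
      rw [act_refl Q (by rw [hQa]; exact hE.c0), hQa, hBaw, inv_mul_cancel₀ hE.c0, one_smul]
    refine ih _ ?_ _ rfl (by rw [Q_act (refl_mem_iso Q _), hw])
    rw [← hd, hact]
    obtain ⟨i, hiR, hil⟩ := Finset.exists_mem_ne (s := R) (by omega) l
    refine Finset.card_lt_card ⟨fun j hj => ?_, fun h => ?_⟩
    · rw [hWm, co_sub, hca] at hj
      by_cases hjR : j ∈ R
      · exact hRW hjR
      · rw [if_neg hjR, sub_zero] at hj
        exact (hWm w j).2 hj
    · have := h (hRW hiR)
      rw [hWm, co_sub, hca, if_pos hiR, if_neg hil, sub_self] at this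
      exact this rfl

theorem omega_le_of_pair_aux {v : ι → F} (hv : Q v = c) {T : Finset (Fin n)}
    (hT : ∀ i, i ∉ T → co Q e c v i = 0) (hcard : T.card ≤ 3 ∨ (Nat.card F = 3 ∧ T.card ≤ 4))
    (hnm : refl Q v ∉ monoGroup e) (hvM : refl Q v * refl Q (e i₀) ∈ M) : Cfsg.Geo.omegaGL Q ≤ M := by
  classical
  have hQ := hE.nondegenerate
  have hn5 : 5 ≤ Fintype.card ι := by rw [hE.card]; omega
  have hU : PairU Q e c M i₀ v := ⟨hv, hvM⟩
  have all : ∀ w, Q w = c → PairU Q e c M i₀ w := by
    by_cases hq : Nat.card F = 3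
    · exact pairU_all_of_four hE hM hn hp hq hU hT (by omega) hnm
    · have hTc : T.card ≤ 3 := by
        rcases hcard with h | h
        · exact h
        · exact absurd h.1 hq
      have h3 : (3 : F) ≠ 0 := fun h => hq (by
        haveI := Fintype.ofFinite F
        have hp' : (Fintype.card F).Prime := by rwa [← Nat.card_eq_fintype_card]
        haveI := Fact.mk hp'
        haveI : CharP F (Fintype.card F) := charP_of_card_eq_prime rfl
        have h' : ((3 : ℕ) : F) = 0 := by exact_mod_cast h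
        rw [Nat.card_eq_fintype_card]
        exact (Nat.prime_three.eq_one_or_self_of_dvd _ ((CharP.cast_eq_zero_iff F (Fintype.card F) 3).1 h')).resolve_left
          hp'.ne_one)
      obtain ⟨S, hTS, -, hS⟩ := Finset.exists_subsuperset_card_eq (Finset.subset_univ T) hTc
        (show 3 ≤ (Finset.univ : Finset (Fin n)).card by simp; omega)
      exact pairU_all_of_bad hE hM hn hp hS ⟨v, hU, fun l hl => hT l fun h => hl (hTS h), hnm⟩ h3
  have pairs : ∀ y z, Q y = c → Q z = c → refl Q y * refl Q z ∈ M := fun y z hy hz => by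
    have h := mul_mem (all y hy).2 (inv_mem (all z hz).2)
    rwa [mul_inv_rev, refl_inv, refl_inv, mul_assoc, ← mul_assoc (refl Q (e i₀)), refl_mul_self, one_mul] at h
  have unit : ∀ u y, Q u = 0 → Q y = c → B u y = 0 → sg Q u y ∈ M := fun u y hu hy huy => by
    have h := refl_shift (x := u) (y := y) hu (by rw [hy]; exact hE.c0) huy c
    rw [hy, div_self hE.c0, one_smul] at h
    rw [← h]
    refine pairs y _ hy ?_
    rw [Q_add Q, Q_smul Q, B_smul_right Q, hu, hy, B_comm Q y u, huy]; ring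
  rw [omega_eq_sgGroup hQ hn5, sgGroup, Subgroup.closure_le]
  rintro _ ⟨⟨u, w⟩, rfl⟩
  show sg Q u w ∈ M
  by_cases huw : Q u = 0 ∧ B u w = 0
  swap
  · rw [sg_of_not Q huw]; exact one_mem _
  obtain ⟨hu, huw⟩ := huw
  have h2 := hE.two
  have aniso : ∀ w, B u w = 0 → Q w ≠ 0 → sg Q u w ∈ M := by
    intro w huw hw0
    obtain ⟨z, hzR, hz0⟩ := exists_aniso_perp_span hE hQ hn ![u, w] (by simp)
    obtain ⟨z', hz'R, hz'0⟩ := exists_aniso_perp_three hE hQ hn hu huw hw0 hzR hz0
    have hzu : B u z = 0 := hzR 0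
    have hzw : B w z = 0 := hzR 1
    obtain ⟨y, hyu, hyw, hy⟩ : ∃ y, B u y = 0 ∧ B w y = 0 ∧ Q y = 4 * c - Q w := by
      obtain ⟨p, q, hpq⟩ := exists_binary_value h2 hz0 hz'0 (4 * c - Q w)
      refine ⟨p • z + q • z', ?_, ?_, ?_⟩
      · rw [B_add_right Q, B_smul_right Q, B_smul_right Q, hzu, show B u z' = 0 from hz'R 0]; ring
      · rw [B_add_right Q, B_smul_right Q, B_smul_right Q, hzw, show B w z' = 0 from hz'R 1]; ring
      · rw [Q_add Q, Q_smul Q, Q_smul Q, B_smul_left Q, B_smul_right Q, show B z z' = 0 from hz'R 2, ← hpq]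
        ring
    have e : w = (2 : F)⁻¹ • (w + y) + (2 : F)⁻¹ • (w - y) := by
      rw [← smul_add, add_add_sub_cancel, ← two_smul F w, smul_smul, inv_mul_cancel₀ h2, one_smul]
    have a1 : B u ((2 : F)⁻¹ • (w + y)) = 0 := by rw [B_smul_right Q, B_add_right Q, huw, hyu]; ring
    have a2 : B u ((2 : F)⁻¹ • (w - y)) = 0 := by rw [B_smul_right Q, B_sub_right Q, huw, hyu]; ring
    rw [e, ← sg_add Q hu a1 a2]
    refine mul_mem (unit u _ hu ?_ a1) (unit u _ hu ?_ a2)
    · rw [Q_smul Q, Q_add Q, hyw, hy]; field_simp; ring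
    · rw [Q_smul Q, Q_sub Q, hyw, hy]; field_simp; ring
  by_cases hw0 : Q w ≠ 0
  · exact aniso w huw hw0
  rw [not_not] at hw0
  obtain ⟨z, hzR, hz0⟩ := exists_aniso_perp_span hE hQ hn ![u] (by simp)
  have hzu : B u z = 0 := hzR 0
  obtain ⟨t, ht0, ht⟩ : ∃ t : F, t ≠ 0 ∧ t * B w z + t * t * Q z ≠ 0 := by
    by_cases h : B w z + Q z = 0
    · refine ⟨-1, neg_ne_zero.2 one_ne_zero, fun h' => hz0 ?_⟩
      exact (mul_eq_zero.1 (by linear_combination h + h' : (2 : F) * Q z = 0)).resolve_left h2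
    · exact ⟨1, one_ne_zero, fun h' => h (by linear_combination h')⟩
  have b1 : B u (w + t • z) = 0 := by rw [B_add_right Q, B_smul_right Q, huw, hzu]; ring
  have b2 : B u (-(t • z)) = 0 := by rw [B_neg_right Q, B_smul_right Q, hzu]; ring
  rw [show w = (w + t • z) + -(t • z) by abel, ← sg_add Q hu b1 b2]
  refine mul_mem (aniso _ b1 ?_) (aniso _ b2 ?_)
  · rw [Q_add Q, Q_smul Q, B_smul_right Q, hw0]
    intro h; exact ht (by linear_combination h)
  · rw [Q_neg Q, Q_smul Q]; exact mul_ne_zero (mul_ne_zero ht0 ht0) hz0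

omit hE hM hn hp

/-- **Generation**: one non-monomial reflection pair of small support gives all of Omega. -/
theorem omega_le_of_pair (hE : Frame Q e c) (hp : (Nat.card F).Prime) (hn : 5 ≤ n) {M : Subgroup (GL ι F)}
    (hM : monoGroup e ⊓ Cfsg.Geo.omegaGL Q ≤ M) {i₀ : Fin n} {v : ι → F} (hv : Q v = c) {T : Finset (Fin n)}
    (hT : ∀ i, i ∉ T → co Q e c v i = 0) (hcard : T.card ≤ 3 ∨ (Nat.card F = 3 ∧ T.card ≤ 4))
    (hnm : refl Q v ∉ monoGroup e) (hvM : refl Q v * refl Q (e i₀) ∈ M) : Cfsg.Geo.omegaGL Q ≤ M :=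
  omega_le_of_pair_aux hE hM hn hp hv hT hcard hnm hvM

end Cfsg.Agent.MaxCl.Mono
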