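/-
A group containing all sign changes and enough transpositions of a frame is monomial or contains a non-monomial
reflection of small support.
-/
import Cfsg.Agent.Lib.MaxCl.Mono.Frame

set_option autoImplicit false
set_option linter.unusedSectionVars false

namespace Cfsg.Agent.MaxCl.Mono

open scoped MatrixGroups Matrix
open Orth

variable {ι : Type} [Fintype ι] [DecidableEq ι] {F : Type*} [Field F] {Q : QuadraticForm F (ι → F)} {n : ℕ}
  {e : Fin n → ι → F} {c : F}

set_option quotPrecheck false in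
local notation "B" => QuadraticMap.polar (⇑Q)

open Classical in
/-- The support of a vector with respect to the frame. -/
noncomputable def supp (Q : QuadraticForm F (ι → F)) (e : Fin n → ι → F) (c : F) (x : ι → F) : Finset (Fin n) :=
  Finset.univ.filter fun i => co Q e c x i ≠ 0

theorem mem_supp {x : ι → F} {i : Fin n} : i ∈ supp Q e c x ↔ co Q e c x i ≠ 0 := by simp [supp]

/-- A single coordinate, or two with equal squares. -/
def Plain (Q : QuadraticForm F (ι → F)) (e : Fin n → ι → F) (c : F) (x : ι → F) : Prop :=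
  (supp Q e c x).card ≤ 1 ∨ ((supp Q e c x).card = 2 ∧
    ∀ i ∈ supp Q e c x, ∀ j ∈ supp Q e c x, co Q e c x i ^ 2 = co Q e c x j ^ 2)

theorem Plain.card_le {x : ι → F} (h : Plain Q e c x) : (supp Q e c x).card ≤ 2 := by
  rcases h with h | ⟨h, -⟩ <;> omega

theorem not_plain_of_card {x : ι → F} (h : 3 ≤ (supp Q e c x).card) : ¬ Plain Q e c x := fun hp => by
  have := hp.card_le; omega

theorem sum_supp (x : ι → F) : ∑ i, co Q e c x i ^ 2 = ∑ i ∈ supp Q e c x, co Q e c x i ^ 2 :=
  (Finset.sum_subset (Finset.subset_univ _) fun i _ hi => by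
    rw [mem_supp, not_not] at hi; simp [hi]).symm

variable (hE : Frame Q e c)
include hE

theorem Frame.repr_supp (x : ι → F) : ∑ i ∈ supp Q e c x, co Q e c x i • e i = x := by
  conv_rhs => rw [← hE.repr x]
  exact Finset.sum_subset (Finset.subset_univ _) fun i _ hi => by
    rw [mem_supp, not_not] at hi; simp [hi]

theorem co_refl {v : ι → F} (hv : Q v ≠ 0) (x : ι → F) (i : Fin n) :
    co Q e c (act (refl Q v) x) i =
      co Q e c x i - 2 * (∑ j, co Q e c v j * co Q e c x j) / (∑ j, co Q e c v j ^ 2) * co Q e c v i := by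
  rw [act_refl Q hv, co_sub, co_smul, hE.Q_eq, hE.B_eq]
  have hN : (∑ j, co Q e c v j ^ 2) ≠ 0 := fun h => hv (by rw [hE.Q_eq, h, mul_zero])
  have := hE.c0
  field_simp

theorem co_refl_e {v : ι → F} (hv : Q v ≠ 0) (l i : Fin n) :
    co Q e c (act (refl Q v) (e l)) i =
      (if i = l then 1 else 0) - 2 * co Q e c v l / (∑ j, co Q e c v j ^ 2) * co Q e c v i := by
  rw [co_refl hE hv, hE.co_e,
    Finset.sum_eq_single l (fun j _ hj => by rw [hE.co_e, if_neg hj, mul_zero])
      (fun h => absurd (Finset.mem_univ l) h), hE.co_e, if_pos rfl, mul_one]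

theorem supp_refl_e {v : ι → F} (hv : Q v ≠ 0) {l : Fin n} (hl : l ∈ supp Q e c v)
    (h : 2 * co Q e c v l ^ 2 ≠ ∑ j, co Q e c v j ^ 2) :
    supp Q e c (act (refl Q v) (e l)) = supp Q e c v := by
  have hN : (∑ j, co Q e c v j ^ 2) ≠ 0 := fun h0 => hv (by rw [hE.Q_eq, h0, mul_zero])
  ext i
  rw [mem_supp, mem_supp, co_refl_e hE hv]
  rw [mem_supp] at hl
  by_cases hi : i = l
  · subst hi
    rw [if_pos rfl]
    refine iff_of_true (fun h0 => h ?_) hl
    field_simp at h0
    linear_combination -h0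
  · rw [if_neg hi, zero_sub, neg_ne_zero]
    exact ⟨fun h0 h1 => h0 (by rw [h1, mul_zero]),
      fun h0 => mul_ne_zero (div_ne_zero (mul_ne_zero hE.two hl) hN) h0⟩

theorem plain_of_refl_mono {v : ι → F} (hv : Q v ≠ 0) (hm : refl Q v ∈ monoGroup e) : Plain Q e c v := by
  have hN : (∑ j, co Q e c v j ^ 2) ≠ 0 := fun h0 => hv (by rw [hE.Q_eq, h0, mul_zero])
  obtain ⟨σ, hσ⟩ := hm
  have key : ∀ l ∈ supp Q e c v, ∀ i, i ≠ σ l → i ∈ supp Q e c v →
      i = l ∧ 2 * co Q e c v l ^ 2 = ∑ j, co Q e c v j ^ 2 := by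
    intro l hl i hi hiv
    obtain ⟨s, -, hs⟩ := hσ l
    have h0 := congrArg (co Q e c · i) hs
    simp only [co_refl_e hE hv, co_smul, hE.co_e, if_neg hi, mul_zero] at h0
    rw [mem_supp] at hl hiv
    by_cases hil : i = l
    · subst hil
      refine ⟨rfl, ?_⟩
      rw [if_pos rfl] at h0
      field_simp at h0
      linear_combination -h0
    · rw [if_neg hil, zero_sub, neg_eq_zero] at h0
      exact absurd h0 (mul_ne_zero (div_ne_zero (mul_ne_zero hE.two hl) hN) hiv)
  by_cases hc1 : (supp Q e c v).card ≤ 1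
  · exact Or.inl hc1
  have hσne : ∀ l ∈ supp Q e c v, 2 * co Q e c v l ^ 2 = ∑ j, co Q e c v j ^ 2 := by
    intro l hl
    by_cases hsl : l = σ l
    · obtain ⟨i, hi, hil⟩ := Finset.exists_mem_ne (s := supp Q e c v) (by omega) l
      exact absurd (key l hl i (fun e' => hil (e'.trans hsl.symm)) hi).1 hil
    · exact (key l hl l hsl hl).2
  have hsq : ∀ i ∈ supp Q e c v, ∀ j ∈ supp Q e c v, co Q e c v i ^ 2 = co Q e c v j ^ 2 :=
    fun i hi j hj => mul_left_cancel₀ hE.two ((hσne i hi).trans (hσne j hj).symm)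
  refine Or.inr ⟨?_, hsq⟩
  obtain ⟨l, hl⟩ : (supp Q e c v).Nonempty := Finset.card_pos.1 (by omega)
  by_contra hne
  obtain ⟨i, hi, hil, hiσ⟩ : ∃ i ∈ supp Q e c v, i ≠ l ∧ i ≠ σ l := by
    classical
    obtain ⟨i, hi, hni⟩ := Finset.exists_mem_notMem_of_card_lt_card (s := {l, σ l}) (t := supp Q e c v)
      (lt_of_le_of_lt Finset.card_le_two (by omega))
    simp only [Finset.mem_insert, Finset.mem_singleton, not_or] at hni
    exact ⟨i, hi, hni.1, hni.2⟩
  exact hil (key l hl i hiσ hi).1

omit hE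

/-- All sign changes on `T` and enough transpositions. -/
structure ReflCtx (Q : QuadraticForm F (ι → F)) (e : Fin n → ι → F) (T : Finset (Fin n))
    (G : Subgroup (GL ι F)) : Prop where
  five : 5 ≤ T.card
  iso : G ≤ isometryGroup F Q
  fix : ∀ g ∈ G, ∀ i ∉ T, act g (e i) = e i
  sign : ∀ i ∈ T, refl Q (e i) ∈ G
  swap : ∀ X : Finset (Fin n), X ⊆ T → X.card ≤ 3 → ∀ a ∈ X, ∀ b ∈ X,
    ∃ g ∈ G, ∀ x ∈ X, act g (e x) = e (Equiv.swap a b x)
  dswap : ∀ a ∈ T, ∀ b ∈ T, ∀ a' ∈ T, ∀ b' ∈ T, a ≠ b → a' ≠ b' →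
    ∃ g ∈ G, ∀ x ∈ T, act g (e x) = e ((Equiv.swap a b * Equiv.swap a' b') x)
  root : IsSquare (2 : F) → ∀ a ∈ T, ∀ b ∈ T, a ≠ b → refl Q (e a - e b) ∈ G

/-- `v` is a reflecting vector of `G`. -/
def RV (Q : QuadraticForm F (ι → F)) (G : Subgroup (GL ι F)) (v : ι → F) : Prop := Q v ≠ 0 ∧ refl Q v ∈ G

variable {T : Finset (Fin n)} {G : Subgroup (GL ι F)} (hC : ReflCtx Q e T G)
include hC

theorem RV.act {v : ι → F} (hv : RV Q G v) {g : GL ι F} (hg : g ∈ G) : RV Q G (MaxCl.act g v) :=
  ⟨by rw [Q_act (hC.iso hg)]; exact hv.1, by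
    rw [← conj_refl Q (hC.iso hg)]; exact mul_mem (mul_mem hg hv.2) (inv_mem hg)⟩

include hE

theorem rv_e {i : Fin n} (hi : i ∈ T) : RV Q G (e i) := ⟨by rw [hE.Qe]; exact hE.c0, hC.sign i hi⟩

theorem supp_subset {v : ι → F} (hv : RV Q G v) : supp Q e c v ⊆ T := by
  intro i hi
  by_contra hiT
  have h := congrArg (fun x => B (e i) x) (hC.fix _ hv.2 i hiT)
  simp only [act_refl Q hv.1, B_sub_right Q, B_smul_right Q, hE.B_self, B_comm Q (e i) v] at h
  have h0 : B v (e i) = 0 := by
    have h' : (Q v)⁻¹ * (B v (e i) * B v (e i)) = 0 := by linear_combination -h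
    exact mul_self_eq_zero.1 ((mul_eq_zero.1 h').resolve_left (inv_ne_zero hv.1))
  rw [mem_supp, co, B_comm Q, h0, zero_div] at hi
  exact hi rfl

theorem flip_mem_refl [Finite F] (hn : 5 ≤ n) {S : Finset (Fin n)} (hS : S ⊆ T) : flip hE hn S ∈ G := by
  classical
  induction S using Finset.induction_on with
  | empty =>
    have : flip hE hn ∅ = 1 := hE.gl_ext fun j => by rw [act_flip, act_one]; simp
    rw [this]; exact one_mem _
  | insert a S ha ih =>
    have h : flip hE hn (insert a S) = flip hE hn S * refl Q (e a) := hE.gl_ext fun j => by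
      rw [act_flip, act_mul, hE.act_refl_e]
      by_cases hja : a = j
      · subst hja; simp [map_neg, act_flip, ha]
      · simp [hja, act_flip, Ne.symm hja]
    rw [h]
    exact mul_mem (ih fun x hx => hS (Finset.mem_insert_of_mem hx)) (hC.sign a (hS (Finset.mem_insert_self a S)))

omit hC

/-- The part of `v` on the coordinates in `S`. -/
theorem exists_part (S : Finset (Fin n)) (v : ι → F) : ∃ u : ι → F,
    (∀ i, co Q e c u i = if i ∈ S then co Q e c v i else 0) ∧
    (∀ i, co Q e c (v - u) i = if i ∈ S then 0 else co Q e c v i) ∧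
    B u (v - u) = 0 ∧ Q v = Q u + Q (v - u) := by
  have h1 : ∀ i, co Q e c (∑ j, (if j ∈ S then co Q e c v j else 0) • e j) i =
      if i ∈ S then co Q e c v i else 0 := fun i => by rw [hE.co_sum]
  refine ⟨_, h1, fun i => by rw [co_sub, h1]; split_ifs <;> simp, ?_, ?_⟩
  · rw [hE.B_eq, Finset.sum_eq_zero, mul_zero]
    intro i _
    rw [co_sub, h1]; split_ifs <;> simp
  · conv_lhs => rw [← add_sub_cancel (∑ j, (if j ∈ S then co Q e c v j else 0) • e j) v]
    rw [Q_add Q, add_eq_left, hE.B_eq, Finset.sum_eq_zero, mul_zero]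
    intro i _
    rw [co_sub, h1]; split_ifs <;> simp

include hC

/-- The singular case of the splitting. -/
theorem rv_rest [Finite F] (hn : 5 ≤ n) (hp : (Nat.card F).Prime) {v : ι → F} (hv : RV Q G v)
    {S : Finset (Fin n)} (hS : S ⊆ T) {u : ι → F} (hu : ∀ i, co Q e c u i = if i ∈ S then co Q e c v i else 0)
    (hB : B u (v - u) = 0) (hQu : Q u = 0) : RV Q G (v - u) := by
  have hd := flip_mem_refl hE hC hn hS
  have hdv : MaxCl.act (flip hE hn S) v = v + (-2 : F) • u := hE.ext_co fun i => by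
    rw [co_flip, co_add, co_smul, hu]; split_ifs <;> ring
  have hBuv : B u v = 0 := by
    rw [show v = u + (v - u) by abel, B_add_right Q, B_self_of_singular Q hQu, hB, add_zero]
  set w := (-2 / Q v : F) • (v - u) with hw
  have hBw : B u w = 0 := by rw [hw, B_smul_right Q, hB, mul_zero]
  have hs : sg Q u w ∈ G := by
    have h := mul_mem hv.2 (hv.act hC hd).2
    rw [hdv, refl_shift hQu hv.1 hBuv (-2)] at h
    rwa [← sg_add_smul Q hQu hBw (-2 / Q v),
      show w + (-2 / Q v) • u = (-2 / Q v) • v by rw [hw]; module]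
  have hpow : ∀ k : ℕ, sg Q u ((k : F) • w) ∈ G := by
    intro k
    induction k with
    | zero => rw [Nat.cast_zero, zero_smul, sg_zero]; exact one_mem _
    | succ k ih =>
      rw [Nat.cast_succ, add_smul, one_smul, ← sg_add Q hQu (by rw [B_smul_right Q, hBw, mul_zero]) hBw]
      exact mul_mem ih hs
  obtain ⟨k, hk⟩ := exists_natCast hp (-1 / 4 : F)
  have h4 : (4 : F) ≠ 0 := by
    rw [show (4 : F) = 2 * 2 by norm_num]; exact mul_ne_zero hE.two hE.two
  have hg : MaxCl.act (sg Q u ((k : F) • w)) v = v - u := by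
    have hQ1 : B (v - u) v = 2 * Q v := by
      rw [B_sub_left Q, hBuv, sub_zero, Orth.B_self Q]
    rw [act_sg Q hQu (by rw [B_smul_right Q, hBw, mul_zero]), hBuv, B_smul_left Q, hw, B_smul_left Q, hQ1, hk]
    match_scalars
    · ring
    · have := hv.1
      field_simp
      ring
  exact hg ▸ hv.act hC (hpow k)

/-- Splitting a reflecting vector along a set of coordinates. -/
theorem split [Finite F] (hn : 5 ≤ n) (hp : (Nat.card F).Prime) {v : ι → F} (hv : RV Q G v)
    {S : Finset (Fin n)} (hS : S ⊆ T) {u : ι → F} (hu : ∀ i, co Q e c u i = if i ∈ S then co Q e c v i else 0)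
    (hu' : ∀ i, co Q e c (v - u) i = if i ∈ S then 0 else co Q e c v i)
    (hB : B u (v - u) = 0) :
    RV Q G u ∨ RV Q G (v - u) ∨ (Q u ≠ 0 ∧ Q (v - u) ≠ 0 ∧ ∀ l ∈ S, RV Q G (MaxCl.act (refl Q u) (e l))) := by
  classical
  by_cases hQu : Q u = 0
  · exact Or.inr (Or.inl (rv_rest hE hC hn hp hv hS hu hB hQu))
  by_cases hQw : Q (v - u) = 0
  · refine Or.inl ?_
    have h := rv_rest hE hC hn hp hv (S := T \ S) Finset.sdiff_subset (u := v - u) (fun i => ?_)
      (by rw [sub_sub_cancel, B_comm Q, hB]) hQw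
    · rwa [sub_sub_cancel] at h
    · rw [hu']
      by_cases hiS : i ∈ S
      · simp [hiS]
      · by_cases hiT : i ∈ T
        · simp [hiS, hiT]
        · have : co Q e c v i = 0 := by
            by_contra hne
            exact hiT (supp_subset hE hC hv (mem_supp.2 hne))
          simp [hiS, hiT, this]
  set w := v - u with hwdef
  set d := flip hE hn S with hddef
  have hd : d ∈ G := flip_mem_refl hE hC hn hS
  have hdI : d ∈ isometryGroup F Q := hC.iso hd
  have hdu : MaxCl.act d u = -u := (flip_negated hE hn).2 fun i hi => by rw [hu, if_neg hi]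
  have hdw : MaxCl.act d w = w := (flip_fixed hE hn).2 fun i hi => by rw [hu', if_pos hi]
  have huw : v = u + w := by rw [hwdef]; abel
  set rv := refl Q v
  set rS := refl Q u
  have hru : MaxCl.act rS u = -u := act_refl_self Q hQu
  have hrw : MaxCl.act rS w = w := act_refl_fix Q hQu hB
  set d' := rS * d with hd'
  have hd'I : d' ∈ isometryGroup F Q := mul_mem (refl_mem_iso Q _) hdI
  have hd'u : MaxCl.act d' u = u := by rw [hd', act_mul, hdu, map_neg, hru, neg_neg]
  have hd'v : MaxCl.act d' v = v := by rw [huw, map_add, hd'u, hd', act_mul, hdw, hrw]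
  have hc1 : Commute d' rv := by
    have h := conj_refl Q hd'I v
    rw [hd'v] at h
    exact mul_inv_eq_iff_eq_mul.1 h
  have hc2 : Commute d' rS := by
    have h := conj_refl Q hd'I u
    rw [hd'u] at h
    exact mul_inv_eq_iff_eq_mul.1 h
  have hdd : d' * d' = 1 := by
    conv_lhs => arg 2; rw [hd']
    rw [← mul_assoc, hc2.eq, hd', ← mul_assoc rS rS d, refl_mul_self, one_mul, flip_mul_self]
  set ρ := rv * rS with hρ
  have hρd : Commute ρ d' := (hc1.mul_right hc2).symm
  have hxy : rv * d = ρ * d' := by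
    rw [hρ, hd', mul_assoc, ← mul_assoc rS rS d, refl_mul_self, one_mul]
  have hpow : ∀ j, ρ ^ j * d' ^ j ∈ G := fun j => by
    rw [← hρd.mul_pow, ← hxy]
    exact pow_mem (mul_mem hv.2 hd) j
  have hd'pow : ∀ j, d' ^ (2 * j) = 1 := fun j => by rw [pow_mul, pow_two, hdd, one_pow]
  haveI : Finite (GL ι F) := inferInstance
  obtain ⟨o, ho⟩ : ∃ o, o = orderOf ρ := ⟨_, rfl⟩
  have ho0 : 0 < o := ho ▸ orderOf_pos ρ
  rcases Nat.even_or_odd o with ⟨j, hj⟩ | ⟨j, hj⟩
  swap
  · refine Or.inl ⟨hQu, ?_⟩
    have h := hpow o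
    rw [show ρ ^ o = 1 by rw [ho]; exact pow_orderOf_eq_one ρ, one_mul, hj, pow_succ, hd'pow, one_mul] at h
    have := mul_mem h hd
    rwa [hd', mul_assoc, flip_mul_self, mul_one] at this
  set η := ρ ^ j with hη
  have hη2 : η * η = 1 := by rw [hη, ← pow_add, ← hj, ho, pow_orderOf_eq_one]
  have hη1 : η ≠ 1 := fun h => by
    have := Nat.le_of_dvd (by omega) (orderOf_dvd_of_pow_eq_one h)
    omega
  have hρI : ρ ∈ isometryGroup F Q := mul_mem (refl_mem_iso Q _) (refl_mem_iso Q _)
  have hηI : η ∈ isometryGroup F Q := pow_mem hρI j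
  have hcomm : ∀ r, r * r = 1 → r * ρ * r⁻¹ = ρ⁻¹ → Commute η r := by
    intro r hr h
    have h1 : r * η * r⁻¹ = η := by
      rw [hη, ← conj_pow, h, inv_pow, ← hη]
      exact inv_eq_of_mul_eq_one_right hη2
    exact (mul_inv_eq_iff_eq_mul.1 h1).symm
  have hρinv : ρ⁻¹ = rS * rv := by rw [hρ, mul_inv_rev, refl_inv, refl_inv]
  have hηv : Commute η rv := hcomm rv (refl_mul_self Q v) (by
    rw [hρinv, hρ, refl_inv, ← mul_assoc, refl_mul_self, one_mul])
  have hηu : Commute η rS := hcomm rS (refl_mul_self Q u) (by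
    rw [hρinv, hρ, refl_inv, mul_assoc, mul_assoc, refl_mul_self, mul_one])
  have eig : ∀ x : ι → F, Q x ≠ 0 → Commute η (refl Q x) → ∃ a : F, MaxCl.act η x = a • x := by
    intro x hx hc
    have h := conj_refl Q hηI x
    rw [hc.eq, mul_inv_cancel_right] at h
    have h' := congrArg (fun g => MaxCl.act g x) h
    simp only [act_refl_self Q hx, act_refl Q (show Q (MaxCl.act η x) ≠ 0 by rwa [Q_act hηI]), Q_act hηI] at h'
    set k := (Q x)⁻¹ * B (MaxCl.act η x) x
    have h2x : k • MaxCl.act η x = (2 : F) • x := by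
      linear_combination (norm := module) h'
    have hk : k ≠ 0 := fun hk0 => by
      rw [hk0, zero_smul] at h2x
      exact hx (by rw [((smul_eq_zero.1 h2x.symm).resolve_left hE.two), map_zero])
    exact ⟨k⁻¹ * 2, by rw [mul_smul, ← h2x, smul_smul, inv_mul_cancel₀ hk, one_smul]⟩
  obtain ⟨a, ha⟩ := eig u hQu hηu
  obtain ⟨b, hb⟩ := eig v hv.1 hηv
  have haw : MaxCl.act η w = b • v - a • u := by rw [hwdef, map_sub, hb, ha]
  have h2u : 2 * Q u ≠ 0 := mul_ne_zero hE.two hQu
  have haa : a * a = 1 := mul_right_cancel₀ hQu (by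
    have := Q_act hηI u
    rw [ha, Q_smul Q] at this
    rw [this, one_mul])
  have hab : a = b := by
    have h := B_act hηI u w
    rw [ha, haw, hB, B_smul_left Q, B_sub_right Q, B_smul_right Q, B_smul_right Q, huw, B_add_right Q, hB,
      Orth.B_self Q] at h
    have ha0 : a ≠ 0 := left_ne_zero_of_mul_eq_one haa
    have h' : a * (2 * Q u) * (b - a) = 0 := by linear_combination h
    exact (sub_eq_zero.1 ((mul_eq_zero.1 h').resolve_left (mul_ne_zero ha0 h2u))).symm
  subst hab
  have haw' : MaxCl.act η w = a • w := by rw [haw, huw]; module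
  have hfix : ∀ x, B u x = 0 → B w x = 0 → MaxCl.act η x = x := by
    intro x h1 h2
    have hvx : B v x = 0 := by rw [huw, B_add_left Q, h1, h2, add_zero]
    have hρx : MaxCl.act ρ x = x := by rw [hρ, act_mul, act_refl_fix Q hQu h1, act_refl_fix Q hv.1 hvx]
    rw [hη]
    clear_value ρ
    clear * - hρx
    induction j with
    | zero => rw [pow_zero, act_one]
    | succ j ih => rw [pow_succ, act_mul, hρx, ih]
  have hext : ∀ g, MaxCl.act g u = a • u → MaxCl.act g w = a • w →
      (∀ x, B u x = 0 → B w x = 0 → MaxCl.act g x = x) → g = η := by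
    intro g hgu hgw hgx
    apply MaxCl.gl_ext
    intro x
    set α := B u x / (2 * Q u)
    set β := B w x / (2 * Q w)
    have h2w : 2 * Q w ≠ 0 := mul_ne_zero hE.two hQw
    have r1 : B u (x - α • u - β • w) = 0 := by
      rw [B_sub_right Q, B_sub_right Q, B_smul_right Q, B_smul_right Q, hB, Orth.B_self Q, mul_zero, sub_zero,
        div_mul_cancel₀ _ h2u, sub_self]
    have r2 : B w (x - α • u - β • w) = 0 := by
      rw [B_sub_right Q, B_sub_right Q, B_smul_right Q, B_smul_right Q, B_comm Q w u, hB, Orth.B_self Q,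
        mul_zero, sub_zero, div_mul_cancel₀ _ h2w, sub_self]
    rw [show x = α • u + β • w + (x - α • u - β • w) by abel, map_add, map_add, map_add, map_add, map_smul,
      map_smul, map_smul, map_smul, hgu, hgw, hgx _ r1 r2, ha, haw', hfix _ r1 r2]
  rcases mul_self_eq_one_iff.1 haa with rfl | rfl
  · exact absurd (hext 1 (by rw [act_one, one_smul]) (by rw [act_one, one_smul]) fun x _ _ => act_one x).symm hη1
  have hηeq : rS * refl Q w = η := hext _
    (by rw [act_mul, act_refl_fix Q hQw (by rw [B_comm Q, hB]), hru, neg_one_smul])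
    (by rw [act_mul, act_refl_self Q hQw, map_neg, hrw, neg_one_smul])
    (fun x h1 h2 => by rw [act_mul, act_refl_fix Q hQw h2, act_refl_fix Q hQu h1])
  rcases Nat.even_or_odd j with ⟨i, hi⟩ | ⟨i, hi⟩
  · refine Or.inr (Or.inr ⟨hQu, hQw, fun l hl => ?_⟩)
    have hz : η ∈ G := by
      have h := hpow j
      rwa [show d' ^ j = 1 by rw [hi, ← two_mul, hd'pow], mul_one] at h
    have h := (rv_e hE hC (hS hl)).act hC hz
    rwa [← hηeq, act_mul, act_refl_fix Q hQw (by
      rw [hE.B_eq, Finset.sum_eq_zero, mul_zero]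
      intro i _
      rw [hu', hE.co_e]
      by_cases hil : i = l
      · rw [hil, if_pos hl, zero_mul]
      · rw [if_neg hil, mul_zero])] at h
  · refine Or.inr (Or.inl ⟨hQw, ?_⟩)
    have h := hpow j
    rw [show d' ^ j = d' by rw [hi, pow_succ, hd'pow, one_mul], ← hη, ← hηeq, hd',
      (refl_commute Q hB).eq, mul_assoc, ← mul_assoc rS rS d, refl_mul_self, one_mul] at h
    have := mul_mem h hd
    rwa [mul_assoc, flip_mul_self, mul_one] at this

theorem co_swap {v : ι → F} {X : Finset (Fin n)} (hvX : supp Q e c v ⊆ X) {a b : Fin n} {g : GL ι F}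
    (hg : ∀ x ∈ X, MaxCl.act g (e x) = e (Equiv.swap a b x)) (i : Fin n) :
    co Q e c (MaxCl.act g v) i = co Q e c v (Equiv.swap a b i) := by
  have h : MaxCl.act g v = ∑ j, co Q e c v (Equiv.swap a b j) • e j := by
    rw [← Equiv.sum_comp (Equiv.swap a b) (fun j => co Q e c v (Equiv.swap a b j) • e j)]
    simp only [Equiv.swap_apply_self]
    conv_lhs => rw [← hE.repr v, map_sum]
    refine Finset.sum_congr rfl fun j _ => ?_
    rw [map_smul]
    by_cases hj : co Q e c v j = 0
    · rw [hj, zero_smul, zero_smul]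
    · rw [hg j (hvX (mem_supp.2 hj))]
  rw [h, hE.co_sum]

omit hC in
theorem exists_good_l {v : ι → F} (hv : Q v ≠ 0) (h3 : 3 ≤ (supp Q e c v).card)
    (h32 : (((supp Q e c v).card : ℕ) : F) ≠ 2) :
    ∃ l ∈ supp Q e c v, 2 * co Q e c v l ^ 2 ≠ ∑ j, co Q e c v j ^ 2 := by
  by_contra hne
  push Not at hne
  have hN : (∑ j, co Q e c v j ^ 2) ≠ 0 := fun h0 => hv (by rw [hE.Q_eq, h0, mul_zero])
  have h := Finset.sum_congr rfl hne
  rw [← Finset.mul_sum, ← sum_supp, Finset.sum_const, nsmul_eq_mul] at h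
  exact h32 (mul_right_cancel₀ hN h).symm

theorem refl_image_supp_three [Finite F] (hn : 5 ≤ n) (hp : (Nat.card F).Prime) {v : ι → F}
    (hv : RV Q G v) {S : Finset (Fin n)} (hS : S ⊆ supp Q e c v) (hS3 : S.card = 3)
    (h3 : (3 : F) ≠ 2) (N3 : ∀ w, RV Q G w → (supp Q e c w).card ≤ 3 → Plain Q e c w) :
    ∃ w, RV Q G w ∧ (∀ i, co Q e c w i = if i ∈ S then 0 else co Q e c v i) ∧
      supp Q e c w = supp Q e c v \ S := by
  obtain ⟨u, hu, hu', hB, -⟩ := exists_part hE S v
  have hsu : supp Q e c u = S := by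
    ext i
    rw [mem_supp, hu]
    by_cases hi : i ∈ S
    · simp [hi, mem_supp.1 (hS hi)]
    · simp [hi]
  rcases split hE hC hn hp hv (hS.trans (supp_subset hE hC hv)) hu hu' hB with h | h | ⟨h1, -, h⟩
  · exact absurd (N3 u h (by rw [hsu, hS3])) (not_plain_of_card (by rw [hsu, hS3]))
  · refine ⟨v - u, h, hu', ?_⟩
    ext i
    rw [mem_supp, hu', Finset.mem_sdiff, mem_supp]
    by_cases hi : i ∈ S <;> simp [hi]
  · obtain ⟨l, hl, hne⟩ := exists_good_l hE h1 (by rw [hsu, hS3]) (by rw [hsu, hS3]; exact_mod_cast h3)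
    have hsw := supp_refl_e hE h1 hl hne
    exact absurd (N3 _ (h l (hsu ▸ hl)) (by rw [hsw, hsu, hS3]))
      (not_plain_of_card (by rw [hsw, hsu, hS3]))

theorem no_five [Finite F] (hn : 5 ≤ n) (hp : (Nat.card F).Prime) (h3 : (3 : F) ≠ 0)
    (N3 : ∀ w, RV Q G w → (supp Q e c w).card ≤ 3 → Plain Q e c w) {v : ι → F} (hv : RV Q G v) :
    (supp Q e c v).card ≠ 5 := by
  intro h5
  have h32 : (3 : F) ≠ 2 := fun h => one_ne_zero (α := F) (by linear_combination h)
  have eqsq : ∀ w, RV Q G w → (supp Q e c w).card = 5 →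
      ∀ i ∈ supp Q e c w, ∀ j ∈ supp Q e c w, co Q e c w i ^ 2 = co Q e c w j ^ 2 := by
    intro w hw hw5 i hi j hj
    rcases eq_or_ne i j with rfl | hij
    · rfl
    have hsub : ({i, j} : Finset (Fin n)) ⊆ supp Q e c w := by
      intro x hx
      rcases Finset.mem_insert.1 hx with rfl | hx
      · exact hi
      · rwa [Finset.mem_singleton.1 hx]
    obtain ⟨y, hy, hyco, hys⟩ := refl_image_supp_three hE hC hn hp hw
      (S := supp Q e c w \ {i, j}) Finset.sdiff_subset
      (by rw [Finset.card_sdiff_of_subset hsub, hw5, Finset.card_pair hij]) h32 N3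
    rw [sdiff_sdiff_right_self, inf_of_le_right (Finset.le_iff_subset.2 hsub)] at hys
    have hys2 : (supp Q e c y).card = 2 := by rw [hys, Finset.card_pair hij]
    rcases N3 y hy (by omega) with h | ⟨-, h⟩
    · omega
    have := h i (by rw [hys]; simp) j (by rw [hys]; simp)
    rw [hyco, hyco] at this
    simpa using this
  obtain ⟨l, hl⟩ : (supp Q e c v).Nonempty := Finset.card_pos.1 (by omega)
  set α := co Q e c v l ^ 2 with hα
  have hN : ∑ j, co Q e c v j ^ 2 = 5 * α := by
    rw [sum_supp, Finset.sum_congr rfl fun i hi => eqsq v hv h5 i hi l hl, Finset.sum_const, h5, nsmul_eq_mul]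
    norm_num [hα]
  have hN0 : 5 * α ≠ 0 := fun h => hv.1 (by rw [hE.Q_eq, hN, h, mul_zero])
  have h25 : 2 * co Q e c v l ^ 2 ≠ ∑ j, co Q e c v j ^ 2 := by
    rw [hN, ← hα]
    intro h
    exact mul_ne_zero h3 (right_ne_zero_of_mul hN0) (by linear_combination -h)
  have hw := (rv_e hE hC (supp_subset hE hC hv hl)).act hC hv.2
  have hsw := supp_refl_e hE hv.1 hl h25
  obtain ⟨j, hj, hjl⟩ := Finset.exists_mem_ne (s := supp Q e c v) (by omega) l
  have h := eqsq _ hw (by rw [hsw, h5]) l (by rwa [hsw]) j (by rwa [hsw])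
  rw [co_refl_e hE hv.1, co_refl_e hE hv.1, if_pos rfl, if_neg hjl, zero_sub, hN, neg_sq] at h
  have hj2 := eqsq v hv h5 j hj l hl
  rw [← hα] at hj2
  have h5' : (5 : F) ≠ 0 := left_ne_zero_of_mul hN0
  have hα0 : α ≠ 0 := right_ne_zero_of_mul hN0
  rw [mul_pow (2 * co Q e c v l / (5 * α)) (co Q e c v j), hj2,
    show 2 * co Q e c v l / (5 * α) * co Q e c v l = 2 / 5 by field_simp; rw [hα],
    show (2 * co Q e c v l / (5 * α)) ^ 2 * α = (2 / 5) ^ 2 by field_simp; rw [hα]] at h
  field_simp at h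
  exact h5' (by linear_combination h)

theorem all_plain [Finite F] (hn : 5 ≤ n) (hp : (Nat.card F).Prime) (h3 : (3 : F) ≠ 0)
    (N3 : ∀ w, RV Q G w → (supp Q e c w).card ≤ 3 → Plain Q e c w) {v : ι → F} (hv : RV Q G v) :
    Plain Q e c v := by
  classical
  have h32 : (3 : F) ≠ 2 := fun h => one_ne_zero (α := F) (by linear_combination h)
  suffices H : ∀ s w, RV Q G w → (supp Q e c w).card = s → 4 ≤ s → False by
    by_contra hne
    exact H _ v hv rfl (by by_contra h; exact hne (N3 v hv (by omega)))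
  intro s
  induction s using Nat.strong_induction_on with
  | _ s ih =>
    intro v hv hs h4
    rcases Nat.lt_or_ge s 6 with hs6 | hs6
    · rcases (show s = 4 ∨ s = 5 by omega) with rfl | rfl
      swap
      · exact no_five hE hC hn hp h3 N3 hv hs
      have hsT := supp_subset hE hC hv
      obtain ⟨x, hxT, hx⟩ := Finset.exists_mem_notMem_of_card_lt_card (s := supp Q e c v) (t := T)
        (by rw [hs]; exact hC.five)
      have hx0 : co Q e c v x = 0 := by rwa [mem_supp, not_not] at hx
      set N := ∑ j, co Q e c v j ^ 2 with hNdef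
      have hN : N ≠ 0 := fun h0 => hv.1 (by rw [hE.Q_eq, ← hNdef, h0, mul_zero])
      have good : ∀ i ∈ supp Q e c v, 2 * co Q e c v i ^ 2 ≠ N := by
        intro i hi hbad
        have hsw : supp Q e c (MaxCl.act (refl Q v) (e i)) = (supp Q e c v).erase i := by
          ext j
          rw [mem_supp, co_refl_e hE hv.1, Finset.mem_erase, mem_supp, ← hNdef]
          by_cases hji : j = i
          · subst hji
            refine iff_of_false (fun h => h ?_) (fun h => h.1 rfl)
            rw [if_pos rfl]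
            field_simp
            linear_combination -hbad
          · rw [if_neg hji, zero_sub, neg_ne_zero]
            exact ⟨fun h => ⟨hji, right_ne_zero_of_mul h⟩, fun h => mul_ne_zero
              (div_ne_zero (mul_ne_zero hE.two (mem_supp.1 hi)) hN) h.2⟩
        have hc3 : (supp Q e c (MaxCl.act (refl Q v) (e i))).card = 3 := by
          rw [hsw, Finset.card_erase_of_mem hi, hs]
        exact not_plain_of_card hc3.ge (N3 _ ((rv_e hE hC (hsT hi)).act hC hv.2) hc3.le)
      obtain ⟨o, ho, hoN⟩ : ∃ o ∈ supp Q e c v, 2 * co Q e c v o ^ 2 ≠ -N := by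
        by_contra hne
        push Not at hne
        have h := Finset.sum_congr rfl hne
        rw [← Finset.mul_sum, ← sum_supp, ← hNdef, Finset.sum_const, hs, nsmul_eq_mul] at h
        push_cast at h
        exact mul_ne_zero (mul_ne_zero hE.two h3) hN (by linear_combination h)
      obtain ⟨l, m, k, hlm, hlk, hmk, hlmk⟩ := Finset.card_eq_three.1
        (show ((supp Q e c v).erase o).card = 3 by rw [Finset.card_erase_of_mem ho, hs])
      obtain ⟨hlo, hlP⟩ := Finset.mem_erase.1 (show l ∈ (supp Q e c v).erase o by rw [hlmk]; simp)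
      obtain ⟨hmo, hmP⟩ := Finset.mem_erase.1 (show m ∈ (supp Q e c v).erase o by rw [hlmk]; simp)
      obtain ⟨hko, hkP⟩ := Finset.mem_erase.1 (show k ∈ (supp Q e c v).erase o by rw [hlmk]; simp)
      have hlx : l ≠ x := fun h => hx (h ▸ hlP)
      have hmx : m ≠ x := fun h => hx (h ▸ hmP)
      have hkx : k ≠ x := fun h => hx (h ▸ hkP)
      have hox : o ≠ x := fun h => hx (h ▸ ho)
      have hoff : ∀ j, j ≠ o → j ≠ l → j ≠ m → j ≠ k → co Q e c v j = 0 := by
        intro j h1 h2 h4' h5
        by_contra hne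
        have := Finset.mem_erase.2 ⟨h1, mem_supp.2 hne⟩
        rw [hlmk] at this
        simp [h2, h4', h5] at this
      obtain ⟨g, hg, hgT⟩ := hC.dswap l (hsT hlP) x hxT m (hsT hmP) k (hsT hkP) hlx hmk
      have hgv : ∀ j, co Q e c (MaxCl.act g v) j = co Q e c v ((Equiv.swap l x * Equiv.swap m k)⁻¹ j) := by
        intro j
        set π := Equiv.swap l x * Equiv.swap m k
        have h : MaxCl.act g v = ∑ i, co Q e c v (π⁻¹ i) • e i := by
          rw [← Equiv.sum_comp π (fun i => co Q e c v (π⁻¹ i) • e i)]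
          simp only [Equiv.Perm.inv_def, Equiv.symm_apply_apply]
          conv_lhs => rw [← hE.repr v, map_sum]
          refine Finset.sum_congr rfl fun i _ => ?_
          rw [map_smul]
          by_cases hi : co Q e c v i = 0
          · rw [hi, zero_smul, zero_smul]
          · rw [hgT i (hsT (mem_supp.2 hi))]
        rw [h, hE.co_sum]
      obtain ⟨κ, hκ⟩ : ∃ κ, κ = 2 * co Q e c v o ^ 2 / N := ⟨_, rfl⟩
      have hκ2 : κ * κ ≠ 1 := by
        intro h
        rcases mul_self_eq_one_iff.1 h with h' | h' <;> rw [hκ, div_eq_iff hN] at h'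
        · exact good o ho (by linear_combination h')
        · exact hoN (by linear_combination h')
      have hl0 := mem_supp.1 hlP
      have hm0 := mem_supp.1 hmP
      have hk0 := mem_supp.1 hkP
      have ho0 := mem_supp.1 ho
      obtain ⟨t, ht, htk, htm⟩ : ∃ t : F, (t = 1 ∨ t = -1) ∧
          t * co Q e c v k - κ * co Q e c v m ≠ 0 ∧ -t * co Q e c v m - κ * co Q e c v k ≠ 0 := by
        by_contra hno
        push Not at hno
        have h1 : (1 : F) * co Q e c v k - κ * co Q e c v m = 0 ∨ -1 * co Q e c v m - κ * co Q e c v k = 0 := by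
          by_cases h : (1 : F) * co Q e c v k - κ * co Q e c v m = 0
          · exact Or.inl h
          · exact Or.inr (hno 1 (Or.inl rfl) h)
        have h2 : (-1 : F) * co Q e c v k - κ * co Q e c v m = 0 ∨ - -1 * co Q e c v m - κ * co Q e c v k = 0 := by
          by_cases h : (-1 : F) * co Q e c v k - κ * co Q e c v m = 0
          · exact Or.inl h
          · exact Or.inr (hno (-1) (Or.inr rfl) h)
        have key : ∀ a b : F, a ≠ 0 → a = κ * b → b = κ * a → False := fun a b ha e1 e2 =>
          hκ2 (mul_right_cancel₀ ha (by linear_combination -e1 - κ * e2))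
        have key' : ∀ a b : F, a ≠ 0 → a = -(κ * b) → b = -(κ * a) → False := fun a b ha e1 e2 =>
          hκ2 (mul_right_cancel₀ ha (by linear_combination -e1 + κ * e2))
        rcases h1 with e1 | e1 <;> rcases h2 with e2 | e2
        · exact mul_ne_zero hE.two hk0 (by linear_combination e1 - e2)
        · exact key (co Q e c v k) (co Q e c v m) hk0 (by linear_combination e1) (by linear_combination e2)
        · exact key' (co Q e c v k) (co Q e c v m) hk0 (by linear_combination -e2) (by linear_combination -e1)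
        · exact mul_ne_zero hE.two hm0 (by linear_combination e2 - e1)
      obtain ⟨S, hST, hSm, hSk, hSx, hSo, hSl⟩ : ∃ S : Finset (Fin n), S ⊆ T ∧
          (if m ∈ S then (-1 : F) else 1) = t ∧ (if k ∈ S then (-1 : F) else 1) = -t ∧ x ∉ S ∧ o ∉ S ∧ l ∉ S := by
        rcases ht with rfl | rfl
        · exact ⟨{k}, Finset.singleton_subset_iff.2 (hsT hkP), by simp [hmk], by simp,
            by simp [hkx.symm], by simp [hko.symm], by simp [hlk]⟩
        · exact ⟨{m}, Finset.singleton_subset_iff.2 (hsT hmP), by simp, by simp [hmk.symm],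
            by simp [hmx.symm], by simp [hmo.symm], by simp [hlm]⟩
      have hd := flip_mem_refl hE hC hn hST
      set w := MaxCl.act (flip hE hn S) (MaxCl.act g v) with hw'
      have hwco : ∀ j, co Q e c w j = (if j ∈ S then (-1 : F) else 1) *
          co Q e c v ((Equiv.swap l x * Equiv.swap m k)⁻¹ j) := fun j => by
        rw [hw', co_flip, hgv]; split_ifs <;> ring
      simp only [mul_inv_rev, Equiv.swap_inv, Equiv.Perm.mul_apply] at hwco
      have wx : co Q e c w x = co Q e c v l := by
        rw [hwco, if_neg hSx, Equiv.swap_apply_right, Equiv.swap_apply_of_ne_of_ne hlm hlk, one_mul]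
      have wl : co Q e c w l = 0 := by
        rw [hwco, if_neg hSl, Equiv.swap_apply_left, Equiv.swap_apply_of_ne_of_ne hmx.symm hkx.symm, hx0, mul_zero]
      have wo : co Q e c w o = co Q e c v o := by
        rw [hwco, if_neg hSo, Equiv.swap_apply_of_ne_of_ne hlo.symm hox,
          Equiv.swap_apply_of_ne_of_ne hmo.symm hko.symm, one_mul]
      have wm : co Q e c w m = t * co Q e c v k := by
        rw [hwco, hSm, Equiv.swap_apply_of_ne_of_ne hlm.symm hmx, Equiv.swap_apply_left]
      have wk : co Q e c w k = -t * co Q e c v m := by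
        rw [hwco, hSk, Equiv.swap_apply_of_ne_of_ne hlk.symm hkx, Equiv.swap_apply_right]
      have hdot : ∑ j, co Q e c v j * co Q e c w j = co Q e c v o ^ 2 := by
        rw [← Finset.sum_subset (Finset.subset_univ (supp Q e c v)) (fun j _ hj => by
          rw [mem_supp, not_not] at hj; rw [hj, zero_mul]), ← Finset.add_sum_erase _ _ ho, hlmk,
          Finset.sum_insert (by simp [hlm, hlk]), Finset.sum_pair hmk, wo, wl, wm, wk]
        ring
      have hR := ((hv.act hC hg).act hC hd).act hC hv.2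
      refine no_five hE hC hn hp h3 N3 hR ?_
      have key : supp Q e c (MaxCl.act (refl Q v) w) = insert x (supp Q e c v) := by
        ext j
        rw [mem_supp, co_refl hE hv.1, hdot, ← hNdef, Finset.mem_insert, mem_supp, ← hκ]
        by_cases hjx : j = x
        · subst hjx; rw [wx, hx0]; simpa using hl0
        rw [or_iff_right hjx]
        by_cases hjl : j = l
        · subst hjl
          rw [wl, zero_sub, neg_ne_zero]
          exact iff_of_true (mul_ne_zero (hκ ▸ div_ne_zero (mul_ne_zero hE.two (pow_ne_zero 2 ho0)) hN) hl0) hl0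
        by_cases hjo : j = o
        · subst hjo
          rw [wo]
          refine iff_of_true (fun h => hκ2 ?_) ho0
          rw [show κ = 1 from mul_right_cancel₀ ho0 (by linear_combination -h), one_mul]
        by_cases hjm : j = m
        · subst hjm; rw [wm]; exact iff_of_true htk hm0
        by_cases hjk : j = k
        · subst hjk; rw [wk]; exact iff_of_true htm hk0
        have hv0 := hoff j hjo hjl hjm hjk
        have hw0 : co Q e c w j = 0 := by
          rw [hwco, Equiv.swap_apply_of_ne_of_ne hjl hjx, Equiv.swap_apply_of_ne_of_ne hjm hjk, hv0, mul_zero]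
        rw [hv0, hw0]; simp
      rw [key, Finset.card_insert_of_notMem hx, hs]
    · obtain ⟨S, hS, hS3⟩ := Finset.exists_subset_card_eq (s := supp Q e c v) (n := 3) (by omega)
      obtain ⟨w, hw, -, hws⟩ := refl_image_supp_three hE hC hn hp hv hS hS3 h32 N3
      have hc' : (supp Q e c w).card = s - 3 := by rw [hws, Finset.card_sdiff_of_subset hS, hs, hS3]
      rcases Nat.lt_or_ge (s - 3) 4 with h | h
      · exact not_plain_of_card (by omega) (N3 w hw (by omega))
      · exact ih (s - 3) (by omega) w hw hc' h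

theorem mono_of_all_plain (h : ∀ v, RV Q G v → Plain Q e c v) : G ≤ monoGroup e := by
  classical
  intro g hg
  refine isMono_of_forall hE fun i => ?_
  by_cases hiT : i ∈ T
  swap
  · exact ⟨i, 1, by rw [hC.fix g hg i hiT, one_smul]⟩
  have hgI := hC.iso hg
  have single : ∀ x, (supp Q e c x).card ≤ 1 → x ≠ 0 → ∃ (j : Fin n) (s : F), x = s • e j := by
    intro x hx hx0
    haveI : Nonempty (Fin n) := ⟨i⟩
    rcases Finset.card_le_one_iff_subset_singleton.1 hx with ⟨j, hj⟩
    refine ⟨j, co Q e c x j, hE.ext_co fun l => ?_⟩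
    rw [co_smul, hE.co_e]
    by_cases hlj : l = j
    · subst hlj; simp
    · rw [if_neg hlj, mul_zero]
      by_contra hne
      exact hlj (Finset.mem_singleton.1 (hj (mem_supp.2 hne)))
  rcases h _ ((rv_e hE hC hiT).act hC hg) with h1 | ⟨h2, hsq⟩
  · exact single _ h1 fun h0 => hE.ne_zero i (act_injective g (by rw [h0, map_zero]))
  exfalso
  obtain ⟨a, b, hab, hPab⟩ := Finset.card_eq_two.1 h2
  set α := co Q e c (MaxCl.act g (e i)) a
  set β := co Q e c (MaxCl.act g (e i)) b
  have hα : α ≠ 0 := mem_supp.1 (by rw [hPab]; simp)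
  have hβ : β ≠ 0 := mem_supp.1 (by rw [hPab]; simp)
  have hαβ : α ^ 2 = β ^ 2 := hsq a (by rw [hPab]; simp) b (by rw [hPab]; simp)
  have h1 : 2 * α ^ 2 = 1 := by
    have h' := Q_act hgI (e i)
    rw [hE.Q_eq, sum_supp, hPab, Finset.sum_pair hab, hE.Qe, ← hαβ] at h'
    exact mul_left_cancel₀ hE.c0 (by linear_combination h')
  have hsqr : IsSquare (2 : F) := ⟨2 * α, by linear_combination -2 * h1⟩
  have key : ∀ j ∈ T, j ≠ i → supp Q e c (MaxCl.act g (e j)) = {a, b} := by
    intro j hj hji
    have horth : ∑ l, co Q e c (MaxCl.act g (e i)) l * co Q e c (MaxCl.act g (e j)) l = 0 := by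
      have h' := B_act hgI (e i) (e j)
      rw [hE.B_eq, hE.orth i j (Ne.symm hji)] at h'
      exact (mul_eq_zero.1 h').resolve_left hE.two_c
    have hdot : α * co Q e c (MaxCl.act g (e j)) a + β * co Q e c (MaxCl.act g (e j)) b = 0 := by
      rw [← Finset.sum_pair hab (f := fun l => co Q e c (MaxCl.act g (e i)) l * co Q e c (MaxCl.act g (e j)) l),
        ← hPab, ← horth]
      exact Finset.sum_subset (Finset.subset_univ _) fun l _ hl => by
        rw [mem_supp, not_not] at hl; rw [hl, zero_mul]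
    have hRd : RV Q G (e i - e j) :=
      ⟨by rw [hE.Q_sub_e (Ne.symm hji)]; exact hE.two_c, hC.root hsqr i hiT j hj (Ne.symm hji)⟩
    have hdiff := (h _ (hRd.act hC hg)).card_le
    rw [map_sub] at hdiff
    have hne : MaxCl.act g (e j) ≠ 0 := fun h0 => hE.ne_zero j (act_injective g (by rw [h0, map_zero]))
    have hnonempty : (supp Q e c (MaxCl.act g (e j))).Nonempty := by
      by_contra hemp
      refine hne (hE.ext_co fun l => ?_)
      rw [co_zero]
      by_contra hl
      exact hemp ⟨l, mem_supp.2 hl⟩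
    have hja : co Q e c (MaxCl.act g (e j)) a ≠ 0 := by
      intro h0
      rw [h0, mul_zero, zero_add, mul_eq_zero, or_iff_right hβ] at hdot
      obtain ⟨l, hl⟩ := hnonempty
      have hla : l ≠ a := fun e' => mem_supp.1 hl (e' ▸ h0)
      have hlb : l ≠ b := fun e' => mem_supp.1 hl (e' ▸ hdot)
      have hgl : co Q e c (MaxCl.act g (e i)) l = 0 := by
        by_contra hne'
        have := mem_supp.2 hne'
        rw [hPab] at this
        simp [hla, hlb] at this
      have hsub : ({a, b, l} : Finset (Fin n)) ⊆ supp Q e c (MaxCl.act g (e i) - MaxCl.act g (e j)) := by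
        intro x hx
        simp only [Finset.mem_insert, Finset.mem_singleton] at hx
        rw [mem_supp, co_sub]
        rcases hx with rfl | rfl | rfl
        · rw [h0, sub_zero]; exact hα
        · rw [hdot, sub_zero]; exact hβ
        · rw [hgl, zero_sub, neg_ne_zero]; exact mem_supp.1 hl
      have := Finset.card_le_card hsub
      rw [Finset.card_eq_three.2 ⟨a, b, l, hab, hla.symm, hlb.symm, rfl⟩] at this
      omega
    have hjb : co Q e c (MaxCl.act g (e j)) b ≠ 0 := by
      intro h0
      rw [h0, mul_zero, add_zero, mul_eq_zero] at hdot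
      exact hdot.elim hα hja
    refine (Finset.eq_of_subset_of_card_le (fun x hx => ?_) ?_).symm
    · rcases Finset.mem_insert.1 hx with rfl | hx
      · exact mem_supp.2 hja
      · rw [Finset.mem_singleton.1 hx]; exact mem_supp.2 hjb
    · rw [Finset.card_pair hab]
      exact (h _ ((rv_e hE hC hj).act hC hg)).card_le
  obtain ⟨j, hj, hji⟩ := Finset.exists_mem_ne (s := T) (by have := hC.five; omega) i
  obtain ⟨k, hk, hki, hkj⟩ : ∃ k ∈ T, k ≠ i ∧ k ≠ j := by
    obtain ⟨k, hk, hn'⟩ := Finset.exists_mem_notMem_of_card_lt_card (s := {i, j}) (t := T)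
      (lt_of_le_of_lt Finset.card_le_two (by have := hC.five; omega))
    simp only [Finset.mem_insert, Finset.mem_singleton, not_or] at hn'
    exact ⟨k, hk, hn'.1, hn'.2⟩
  have pair : ∀ p q : Fin n, supp Q e c (MaxCl.act g (e p)) = {a, b} → p ≠ q →
      co Q e c (MaxCl.act g (e p)) a * co Q e c (MaxCl.act g (e q)) a +
        co Q e c (MaxCl.act g (e p)) b * co Q e c (MaxCl.act g (e q)) b = 0 := by
    intro p q hp hpq
    have h' := B_act hgI (e p) (e q)
    rw [hE.B_eq, hE.orth p q hpq] at h'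
    have h'' := (mul_eq_zero.1 h').resolve_left hE.two_c
    rw [← Finset.sum_pair hab (f := fun l => co Q e c (MaxCl.act g (e p)) l * co Q e c (MaxCl.act g (e q)) l),
      ← hp, ← h'']
    exact Finset.sum_subset (Finset.subset_univ _) fun l _ hl => by
      rw [mem_supp, not_not] at hl; rw [hl, zero_mul]
  have hx := pair i j hPab (Ne.symm hji)
  have hy := pair i k hPab (Ne.symm hki)
  have hxy := pair j k (key j hj hji) (Ne.symm hkj)
  have hxa : co Q e c (MaxCl.act g (e j)) a ≠ 0 := mem_supp.1 (by rw [key j hj hji]; simp)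
  have hya : co Q e c (MaxCl.act g (e k)) a ≠ 0 := mem_supp.1 (by rw [key k hk hki]; simp)
  set x₁ := co Q e c (MaxCl.act g (e j)) a
  set x₂ := co Q e c (MaxCl.act g (e j)) b
  set y₁ := co Q e c (MaxCl.act g (e k)) a
  set y₂ := co Q e c (MaxCl.act g (e k)) b
  exact mul_ne_zero (mul_ne_zero (mul_ne_zero hE.two (pow_ne_zero 2 hα)) hxa) hya (by
    linear_combination β ^ 2 * hxy + α * y₁ * hx - β * x₂ * hy + x₁ * y₁ * hαβ)

/-- The case of three elements: a reflecting vector of support four. -/
theorem exists_four [Finite F] (hn : 5 ≤ n) (hp : (Nat.card F).Prime) (hq : Nat.card F = 3) {v : ι → F}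
    (hv : RV Q G v) (hv' : ¬ Plain Q e c v) : ∃ w, RV Q G w ∧ (supp Q e c w).card = 4 := by
  classical
  haveI := Fintype.ofFinite F
  have hF : Fintype.card F = 3 := by rw [← Nat.card_eq_fintype_card]; exact hq
  have sq1 : ∀ {x : F}, x ≠ 0 → x ^ 2 = 1 := fun {x} hx => by
    have := FiniteField.pow_card_sub_one_eq_one x hx
    rwa [hF] at this
  have h30 : (3 : F) = 0 := by
    have := FiniteField.cast_card_eq_zero F
    rwa [hF, Nat.cast_ofNat] at this
  have hN : ∀ w, ∑ j, co Q e c w j ^ 2 = ((supp Q e c w).card : F) := fun w => by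
    rw [sum_supp, Finset.sum_congr rfl fun i hi => sq1 (mem_supp.1 hi), Finset.sum_const, nsmul_eq_mul, mul_one]
  suffices H : ∀ s w, RV Q G w → (supp Q e c w).card = s → ¬ Plain Q e c w →
      ∃ w', RV Q G w' ∧ (supp Q e c w').card = 4 from H _ v hv rfl hv'
  intro s
  induction s using Nat.strong_induction_on with
  | _ s ih =>
    intro v hv hs hnp
    have hQN : ((s : ℕ) : F) ≠ 0 := fun h => hv.1 (by rw [hE.Q_eq, hN, hs, h, mul_zero])
    have hs3 : 3 ≤ s := by
      by_contra h
      refine hnp ?_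
      rcases Nat.lt_or_ge s 2 with h' | h'
      · exact Or.inl (by omega)
      · exact Or.inr ⟨by omega, fun i hi j hj => by rw [sq1 (mem_supp.1 hi), sq1 (mem_supp.1 hj)]⟩
    rcases Nat.lt_or_ge s 7 with h7 | h7
    · interval_cases s
      · exact absurd (by push_cast; exact h30) hQN
      · exact ⟨v, hv, hs⟩
      · obtain ⟨l, hl⟩ : (supp Q e c v).Nonempty := Finset.card_pos.1 (by omega)
        refine ⟨_, (rv_e hE hC (supp_subset hE hC hv hl)).act hC hv.2, ?_⟩
        have key : supp Q e c (MaxCl.act (refl Q v) (e l)) = (supp Q e c v).erase l := by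
          ext i
          rw [mem_supp, co_refl_e hE hv.1, hN, hs, Finset.mem_erase, mem_supp]
          by_cases hil : i = l
          · subst hil
            have h2' : ((5 : ℕ) : F) = 2 := by push_cast; linear_combination h30
            rw [if_pos rfl, h2']
            simp only [ne_eq, not_true_eq_false, false_and, iff_false, not_not]
            field_simp [hE.two]
            linear_combination -(1 : F) * sq1 (mem_supp.1 hl)
          · rw [if_neg hil, zero_sub, neg_ne_zero]
            exact ⟨fun h => ⟨hil, right_ne_zero_of_mul h⟩, fun h => mul_ne_zero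
              (div_ne_zero (mul_ne_zero hE.two (mem_supp.1 hl)) hQN) h.2⟩
        rw [key, Finset.card_erase_of_mem hl, hs]
      · exact absurd (by push_cast; linear_combination (2 : F) * h30) hQN
    · obtain ⟨S, hS, hS3⟩ := Finset.exists_subset_card_eq (s := supp Q e c v) (n := 3) (by omega)
      obtain ⟨u, hu, hu', hB, -⟩ := exists_part hE S v
      have hsu : supp Q e c u = S := by
        ext i
        rw [mem_supp, hu]
        by_cases hi : i ∈ S
        · simp [hi, mem_supp.1 (hS hi)]
        · simp [hi]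
      have hQu : Q u = 0 := by rw [hE.Q_eq, hN, hsu, hS3, Nat.cast_ofNat, h30, mul_zero]
      have hw := rv_rest hE hC hn hp hv (hS.trans (supp_subset hE hC hv)) hu hB hQu
      have hws : supp Q e c (v - u) = supp Q e c v \ S := by
        ext i
        rw [mem_supp, hu', Finset.mem_sdiff, mem_supp]
        by_cases hi : i ∈ S <;> simp [hi]
      have hc' : (supp Q e c (v - u)).card = s - 3 := by rw [hws, Finset.card_sdiff_of_subset hS, hs, hS3]
      exact ih (s - 3) (by omega) _ hw hc' (not_plain_of_card (by omega))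

/-- **The reflection theorem**: monomial, or a non-monomial reflection of small support in the orbit of the frame. -/
theorem mono_or_exists [Finite F] (hn : 5 ≤ n) (hp : (Nat.card F).Prime) :
    G ≤ monoGroup e ∨ ∃ g ∈ G, ∃ a ∈ T, ∃ x ∈ T, a ≠ x ∧ MaxCl.act g (e x) = e x ∧
      refl Q (MaxCl.act g (e a)) ∉ monoGroup e ∧
      ∃ X : Finset (Fin n), (∀ i, i ∉ X → co Q e c (MaxCl.act g (e a)) i = 0) ∧
        (X.card ≤ 3 ∨ (Nat.card F = 3 ∧ X.card ≤ 4)) := by
  classical
  haveI := Fintype.ofFinite F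
  by_cases hall : ∀ v, RV Q G v → Plain Q e c v
  · exact Or.inl (mono_of_all_plain hE hC hall)
  right
  push Not at hall
  obtain ⟨v₀, hv₀, hnp₀⟩ := hall
  have nm : ∀ {g : GL ι F}, g ∈ G → ∀ {a : Fin n}, ¬ Plain Q e c (MaxCl.act g (e a)) →
      refl Q (MaxCl.act g (e a)) ∉ monoGroup e := fun {g} hg {a} h hm =>
    h (plain_of_refl_mono hE (by rw [Q_act (hC.iso hg), hE.Qe]; exact hE.c0) hm)
  have fixx : ∀ {v : ι → F}, RV Q G v → ∀ {x : Fin n}, x ∉ supp Q e c v → MaxCl.act (refl Q v) (e x) = e x := by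
    intro v hv x hx
    refine act_refl_fix Q hv.1 ?_
    rw [mem_supp, not_not, co, div_eq_zero_iff] at hx
    rw [B_comm Q]
    exact hx.resolve_right hE.two_c
  by_cases hq : Nat.card F = 3
  · obtain ⟨v, hv, h4⟩ := exists_four hE hC hn hp hq hv₀ hnp₀
    obtain ⟨l, hl⟩ : (supp Q e c v).Nonempty := Finset.card_pos.1 (by omega)
    obtain ⟨x, hxT, hx⟩ := Finset.exists_mem_notMem_of_card_lt_card (s := supp Q e c v) (t := T)
      (by rw [h4]; exact hC.five)
    have h30 : (3 : F) = 0 := by
      have := FiniteField.cast_card_eq_zero F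
      rwa [← Nat.card_eq_fintype_card, hq, Nat.cast_ofNat] at this
    have hne : 2 * co Q e c v l ^ 2 ≠ ∑ j, co Q e c v j ^ 2 := by
      have sq1 : ∀ i ∈ supp Q e c v, co Q e c v i ^ 2 = 1 := fun i hi => by
        have := FiniteField.pow_card_sub_one_eq_one _ (mem_supp.1 hi)
        rwa [← Nat.card_eq_fintype_card, hq] at this
      rw [sq1 l hl, sum_supp, Finset.sum_congr rfl sq1, Finset.sum_const, h4, nsmul_eq_mul, mul_one, mul_one]
      intro h
      exact hE.two (by push_cast at h; linear_combination -h)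
    have hsw := supp_refl_e hE hv.1 hl hne
    refine ⟨_, hv.2, l, supp_subset hE hC hv hl, x, hxT, fun e' => hx (e' ▸ hl), fixx hv hx,
      nm hv.2 (not_plain_of_card (by rw [hsw]; omega)), supp Q e c v, fun i hi => ?_, Or.inr ⟨hq, h4.le⟩⟩
    rw [← hsw, mem_supp, not_not] at hi
    exact hi
  have h3 : (3 : F) ≠ 0 := fun h => hq (by
    have hp' : (Fintype.card F).Prime := by rwa [← Nat.card_eq_fintype_card]
    haveI : CharP F (Fintype.card F) := by
      obtain ⟨⟨m, hm⟩, hr, hc⟩ := FiniteField.card F (ringChar F)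
      exact ringChar.of_eq ((Nat.Prime.pow_eq_iff hp').1 hc.symm).1
    rw [Nat.card_eq_fintype_card]
    exact (Nat.prime_dvd_prime_iff_eq hp' Nat.prime_three).1
      ((CharP.cast_eq_zero_iff F _ 3).1 (by exact_mod_cast h)))
  obtain ⟨v, hv, hv3, hnp⟩ : ∃ v, RV Q G v ∧ (supp Q e c v).card ≤ 3 ∧ ¬ Plain Q e c v := by
    by_contra hno
    push Not at hno
    exact hnp₀ (all_plain hE hC hn hp h3 hno hv₀)
  have hsT := supp_subset hE hC hv
  rcases Nat.lt_or_ge (supp Q e c v).card 3 with h2 | h3c
  swap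
  · obtain ⟨l, hl, hne⟩ := exists_good_l hE hv.1 h3c (by
      rw [show (supp Q e c v).card = 3 by omega]
      exact_mod_cast fun h : (3 : F) = 2 => one_ne_zero (α := F) (by linear_combination h))
    obtain ⟨x, hxT, hx⟩ := Finset.exists_mem_notMem_of_card_lt_card (s := supp Q e c v) (t := T)
      (by have := hC.five; omega)
    have hsw := supp_refl_e hE hv.1 hl hne
    refine ⟨_, hv.2, l, hsT hl, x, hxT, fun e' => hx (e' ▸ hl), fixx hv hx,
      nm hv.2 (not_plain_of_card (by rw [hsw]; omega)), supp Q e c v, fun i hi => ?_, Or.inl hv3⟩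
    rw [← hsw, mem_supp, not_not] at hi
    exact hi
  have h2' : (supp Q e c v).card = 2 := by
    by_contra hne
    exact hnp (Or.inl (by omega))
  obtain ⟨a, b, hab, hPab⟩ := Finset.card_eq_two.1 h2'
  have haP : a ∈ supp Q e c v := by rw [hPab]; simp
  have hbP : b ∈ supp Q e c v := by rw [hPab]; simp
  have hne : 2 * co Q e c v a ^ 2 ≠ ∑ j, co Q e c v j ^ 2 := by
    rw [sum_supp, hPab, Finset.sum_pair hab]
    intro h
    refine hnp (Or.inr ⟨h2', fun i hi j hj => ?_⟩)
    rw [hPab] at hi hj
    simp only [Finset.mem_insert, Finset.mem_singleton] at hi hj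
    rcases hi with rfl | rfl <;> rcases hj with rfl | rfl <;> linear_combination (norm := ring_nf) (0 : F) * h
    · linear_combination h
    · linear_combination -h
  have hsw : supp Q e c (MaxCl.act (refl Q v) (e a)) = {a, b} := by rw [supp_refl_e hE hv.1 haP hne, hPab]
  by_cases hw : Plain Q e c (MaxCl.act (refl Q v) (e a))
  swap
  · obtain ⟨x, hxT, hx⟩ := Finset.exists_mem_notMem_of_card_lt_card (s := supp Q e c v) (t := T)
      (by have := hC.five; omega)
    refine ⟨_, hv.2, a, hsT haP, x, hxT, fun e' => hx (e' ▸ haP), fixx hv hx, nm hv.2 hw, {a, b},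
      fun i hi => ?_, Or.inl (by rw [Finset.card_pair hab]; omega)⟩
    rw [← hsw, mem_supp, not_not] at hi
    exact hi
  obtain ⟨y, hyT, hy⟩ := Finset.exists_mem_notMem_of_card_lt_card (s := supp Q e c v) (t := T)
    (by have := hC.five; omega)
  obtain ⟨h, hh, hhX⟩ := hC.swap (insert y (supp Q e c v)) (Finset.insert_subset hyT hsT)
    (by rw [Finset.card_insert_of_notMem hy]; omega)
    b (Finset.mem_insert_of_mem hbP) y (Finset.mem_insert_self y _)
  have hu : ∀ i, co Q e c (MaxCl.act h v) i = co Q e c v (Equiv.swap b y i) :=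
    co_swap hE hC (Finset.subset_insert _ _) hhX
  set u := MaxCl.act h v
  have huR : RV Q G u := hv.act hC hh
  have hya : y ≠ a := fun e' => hy (e' ▸ haP)
  have hyb : y ≠ b := fun e' => hy (e' ▸ hbP)
  have hsu : supp Q e c u = {a, y} := by
    ext i
    rw [mem_supp, hu, ← mem_supp, hPab]
    simp only [Finset.mem_insert, Finset.mem_singleton]
    by_cases hib : i = b
    · subst hib
      rw [Equiv.swap_apply_left]
      simp [hya, hyb, Ne.symm hab, Ne.symm hyb]
    by_cases hiy : i = y
    · subst hiy; simp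
    · rw [Equiv.swap_apply_of_ne_of_ne hib hiy]; simp [hib, hiy]
  obtain ⟨x, hxT, hx⟩ := Finset.exists_mem_notMem_of_card_lt_card (s := {a, b, y}) (t := T) (by
    have := hC.five
    have := Finset.card_le_three (a := a) (b := b) (c := y)
    omega)
  simp only [Finset.mem_insert, Finset.mem_singleton, not_or] at hx
  refine ⟨refl Q v * refl Q u, mul_mem hv.2 huR.2, a, hsT haP, x, hxT, fun e' => hx.1 e'.symm, ?_, ?_⟩
  · rw [act_mul, fixx huR (by rw [hsu]; simp [hx.1, hx.2.2]), fixx hv (by rw [hPab]; simp [hx.1, hx.2.1])]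
  have hsumv : ∀ x : ι → F, ∑ j, co Q e c v j * co Q e c x j =
      co Q e c v a * co Q e c x a + co Q e c v b * co Q e c x b := fun x => by
    rw [← Finset.sum_pair hab (f := fun j => co Q e c v j * co Q e c x j)]
    exact (Finset.sum_subset (Finset.subset_univ _) fun l _ hl => by
      rw [← hPab, mem_supp, not_not] at hl; rw [hl, zero_mul]).symm
  have hva : co Q e c v a ≠ 0 := mem_supp.1 haP
  have hvb : co Q e c v b ≠ 0 := mem_supp.1 hbP
  have hvy : co Q e c v y = 0 := by rwa [mem_supp, not_not] at hy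
  have hNu : ∑ j, co Q e c u j ^ 2 = ∑ j, co Q e c v j ^ 2 := by
    have := Q_act (hC.iso hh) v
    rw [hE.Q_eq, hE.Q_eq] at this
    exact mul_left_cancel₀ hE.c0 this
  have hN : (∑ j, co Q e c v j ^ 2) ≠ 0 := fun h0 => hv.1 (by rw [hE.Q_eq, h0, mul_zero])
  set N := ∑ j, co Q e c v j ^ 2
  set P := 1 - 2 * co Q e c v a / N * co Q e c v a with hPdef
  set R := -(2 * co Q e c v a / N * co Q e c v b) with hRdef
  have hR : R ≠ 0 := neg_ne_zero.2 (mul_ne_zero (div_ne_zero (mul_ne_zero hE.two hva) hN) hvb)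
  have hP : P ≠ 0 := by
    rw [hPdef]
    intro h0
    field_simp at h0
    exact hne (by linear_combination -h0)
  have hea : MaxCl.act (refl Q u) (e a) = P • e a + R • e y := hE.ext_co fun i => by
    rw [co_refl_e hE huR.1, hNu, co_add, co_smul, co_smul, hE.co_e, hE.co_e, hu, hu,
      Equiv.swap_apply_of_ne_of_ne hab (Ne.symm hya)]
    by_cases hia : i = a
    · subst hia
      rw [if_pos rfl, if_neg (Ne.symm hya), Equiv.swap_apply_of_ne_of_ne hab (Ne.symm hya), hPdef]
      ring
    rw [if_neg hia]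
    by_cases hiy : i = y
    · subst hiy
      rw [if_pos rfl, Equiv.swap_apply_right, hRdef]
      ring
    rw [if_neg hiy]
    by_cases hib : i = b
    · subst hib; rw [Equiv.swap_apply_left, hvy]; ring
    rw [Equiv.swap_apply_of_ne_of_ne hib hiy]
    have : co Q e c v i = 0 := by
      by_contra hne'
      have := mem_supp.2 hne'
      rw [hPab] at this
      simp [hia, hib] at this
    rw [this]; ring
  have hco : ∀ i, co Q e c (MaxCl.act (refl Q v * refl Q u) (e a)) i =
      if i = a then P * P else if i = b then P * R else if i = y then R else 0 := by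
    intro i
    rw [act_mul, hea, co_refl hE hv.1, hsumv, co_add, co_add, co_add, co_smul, co_smul, co_smul, co_smul,
      co_smul, co_smul, hE.co_e, hE.co_e, hE.co_e, hE.co_e, hE.co_e, hE.co_e, if_pos rfl,
      if_neg (Ne.symm hya), if_neg (Ne.symm hab), if_neg (Ne.symm hyb)]
    by_cases hia : i = a
    · subst hia
      rw [if_pos rfl, if_pos rfl, if_neg (Ne.symm hya), hPdef]
      ring
    rw [if_neg hia, if_neg hia]
    by_cases hib : i = b
    · subst hib
      rw [if_neg (Ne.symm hyb), if_pos rfl, hPdef, hRdef]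
      ring
    rw [if_neg hib]
    have hvi : co Q e c v i = 0 := by
      by_contra hne'
      have := mem_supp.2 hne'
      rw [hPab] at this
      simp [hia, hib] at this
    by_cases hiy : i = y
    · rw [if_pos hiy, if_pos hiy, hvi]; ring
    · rw [if_neg hiy, if_neg hiy, hvi]; ring
  refine ⟨nm (mul_mem hv.2 huR.2) (not_plain_of_card ?_), {a, b, y}, fun i hi => ?_,
    Or.inl Finset.card_le_three⟩
  · refine le_trans (le_of_eq ?_) (Finset.card_le_card (s := {a, b, y}) fun i hi => ?_)
    · exact (Finset.card_eq_three.2 ⟨a, b, y, hab, Ne.symm hya, Ne.symm hyb, rfl⟩).symm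
    · simp only [Finset.mem_insert, Finset.mem_singleton] at hi
      rw [mem_supp, hco]
      rcases hi with rfl | rfl | rfl
      · rw [if_pos rfl]; exact mul_ne_zero hP hP
      · rw [if_neg (Ne.symm hab), if_pos rfl]; exact mul_ne_zero hP hR
      · rw [if_neg hya, if_neg hyb, if_pos rfl]; exact hR
  · simp only [Finset.mem_insert, Finset.mem_singleton, not_or] at hi
    rw [hco, if_neg hi.1, if_neg hi.2.1, if_neg hi.2.2]

end Cfsg.Agent.MaxCl.Mono
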