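/-
The reflection theorem applied to stabilisers of coordinate subspaces in an overgroup of the monomial group, and to
the overgroup extended by minus one in odd dimension.
-/
import Cfsg.Agent.Lib.MaxCl.Mono.Support

set_option autoImplicit false
set_option linter.unusedSectionVars false

namespace Cfsg.Agent.MaxCl.Mono

open scoped MatrixGroups Matrix
open Orth

variable {ι : Type} [Fintype ι] [DecidableEq ι] {F : Type*} [Field F] {Q : QuadraticForm F (ι → F)} {n : ℕ}
  {e : Fin n → ι → F} {c : F}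

set_option quotPrecheck false in
local notation "B" => QuadraticMap.polar (⇑Q)

/-- No reflection pair of a small non-monomial vector lies in `M`. -/
def NoPair (Q : QuadraticForm F (ι → F)) (e : Fin n → ι → F) (c : F) (M : Subgroup (GL ι F)) : Prop :=
  ∀ (i₀ : Fin n) (v : ι → F) (X : Finset (Fin n)), Q v = c → (∀ i, i ∉ X → co Q e c v i = 0) →
    (X.card ≤ 3 ∨ (Nat.card F = 3 ∧ X.card ≤ 4)) → refl Q v ∉ monoGroup e →
    refl Q v * refl Q (e i₀) ∉ M

variable (hE : Frame Q e c)
include hE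

/-- A map of the frame to an orthogonal frame of the same value is an isometry. -/
theorem exists_iso_of_frame {f : Fin n → ι → F} (hf : ∀ i, Q (f i) = c)
    (ho : ∀ i j, i ≠ j → B (f i) (f j) = 0) : ∃ g ∈ isometryGroup F Q, ∀ i, act g (e i) = f i := by
  classical
  let L : (ι → F) →ₗ[F] (ι → F) :=
    ∑ i, ((2 * c)⁻¹ • QuadraticMap.polarBilin Q (e i)).smulRight (f i)
  have hL : ∀ x, L x = ∑ i, co Q e c x i • f i := fun x => by
    simp only [L, LinearMap.sum_apply, LinearMap.smulRight_apply, LinearMap.smul_apply, smul_eq_mul,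
      QuadraticMap.polarBilin_apply_apply, co, div_eq_inv_mul]
  have hQ : ∀ (s : Finset (Fin n)) (a : Fin n → F),
      Q (∑ i ∈ s, a i • f i) = c * ∑ i ∈ s, a i ^ 2 := by
    intro s a
    induction s using Finset.induction_on with
    | empty => simp
    | insert j s hj ih =>
      have hB : B (a j • f j) (∑ i ∈ s, a i • f i) = 0 := by
        rw [← QuadraticMap.polarBilin_apply_apply, map_sum]
        refine Finset.sum_eq_zero fun i hi => ?_
        rw [QuadraticMap.polarBilin_apply_apply, B_smul_left Q, B_smul_right Q,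
          ho j i (fun h => hj (h ▸ hi)), mul_zero, mul_zero]
      rw [Finset.sum_insert hj, Finset.sum_insert hj, Q_add Q, hB, Q_smul Q, hf, ih]
      ring
  have hinj : Function.Injective L := by
    rw [← LinearMap.ker_eq_bot]
    refine (Submodule.eq_bot_iff _).2 fun x hx => hE.ext_co fun i => ?_
    rw [LinearMap.mem_ker, hL] at hx
    have h := congrArg (fun y => QuadraticMap.polarBilin Q (f i) y) hx
    simp only [map_sum, map_smul, map_zero, smul_eq_mul, QuadraticMap.polarBilin_apply_apply] at h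
    rw [Finset.sum_eq_single i (fun j _ hj => by rw [ho i j (Ne.symm hj), mul_zero])
      (fun h => absurd (Finset.mem_univ i) h), Orth.B_self Q, hf] at h
    rw [co_zero]
    exact (mul_eq_zero.1 h).resolve_right hE.two_c
  have hunit : IsUnit (LinearMap.toMatrix' L) :=
    Matrix.mulVec_injective_iff_isUnit.1 fun x y h => hinj (by
      simpa [← Matrix.toLin'_apply] using h)
  have hact : ∀ x, act hunit.unit x = L x := fun x => by
    rw [act_apply, IsUnit.unit_spec, ← Matrix.toLin'_apply, Matrix.toLin'_toMatrix']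
  refine ⟨hunit.unit, (mem_iso Q).2 fun x => ?_, fun i => ?_⟩
  · rw [hact, hL, hQ, hE.Q_eq]
  · rw [hact, hL, Finset.sum_eq_single i (fun j _ hj => by rw [hE.co_e, if_neg hj, zero_smul])
      (fun h => absurd (Finset.mem_univ i) h), hE.co_e, if_pos rfl, one_smul]

variable [Finite F]

theorem root_omega (hn : 5 ≤ n) (h2 : IsSquare (2 : F)) {a b s : Fin n} (hab : a ≠ b) :
    refl Q (e a - e b) * refl Q (e s) ∈ Cfsg.Geo.omegaGL Q := by
  have hn5 : 5 ≤ Fintype.card ι := by rw [hE.card]; exact hn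
  obtain ⟨r, hr⟩ := h2
  have hr0 : r ≠ 0 := fun h => hE.two (by rw [hr, h, mul_zero])
  rw [← refl_smul (e a - e b) (inv_ne_zero hr0), omega_eq_sgGroup hE.nondegenerate hn5]
  refine refl_mul_refl_mem hE.nondegenerate hn5 ?_
  rw [Q_smul Q, hE.Q_sub_e hab, hE.Qe, hr]
  field_simp

variable {M : Subgroup (GL ι F)} (hH : monoGroup e ⊓ Cfsg.Geo.omegaGL Q ≤ M)
  (hMΩ : M ≤ Cfsg.Geo.omegaGL Q)
include hH

theorem flip_mem_M (hn : 5 ≤ n) {S : Finset (Fin n)} (h : Even S.card) : flip hE hn S ∈ M :=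
  hH ⟨flip_mem_mono hE hn S, flip_mem_omega hE hn h⟩

theorem pair_mem_M (hn : 5 ≤ n) {a b : Fin n} (h : a ≠ b) : refl Q (e a) * refl Q (e b) ∈ M := by
  rw [← flip_pair hE hn h]
  exact flip_mem_M hE hH hn (by rw [Finset.card_pair h]; exact even_two)

theorem swap_mem_M (hn : 5 ≤ n) {a b a' b' : Fin n} (h : a ≠ b) (h' : a' ≠ b') :
    refl Q (e a - e b) * refl Q (e a' - e b') ∈ M :=
  hH ⟨swap_pair_mem_mono hE h h', swap_pair_mem_omega hE hn h h'⟩

include hMΩ

/-- An element of `M` stabilising a coordinate subspace is monomial on it. -/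
theorem part_mono (hn : 5 ≤ n) (hp : (Nat.card F).Prime) (hno : NoPair Q e c M) {T : Finset (Fin n)}
    (hT5 : 5 ≤ T.card) (hT : T ≠ Finset.univ) (hcount : T.card + 2 ≤ n ∨ 7 ≤ T.card) {m : GL ι F}
    (hm : m ∈ M) (hTm : ∀ t ∈ T, ∀ i ∉ T, co Q e c (act m (e t)) i = 0) :
    ∀ t ∈ T, ∃ j ∈ T, ∃ s : F, act m (e t) = s • e j := by
  classical
  obtain ⟨s₀, hs₀⟩ : ∃ s, s ∉ T := by
    by_contra h
    push Not at h
    exact hT (Finset.eq_univ_of_forall h)
  have hMI : M ≤ isometryGroup F Q := hMΩ.trans omega_le_iso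
  have stab : ∀ g ∈ isometryGroup F Q, (∀ i ∉ T, act g (e i) = e i) → ∀ t ∈ T, ∀ i ∉ T,
      co Q e c (act g (e t)) i = 0 := by
    intro g hg hfix t ht i hi
    rw [co, ← hfix i hi, B_act hg, hE.orth i t (fun h => hi (h ▸ ht)), zero_div]
  have agree : ∀ {g m : GL ι F}, (∀ t ∈ T, act m (e t) = act g (e t)) → ∀ x : ι → F,
      (∀ i ∉ T, co Q e c x i = 0) → act m x = act g x := by
    intro g m h x hx
    rw [← hE.repr x, map_sum, map_sum]
    refine Finset.sum_congr rfl fun i _ => ?_
    by_cases hi : i ∈ T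
    · rw [map_smul, map_smul, h i hi]
    · rw [hx i hi, zero_smul, map_zero, map_zero]
  let G : Subgroup (GL ι F) :=
    { carrier := {g | g ∈ isometryGroup F Q ∧ (∀ i ∉ T, act g (e i) = e i) ∧
        ∃ m ∈ M, ∀ t ∈ T, act m (e t) = act g (e t)}
      mul_mem' := by
        rintro g g' ⟨hg, hfix, m, hm, hme⟩ ⟨hg', hfix', m', hm', hme'⟩
        refine ⟨mul_mem hg hg', fun i hi => by rw [act_mul, hfix' i hi, hfix i hi], m * m',
          mul_mem hm hm', fun t ht => ?_⟩
        rw [act_mul, act_mul, hme' t ht, agree hme _ (stab g' hg' hfix' t ht)]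
      one_mem' := ⟨one_mem _, fun i _ => act_one _, 1, one_mem _, fun t _ => rfl⟩
      inv_mem' := by
        rintro g ⟨hg, hfix, m, hm, hme⟩
        have hfix' : ∀ i ∉ T, act g⁻¹ (e i) = e i := fun i hi => by
          conv_lhs => rw [← hfix i hi, act_inv_act]
        refine ⟨inv_mem hg, hfix', m⁻¹, inv_mem hm, fun t ht => act_injective m ?_⟩
        rw [act_act_inv, agree hme _ (stab g⁻¹ (inv_mem hg) hfix' t ht), act_act_inv] }
  have fixe : ∀ i, i ∉ T → ∀ a, a ∈ T → act (refl Q (e a)) (e i) = e i := fun i hi a ha => by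
    rw [hE.act_refl_e, if_neg (fun h : a = i => hi (h ▸ ha))]
  have fixs : ∀ i, i ∉ T → ∀ a b, a ∈ T → b ∈ T → a ≠ b → act (refl Q (e a - e b)) (e i) = e i :=
    fun i hi a b ha hb hab => by
      rw [act_swap hE hab, Equiv.swap_apply_of_ne_of_ne (fun h : i = a => hi (h ▸ ha))
        (fun h : i = b => hi (h ▸ hb))]
  have hC : ReflCtx Q e T G :=
    { five := hT5
      iso := fun g hg => hg.1
      fix := fun g hg => hg.2.1
      sign := fun a ha => ⟨refl_mem_iso Q _, fun i hi => fixe i hi a ha, _,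
        pair_mem_M hE hH hn (show a ≠ s₀ from fun h => hs₀ (h ▸ ha)), fun t ht => by
          rw [act_mul, hE.act_refl_e s₀, if_neg (fun h : s₀ = t => hs₀ (h ▸ ht))]⟩
      swap := fun X hX hX5 a ha b hb => by
        by_cases hab : a = b
        · subst hab
          exact ⟨1, ⟨one_mem _, fun i _ => act_one _, 1, one_mem _, fun t _ => rfl⟩, fun x _ => by
            rw [act_one, Equiv.swap_self]; rfl⟩
        rcases hcount with h | h
        · obtain ⟨s₁, hs₁, hs₁₀⟩ : ∃ s₁, s₁ ∉ T ∧ s₁ ≠ s₀ := by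
            obtain ⟨x, hx, hx'⟩ := Finset.exists_mem_ne (s := Tᶜ) (by
              rw [Finset.card_compl, Fintype.card_fin]; omega) s₀
            exact ⟨x, Finset.mem_compl.1 hx, hx'⟩
          refine ⟨refl Q (e a - e b), ⟨refl_mem_iso Q _, fun i hi => fixs i hi a b (hX ha) (hX hb) hab, _,
            swap_mem_M hE hH hn hab hs₁₀, fun t ht => ?_⟩, fun x _ => act_swap hE hab x⟩
          rw [act_mul, act_swap hE hs₁₀, Equiv.swap_apply_of_ne_of_ne (fun h : t = s₁ => hs₁ (h ▸ ht))
            (fun h : t = s₀ => hs₀ (h ▸ ht))]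
        · obtain ⟨c₁, hc₁, d₁, hd₁, hcd⟩ := Finset.one_lt_card.1 (show 1 < (T \ X).card by
            have := Finset.le_card_sdiff X T; omega)
          rw [Finset.mem_sdiff] at hc₁ hd₁
          refine ⟨refl Q (e a - e b) * refl Q (e c₁ - e d₁), ⟨mul_mem (refl_mem_iso Q _) (refl_mem_iso Q _),
            fun i hi => by rw [act_mul, fixs i hi c₁ d₁ hc₁.1 hd₁.1 hcd, fixs i hi a b (hX ha) (hX hb) hab],
            _, swap_mem_M hE hH hn hab hcd, fun t _ => rfl⟩, fun x hx => ?_⟩
          rw [act_mul, act_swap hE hcd, Equiv.swap_apply_of_ne_of_ne (fun h : x = c₁ => hc₁.2 (h ▸ hx))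
            (fun h : x = d₁ => hd₁.2 (h ▸ hx)), act_swap hE hab]
      dswap := fun a ha b hb a' ha' b' hb' hab hab' =>
        ⟨refl Q (e a - e b) * refl Q (e a' - e b'), ⟨mul_mem (refl_mem_iso Q _) (refl_mem_iso Q _),
          fun i hi => by rw [act_mul, fixs i hi a' b' ha' hb' hab', fixs i hi a b ha hb hab],
          _, swap_mem_M hE hH hn hab hab', fun t _ => rfl⟩, fun x _ => by
          rw [act_mul, act_swap hE hab', act_swap hE hab]; rfl⟩
      root := fun h2 a ha b hb hab => ⟨refl_mem_iso Q _, fun i hi => fixs i hi a b ha hb hab,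
        refl Q (e a - e b) * refl Q (e s₀),
        hH ⟨mul_mem (swap_mem_mono hE hab) (isMono_of_forall hE fun i =>
          ⟨i, if s₀ = i then -1 else 1, by rw [hE.act_refl_e]; by_cases h : s₀ = i <;> simp [h]⟩),
          root_omega hE hn h2 hab⟩, fun t ht => by
          rw [act_mul, hE.act_refl_e s₀, if_neg (fun h : s₀ = t => hs₀ (h ▸ ht))]⟩ }
  rcases mono_or_exists hE hC hn hp with hmono | ⟨g, hg, a, ha, x, hx, hax, hgx, hnm, X, hX, hXc⟩
  · obtain ⟨g, hgI, hge⟩ := exists_iso_of_frame hE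
      (f := fun i => if i ∈ T then act m (e i) else e i) (fun i => by
        split_ifs
        · rw [Q_act (hMI hm), hE.Qe]
        · exact hE.Qe i) (fun i j hij => by
        have key : ∀ i j, i ∈ T → j ∉ T → B (act m (e i)) (e j) = 0 := fun i j hi hj => by
          rw [hE.B_eq, Finset.sum_eq_zero, mul_zero]
          intro l _
          rw [hE.co_e]
          by_cases hlj : l = j
          · subst hlj; rw [hTm i hi l hj, zero_mul]
          · rw [if_neg hlj, mul_zero]
        split_ifs with h1 h2 h3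
        · rw [B_act (hMI hm), hE.orth i j hij]
        · exact key i j h1 h2
        · rw [B_comm Q]; exact key j i h3 h1
        · exact hE.orth i j hij)
    have hgG : g ∈ G := ⟨hgI, fun i hi => by rw [hge, if_neg hi], m, hm, fun t ht => by rw [hge, if_pos ht]⟩
    obtain ⟨σ, hσ⟩ := hmono hgG
    intro t ht
    obtain ⟨s, hs, he⟩ := hσ t
    rw [hge, if_pos ht] at he
    refine ⟨σ t, ?_, s, he⟩
    by_contra hσt
    have h0 := hTm t ht _ hσt
    rw [he, co_smul, hE.co_e, if_pos rfl, mul_one] at h0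
    exact hs h0
  · exfalso
    obtain ⟨hgI, -, m', hm', hme⟩ := hg
    refine hno x (act g (e a)) X (by rw [Q_act hgI, hE.Qe]) hX hXc hnm ?_
    have h := mul_mem (mul_mem hm' (pair_mem_M hE hH hn hax)) (inv_mem hm')
    rw [show m' * (refl Q (e a) * refl Q (e x)) * m'⁻¹ =
      (m' * refl Q (e a) * m'⁻¹) * (m' * refl Q (e x) * m'⁻¹) by group,
      conj_refl Q (hMI hm'), conj_refl Q (hMI hm'), hme a ha, hme x hx, hgx] at h
    exact h

/-- Elements of `M` centralising a sign change are monomial. -/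
theorem stab_mono (hn5 : 5 ≤ n) (hn : 9 ≤ n) (hp : (Nat.card F).Prime) (hno : NoPair Q e c M)
    (S : Finset (Fin n)) (hS : S.Nonempty) (hSu : S ≠ Finset.univ) (m : GL ι F) (hm : m ∈ M)
    (hcomm : m * flip hE hn5 S * m⁻¹ = flip hE hn5 S) : m ∈ monoGroup e := by
  classical
  have hMI : M ≤ isometryGroup F Q := hMΩ.trans omega_le_iso
  have hc : ∀ t, act (flip hE hn5 S) (act m (e t)) = act m (act (flip hE hn5 S) (e t)) := fun t => by
    rw [← act_mul, ← act_mul, ← mul_inv_eq_iff_eq_mul.1 hcomm]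
  have h1 : ∀ t ∈ S, ∀ i ∉ S, co Q e c (act m (e t)) i = 0 := fun t ht => by
    refine (flip_negated hE hn5).1 ?_
    rw [hc, act_flip, if_pos ht, map_neg]
  have h2 : ∀ t ∈ Sᶜ, ∀ i ∉ Sᶜ, co Q e c (act m (e t)) i = 0 := fun t ht i hi => by
    rw [Finset.mem_compl] at ht hi
    refine (flip_fixed hE hn5).1 ?_ i (not_not.1 hi)
    rw [hc, act_flip, if_neg ht]
  obtain ⟨T, hT5, hT, hTm⟩ : ∃ T : Finset (Fin n), 5 ≤ T.card ∧ T ≠ Finset.univ ∧
      ∀ t ∈ T, ∀ i ∉ T, co Q e c (act m (e t)) i = 0 := by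
    by_cases h : 5 ≤ S.card
    · exact ⟨S, h, hSu, h1⟩
    · refine ⟨Sᶜ, by rw [Finset.card_compl, Fintype.card_fin]; omega, fun h' => ?_, h2⟩
      obtain ⟨x, hx⟩ := hS
      exact Finset.mem_compl.1 (h' ▸ Finset.mem_univ x) hx
  have hTn : T.card < n := by
    have := (Finset.card_lt_univ_of_notMem (s := T) (x := _) (Classical.choose_spec
      (show ∃ x, x ∉ T by by_contra hne; push Not at hne; exact hT (Finset.eq_univ_of_forall hne))))
    rwa [Fintype.card_fin] at this
  obtain ⟨t, ht⟩ : T.Nonempty := Finset.card_pos.1 (by omega)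
  obtain ⟨j, hj, s, hs⟩ := part_mono hE hH hMΩ hn5 hp hno hT5 hT (by omega) hm hTm t ht
  obtain ⟨h, hh, hhm, hht⟩ : ∃ h ∈ M, h ∈ monoGroup e ∧ act h (e j) = e t := by
    by_cases hjt : j = t
    · exact ⟨1, one_mem _, one_mem _, by rw [act_one, hjt]⟩
    obtain ⟨c₁, hc₁, d₁, hd₁, hcd⟩ := Finset.one_lt_card.1 (show 1 < (T \ {j, t}).card by
      have := Finset.le_card_sdiff {j, t} T
      have := Finset.card_le_two (a := j) (b := t)
      omega)
    simp only [Finset.mem_sdiff, Finset.mem_insert, Finset.mem_singleton, not_or] at hc₁ hd₁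
    refine ⟨_, swap_mem_M hE hH hn5 hjt hcd, swap_pair_mem_mono hE hjt hcd, ?_⟩
    rw [act_mul, act_swap hE hcd, Equiv.swap_apply_of_ne_of_ne (Ne.symm hc₁.2.1) (Ne.symm hd₁.2.1),
      act_swap hE hjt, Equiv.swap_apply_left]
  set m' := h * m
  have hm't : act m' (e t) = s • e t := by rw [act_mul, hs, map_smul, hht]
  have hm'M : m' ∈ M := mul_mem hh hm
  have hne : (Finset.univ.erase t) ≠ Finset.univ := fun h' => by
    have := h' ▸ Finset.mem_univ t
    simp at this
  have hcard : (Finset.univ.erase t).card = n - 1 := by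
    rw [Finset.card_erase_of_mem (Finset.mem_univ t), Finset.card_univ, Fintype.card_fin]
  have hs0 : s ≠ 0 := fun h' => hE.ne_zero t (act_injective m (by rw [hs, h', zero_smul, map_zero]))
  have hrest := part_mono hE hH hMΩ hn5 hp hno (T := Finset.univ.erase t) (by rw [hcard]; omega) hne
    (Or.inr (by rw [hcard]; omega)) hm'M (fun u hu i hi => by
      simp only [Finset.mem_erase, Finset.mem_univ, and_true, not_not] at hu hi
      subst hi
      have := B_act (hMI hm'M) (e i) (e u)
      rw [hm't, hE.orth i u (Ne.symm hu), B_smul_left Q] at this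
      rw [co, (mul_eq_zero.1 this).resolve_left hs0, zero_div])
  have hm'mono : m' ∈ monoGroup e := isMono_of_forall hE fun i => by
    by_cases hit : i = t
    · exact ⟨t, s, by rw [hit, hm't]⟩
    · obtain ⟨j', -, s', h'⟩ := hrest i (by simp [hit])
      exact ⟨j', s', h'⟩
  have := mul_mem (inv_mem hhm) hm'mono
  rwa [inv_mul_cancel_left] at this

/-- In odd dimension the group itself is monomial. -/
theorem le_mono_of_odd (hn5 : 5 ≤ n) (hodd : Odd n) (hp : (Nat.card F).Prime)
    (hno : NoPair Q e c M) : M ≤ monoGroup e := by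
  classical
  have hMI : M ≤ isometryGroup F Q := hMΩ.trans omega_le_iso
  have negI : ∀ g ∈ isometryGroup F Q, -g ∈ isometryGroup F Q := fun g hg => (mem_iso Q).2 fun x => by
    rw [act_apply, Units.val_neg, Matrix.neg_mulVec, ← act_apply, Q_neg Q, Q_act hg]
  have negact : ∀ (g : GL ι F) x, act (-g) x = -act g x := fun g x => by
    rw [act_apply, Units.val_neg, Matrix.neg_mulVec, ← act_apply]
  let G : Subgroup (GL ι F) :=
    { carrier := {g | g ∈ M ∨ -g ∈ M}
      mul_mem' := by
        rintro g g' (h | h) (h' | h')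
        · exact Or.inl (mul_mem h h')
        · exact Or.inr (by simpa [mul_neg] using mul_mem h h')
        · exact Or.inr (by simpa [neg_mul] using mul_mem h h')
        · exact Or.inl (by simpa using mul_mem h h')
      one_mem' := Or.inl (one_mem _)
      inv_mem' := by
        rintro g (h | h)
        · exact Or.inl (inv_mem h)
        · refine Or.inr ?_
          have h' := inv_mem h
          rwa [inv_neg] at h' }
  have hGI : G ≤ isometryGroup F Q := by
    rintro g (h | h)
    · exact hMI h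
    · simpa using negI _ (hMI h)
  have hneg : ∀ i, -(refl Q (e i)) = flip hE hn5 (Finset.univ.erase i) := fun i => hE.gl_ext fun j => by
    rw [negact, hE.act_refl_e, act_flip]
    by_cases hij : i = j
    · subst hij; simp
    · simp [hij, Ne.symm hij]
  have hsign : ∀ i, refl Q (e i) ∈ G := fun i => Or.inr (by
    rw [hneg]
    refine flip_mem_M hE hH hn5 ?_
    rw [Finset.card_erase_of_mem (Finset.mem_univ i), Finset.card_univ, Fintype.card_fin]
    obtain ⟨k, hk⟩ := hodd
    exact ⟨k, by omega⟩)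
  obtain ⟨k₀⟩ : Nonempty (Fin n) := ⟨⟨0, by omega⟩⟩
  have hC : ReflCtx Q e Finset.univ G :=
    { five := by rw [Finset.card_univ, Fintype.card_fin]; exact hn5
      iso := hGI
      fix := fun g _ i hi => absurd (Finset.mem_univ i) hi
      sign := fun i _ => hsign i
      swap := fun X _ hX5 a ha b hb => by
        by_cases hab : a = b
        · subst hab
          exact ⟨1, one_mem _, fun x _ => by rw [act_one, Equiv.swap_self]; rfl⟩
        obtain ⟨c₁, hc₁, d₁, hd₁, hcd⟩ := Finset.one_lt_card.1 (show 1 < Xᶜ.card by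
          rw [Finset.card_compl, Fintype.card_fin]; omega)
        rw [Finset.mem_compl] at hc₁ hd₁
        refine ⟨_, Or.inl (swap_mem_M hE hH hn5 hab hcd), fun x hx => ?_⟩
        rw [act_mul, act_swap hE hcd, Equiv.swap_apply_of_ne_of_ne (fun h : x = c₁ => hc₁ (h ▸ hx))
          (fun h : x = d₁ => hd₁ (h ▸ hx)), act_swap hE hab]
      dswap := fun a _ b _ a' _ b' _ hab hab' => ⟨_, Or.inl (swap_mem_M hE hH hn5 hab hab'), fun x _ => by
        rw [act_mul, act_swap hE hab', act_swap hE hab]; rfl⟩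
      root := fun h2 a _ b _ hab => by
        have h : refl Q (e a - e b) * refl Q (e k₀) ∈ M :=
          hH ⟨mul_mem (swap_mem_mono hE hab) (isMono_of_forall hE fun i =>
            ⟨i, if k₀ = i then -1 else 1, by rw [hE.act_refl_e]; by_cases h : k₀ = i <;> simp [h]⟩),
            root_omega hE hn5 h2 hab⟩
        have := mul_mem (show _ ∈ G from Or.inl h) (hsign k₀)
        rwa [mul_assoc, refl_mul_self, mul_one] at this }
  rcases mono_or_exists hE hC hn5 hp with hmono | ⟨g, hg, a, ha, x, hx, hax, hgx, hnm, X, hX, hXc⟩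
  · exact fun m hm => hmono (Or.inl hm)
  · exfalso
    refine hno x (act g (e a)) X (by rw [Q_act (hGI hg), hE.Qe]) hX hXc hnm ?_
    have h : g * (refl Q (e a) * refl Q (e x)) * g⁻¹ ∈ M := by
      rcases hg with hg | hg
      · exact mul_mem (mul_mem hg (pair_mem_M hE hH hn5 hax)) (inv_mem hg)
      · have := mul_mem (mul_mem hg (pair_mem_M hE hH hn5 hax)) (inv_mem hg)
        simpa [inv_neg] using this
    rwa [show g * (refl Q (e a) * refl Q (e x)) * g⁻¹ =
      (g * refl Q (e a) * g⁻¹) * (g * refl Q (e x) * g⁻¹) by group,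
      conj_refl Q (hGI hg), conj_refl Q (hGI hg), hgx] at h

end Cfsg.Agent.MaxCl.Mono
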