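/-
A decomposition into isometric non-degenerate lines is the set of lines of an orthogonal frame; the derived
orthogonal group does not permute the lines of a frame.
-/
import Cfsg.Agent.Lib.MaxCl.Mono.Frame
import Cfsg.Agent.Lib.MaxCl.OrthFrame

set_option autoImplicit false
set_option linter.unusedSectionVars false

namespace Cfsg.Agent.MaxCl.Mono

open scoped MatrixGroups Matrix
open Module (finrank)
open Orth

variable {ι : Type} [Fintype ι] [DecidableEq ι] {F : Type*} [Field F] {Q : QuadraticForm F (ι → F)}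

set_option quotPrecheck false in
local notation "B" => QuadraticMap.polar (⇑Q)

/-- An orthogonal decomposition into isometric lines comes from a frame. -/
theorem exists_frame {t : ℕ} {D : Fin t → Submodule F (ι → F)} (h2 : (2 : F) ≠ 0)
    (hD : Cfsg.Geo.IsOrthogonalMDecomposition Q 1 D) :
    ∃ (e : Fin t → ι → F) (c : F), Frame Q e c ∧ Cfsg.Geo.decompositionStabilizer D = monoGroup e := by
  have key : ∃ (e : Fin t → ι → F) (c : F), c ≠ 0 ∧ (∀ i, Q (e i) = c) ∧ ∀ i, D i = Submodule.span F {e i} := by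
    rcases isEmpty_or_nonempty (Fin t) with ht | ⟨⟨i₀⟩⟩
    · exact ⟨isEmptyElim, 1, one_ne_zero, isEmptyElim, isEmptyElim⟩
    obtain ⟨v, hv0, hv⟩ := finrank_eq_one_iff'.1 (hD.decomp.decomp.finrank_eq i₀)
    have hvQ : Q (v : ι → F) ≠ 0 := fun h => hv0 (Subtype.ext ((Submodule.eq_bot_iff _).1
      (inf_perp (block_nonDeg hD i₀)) (v : ι → F) ⟨v.2, fun x hx => by
        obtain ⟨a, ha⟩ := hv ⟨x, hx⟩
        rw [← show a • (v : ι → F) = x from congrArg Subtype.val ha, QuadraticMap.polarBilin_apply_apply, B_smul_left Q, B_self Q, h, mul_zero,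
          mul_zero]⟩))
    obtain ⟨e, hmem, hQe, -, hspan⟩ := transport_basis hD (κ := Fin 1) (i₀ := i₀) (fun _ => (v : ι → F))
      (fun _ => v.2) (fun x hx => by
        obtain ⟨a, ha⟩ := hv ⟨x, hx⟩
        exact ⟨fun _ => a, by rw [Fin.sum_univ_one]; exact congrArg Subtype.val ha⟩)
    refine ⟨fun i => e i 0, Q (v : ι → F), hvQ, fun i => hQe i 0, fun i => le_antisymm (fun x hx => ?_) ?_⟩
    · obtain ⟨α, hα⟩ := hspan i x hx
      rw [Fin.sum_univ_one] at hα
      exact Submodule.mem_span_singleton.2 ⟨α 0, hα⟩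
    · exact (Submodule.span_singleton_le_iff_mem _ _).2 (hmem i 0)
  obtain ⟨e, c, hc, hQe, hDe⟩ := key
  have hmem : ∀ i, e i ∈ D i := fun i => by rw [hDe]; exact Submodule.mem_span_singleton_self _
  have hE : Frame Q e c := by
    refine ⟨hQe, hc, h2, fun i j h => block_orth hD (hmem i) (hmem j) h, eq_top_iff.2 ?_⟩
    rw [← hD.decomp.decomp.iSup_eq_top]
    exact iSup_le fun i => by
      rw [hDe]
      exact Submodule.span_mono (Set.singleton_subset_iff.2 ⟨i, rfl⟩)
  refine ⟨e, c, hE, Subgroup.ext fun g => ?_⟩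
  constructor
  · rintro ⟨σ, hσ⟩
    refine ⟨σ, fun i => ?_⟩
    have h : act g (e i) ∈ D (σ i) := (hσ i).le ⟨e i, hmem i, rfl⟩
    rw [hDe] at h
    obtain ⟨s, hs⟩ := Submodule.mem_span_singleton.1 h
    refine ⟨s, fun h0 => hE.ne_zero i (act_injective g ?_), hs.symm⟩
    rw [← hs, h0, zero_smul, map_zero]
  · rintro ⟨σ, hσ⟩
    refine ⟨σ, fun i => ?_⟩
    obtain ⟨s, hs, h⟩ := hσ i
    rw [hDe, hDe, toLin'_eq_act, Submodule.map_span, Set.image_singleton, h,
      Submodule.span_singleton_smul_eq hs.isUnit]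

/-- The derived orthogonal group does not permute the lines of a frame. -/
theorem omega_not_le_mono [Finite F] {n : ℕ} {e : Fin n → ι → F} {c : F} (hE : Frame Q e c) (hn : 5 ≤ n) :
    ¬ Cfsg.Geo.omegaGL Q ≤ monoGroup e := by
  have hQ := hE.nondegenerate
  have hn5 : 5 ≤ Fintype.card ι := by rw [hE.card]; exact hn
  set i₀ : Fin n := ⟨0, by omega⟩
  obtain ⟨u, hu, hu0, hQu⟩ := exists_singular Q (D := Orth.perp Q (F ∙ e i₀)) (by
    rw [Orth.finrank_perp hQ, finrank_span_singleton (hE.ne_zero i₀)]; omega)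
  have hBu : B (e i₀) u = 0 := hu _ (Submodule.mem_span_singleton_self _)
  obtain ⟨g, hg, hgx⟩ := exists_move_value hQ hn5 (a := e i₀) (b := e i₀ + u)
    (by rw [Q_add Q, hQu, hBu, add_zero, add_zero]) (by rw [hE.Qe]; exact hE.c0)
  intro hle
  obtain ⟨σ, hσ⟩ := hle (by rw [omega_eq_sgGroup hQ hn5]; exact hg)
  obtain ⟨s, -, hs⟩ := hσ i₀
  rw [hgx] at hs
  have hco : ∀ j, (if j = i₀ then (1 : F) else 0) + co Q e c u j = s * if j = σ i₀ then 1 else 0 := fun j => by
    have h := congrArg (co Q e c · j) hs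
    simpa only [co_add, co_smul, hE.co_e] using h
  have hu₀ : co Q e c u i₀ = 0 := by rw [co, hBu, zero_div]
  have hσ₀ : i₀ = σ i₀ := by
    by_contra hne
    have h := hco i₀
    rw [if_pos rfl, if_neg hne, hu₀, add_zero, mul_zero] at h
    exact one_ne_zero h
  refine hu0 (hE.ext_co fun j => ?_)
  rw [co_zero]
  by_cases hj : j = i₀
  · rw [hj, hu₀]
  · have h := hco j
    rwa [← hσ₀, if_neg hj, zero_add, mul_zero] at h

end Cfsg.Agent.MaxCl.Mono
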