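/-
Monomial subgroups of prime fields are maximal in the derived orthogonal group: dimension five, seven, and nine or more.
-/
import Cfsg.Agent.Lib.MaxCl.Mono.Stab
import Cfsg.Agent.Lib.MaxCl.Mono.Generate
import Cfsg.Agent.Lib.MaxCl.Mono.Central
import Cfsg.Agent.Lib.MaxCl.Mono.Wrap

set_option autoImplicit false
set_option linter.unusedSectionVars false

namespace Cfsg.Agent.MaxCl.Mono

open scoped MatrixGroups Matrix
open Orth

variable {ι : Type} [Fintype ι] [DecidableEq ι] {F : Type*} [Field F] {Q : QuadraticForm F (ι → F)} {n : ℕ}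
  {e : Fin n → ι → F} {c : F}

/-- The monomial subgroup of a frame is maximal. -/
theorem maximal_of_frame [Finite F] (hE : Frame Q e c) (hp : (Nat.card F).Prime)
    (hn : (Odd n ∧ 5 ≤ n) ∨ 9 ≤ n) :
    Cfsg.Geo.IsMaximalIn (Cfsg.Geo.omegaGL Q) (monoGroup e ⊓ Cfsg.Geo.omegaGL Q) := by
  have hn5 : 5 ≤ n := by rcases hn with ⟨-, h⟩ | h <;> omega
  refine isMaximalIn_inf ?_ fun M hM hMΩ hout => ?_
  · by_contra h
    push Not at h
    exact omega_not_le_mono hE hn5 fun g hg => h g hg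
  by_contra hΩ
  have hno : NoPair Q e c M := fun i₀ v X hv hX hcard hnm hvM =>
    hΩ (omega_le_of_pair hE hp hn5 hM hv hX hcard hnm hvM)
  obtain ⟨g, hg, hgn⟩ := hout
  refine hgn ?_
  rcases hn with ⟨hodd, h⟩ | h
  · exact le_mono_of_odd hE hM hMΩ hn5 hodd hp hno hg
  · exact le_monoGroup_of_central hE hn5 hM hMΩ (fun S hS hS' m hm hc => stab_mono hE hM hMΩ hn5 h hp hno S hS hS' m hm hc) h hg

/-- Stabilisers of orthogonal frames of isometric lines are maximal over a prime field. -/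
theorem monomial_maximal [Fintype F] (hodd : Odd (Fintype.card F)) (hp : (Fintype.card F).Prime) {t : ℕ}
    {D : Fin t → Submodule F (ι → F)} (hD : Cfsg.Geo.IsOrthogonalMDecomposition Q 1 D)
    (hn : (Odd (Fintype.card ι) ∧ 7 ≤ Fintype.card ι) ∨ 9 ≤ Fintype.card ι) :
    Cfsg.Geo.IsMaximalIn (Cfsg.Geo.omegaGL Q) (Cfsg.Geo.decompositionStabilizer D ⊓ Cfsg.Geo.omegaGL Q) := by
  have h2 : (2 : F) ≠ 0 := Ring.two_ne_zero fun hc => by
    haveI := FiniteField.even_card_of_char_two hc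
    exact Nat.not_even_iff_odd.2 hodd (Nat.even_iff.2 this)
  obtain ⟨e, c, hE, hS⟩ := exists_frame h2 hD
  rw [hS]
  exact maximal_of_frame hE (by rwa [Nat.card_eq_fintype_card])
    (by rw [← hE.card]; exact hn.imp (fun h => ⟨h.1, by omega⟩) id)

end Cfsg.Agent.MaxCl.Mono
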