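/-
An overgroup of the monomial group of a frame in dimension six: elements with a frame line, a root line, or the
plane of two frame lines fixed are monomial.
-/
import Cfsg.Agent.Lib.MaxCl.Mono.Stab
import Cfsg.Agent.Lib.MaxCl.Mono.Central
import Cfsg.Agent.Lib.MaxCl.Mono.Generate

set_option autoImplicit false
set_option linter.unusedSectionVars false

namespace Cfsg.Agent.MaxCl.Mono.Six

open scoped MatrixGroups Matrix
open Orth

variable {ι : Type} [Fintype ι] [DecidableEq ι] {F : Type*} [Field F] [Finite F]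
  {Q : QuadraticForm F (ι → F)} {e : Fin 6 → ι → F} {c : F}

set_option quotPrecheck false in
local notation "B" => QuadraticMap.polar (⇑Q)

theorem five_le_six : 5 ≤ 6 := by norm_num

/-- The hypotheses on the overgroup. -/
structure Ctx (Q : QuadraticForm F (ι → F)) (e : Fin 6 → ι → F) (c : F) (M : Subgroup (GL ι F)) : Prop where
  frame : Frame Q e c
  prime : (Nat.card F).Prime
  lower : monoGroup e ⊓ Cfsg.Geo.omegaGL Q ≤ M
  upper : M ≤ Cfsg.Geo.omegaGL Q
  noPair : NoPair Q e c M

variable {M : Subgroup (GL ι F)} (hX : Ctx Q e c M)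
include hX

theorem Ctx.iso {g : GL ι F} (hg : g ∈ M) : g ∈ isometryGroup F Q := omega_le_iso (hX.upper hg)

omit hX in
theorem refl_neg (a : ι → F) : refl Q (-a) = refl Q a := by
  rw [show -a = (-1 : F) • a by simp, refl_smul a (neg_ne_zero.2 one_ne_zero)]

/-- A member whose conjugate by one reflection of the frame stays in the group is monomial. -/
theorem sym_mono (k : Fin 6) {m : GL ι F} (hm : m ∈ M)
    (hr : refl Q (e k) * m * refl Q (e k) ∈ M) : m ∈ monoGroup e := by
  classical
  have hE := hX.frame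
  have hn := five_le_six
  set r := refl Q (e k) with hrdef
  have hrr : r * r = 1 := refl_mul_self Q _
  have hrI : r ∈ isometryGroup F Q := refl_mem_iso Q _
  have hrm : r ∈ monoGroup e := isMono_of_forall hE fun i =>
    ⟨i, if k = i then -1 else 1, by rw [hrdef, hE.act_refl_e]; by_cases h : k = i <;> simp [h]⟩
  let M' : Subgroup (GL ι F) :=
    { carrier := {g | g ∈ M ∧ r * g * r ∈ M}
      mul_mem' := fun {g h} hg hh => ⟨mul_mem hg.1 hh.1, by
        have := mul_mem hg.2 hh.2
        rwa [show r * g * r * (r * h * r) = r * g * (r * r) * h * r by group, hrr, mul_one,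
          mul_assoc r g h] at this⟩
      one_mem' := ⟨one_mem _, by rw [mul_one, hrr]; exact one_mem _⟩
      inv_mem' := fun {g} hg => ⟨inv_mem hg.1, by
        have := inv_mem hg.2
        rwa [mul_inv_rev, mul_inv_rev, show r⁻¹ = r from inv_eq_of_mul_eq_one_right hrr, ← mul_assoc] at this⟩ }
  have hconj : ∀ g ∈ M', r * g * r ∈ M' := fun g hg => ⟨hg.2, by
    rw [show r * (r * g * r) * r = (r * r) * g * (r * r) by group, hrr, one_mul, mul_one]; exact hg.1⟩
  have hH' : monoGroup e ⊓ Cfsg.Geo.omegaGL Q ≤ M' := fun g hg => by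
    refine ⟨hX.lower hg, hX.lower ⟨mul_mem (mul_mem hrm hg.1) hrm, ?_⟩⟩
    have := omega_normal hE hn hrI hg.2
    rwa [show r⁻¹ = r from inv_eq_of_mul_eq_one_right hrr] at this
  let G : Subgroup (GL ι F) :=
    { carrier := {g | g ∈ M' ∨ g * r ∈ M'}
      mul_mem' := by
        rintro g h (hg | hg) (hh | hh)
        · exact Or.inl (mul_mem hg hh)
        · exact Or.inr (by rw [mul_assoc]; exact mul_mem hg hh)
        · refine Or.inr ?_
          have := mul_mem hg (hconj h hh)
          rwa [show g * r * (r * h * r) = g * (r * r) * h * r by group, hrr, mul_one] at this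
        · refine Or.inl ?_
          have := mul_mem hg (hconj _ hh)
          rwa [show g * r * (r * (h * r) * r) = g * (r * r) * h * (r * r) by group, hrr, mul_one, mul_one] at this
      one_mem' := Or.inl (one_mem _)
      inv_mem' := by
        rintro g (hg | hg)
        · exact Or.inl (inv_mem hg)
        · refine Or.inr ?_
          have := hconj _ (inv_mem hg)
          rwa [show r * (g * r)⁻¹ * r = r * r⁻¹ * g⁻¹ * r by group, mul_inv_cancel, one_mul] at this }
  have hGI : G ≤ isometryGroup F Q := by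
    rintro g (hg | hg)
    · exact hX.iso hg.1
    · have := mul_mem (hX.iso hg.1) hrI
      rwa [mul_assoc, hrr, mul_one] at this
  have hC : ReflCtx Q e Finset.univ G :=
    { five := by simp
      iso := hGI
      fix := fun g _ i hi => absurd (Finset.mem_univ i) hi
      sign := fun i _ => by
        by_cases hik : i = k
        · subst hik; exact Or.inr (by rw [hrr]; exact one_mem _)
        · exact Or.inr (pair_mem_M hE hH' hn hik)
      swap := fun X _ hX3 a ha b hb => by
        by_cases hab : a = b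
        · subst hab
          exact ⟨1, one_mem _, fun x _ => by rw [act_one, Equiv.swap_self]; rfl⟩
        obtain ⟨c₁, hc₁, d₁, hd₁, hcd⟩ := Finset.one_lt_card.1 (show 1 < Xᶜ.card by
          rw [Finset.card_compl, Fintype.card_fin]; omega)
        rw [Finset.mem_compl] at hc₁ hd₁
        refine ⟨_, Or.inl (swap_mem_M hE hH' hn hab hcd), fun x hx => ?_⟩
        rw [act_mul, act_swap hE hcd, Equiv.swap_apply_of_ne_of_ne (fun h : x = c₁ => hc₁ (h ▸ hx))
          (fun h : x = d₁ => hd₁ (h ▸ hx)), act_swap hE hab]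
      dswap := fun a _ b _ a' _ b' _ hab hab' => ⟨_, Or.inl (swap_mem_M hE hH' hn hab hab'), fun x _ => by
        rw [act_mul, act_swap hE hab', act_swap hE hab]; rfl⟩
      root := fun h2 a _ b _ hab => Or.inr (hH' ⟨mul_mem (swap_mem_mono hE hab) hrm,
        root_omega hE hn h2 hab⟩) }
  rcases mono_or_exists hE hC hn hX.prime with hmono | ⟨g, hg, a, -, x, -, hax, hgx, hnm, X, hX', hXc⟩
  · exact hmono (Or.inl ⟨hm, hr⟩)
  · exfalso
    refine hX.noPair x (act g (e a)) X (by rw [Q_act (hGI hg), hE.Qe]) hX' hXc hnm ?_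
    have hrfix : ∀ i, r * refl Q (e i) * r⁻¹ = refl Q (e i) := fun i => by
      rw [hrdef, conj_refl Q hrI, hE.act_refl_e]
      split_ifs
      · exact refl_neg _
      · rfl
    have h : g * (refl Q (e a) * refl Q (e x)) * g⁻¹ ∈ M := by
      rcases hg with hg | hg
      · exact mul_mem (mul_mem hg.1 (pair_mem_M hE hX.lower hn hax)) (inv_mem hg.1)
      · have := mul_mem (mul_mem hg.1 (pair_mem_M hE hX.lower hn hax)) (inv_mem hg.1)
        rwa [show g * r * (refl Q (e a) * refl Q (e x)) * (g * r)⁻¹ =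
          g * ((r * refl Q (e a) * r⁻¹) * (r * refl Q (e x) * r⁻¹)) * g⁻¹ by group, hrfix, hrfix] at this
    rwa [show g * (refl Q (e a) * refl Q (e x)) * g⁻¹ = (g * refl Q (e a) * g⁻¹) * (g * refl Q (e x) * g⁻¹) by group,
      conj_refl Q (hGI hg), conj_refl Q (hGI hg), hgx] at h

/-- The same for a monomial reflection outside the group. -/
theorem sym_mono' (k : Fin 6) {r' m : GL ι F}
    (hk : refl Q (e k) * r' ∈ monoGroup e ⊓ Cfsg.Geo.omegaGL Q) (hm : m ∈ M)
    (hr : r' * m * r'⁻¹ ∈ M) : m ∈ monoGroup e := by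
  obtain ⟨h, hh⟩ : ∃ h, h = refl Q (e k) * r' := ⟨_, rfl⟩
  rw [← hh] at hk
  have hr' : r' = refl Q (e k) * h := by rw [hh, ← mul_assoc, refl_mul_self, one_mul]
  have hhM := hX.lower hk
  have h1 := sym_mono hX k (m := h * m * h⁻¹) (mul_mem (mul_mem hhM hm) (inv_mem hhM)) (by
    rwa [hr', show refl Q (e k) * h * m * (refl Q (e k) * h)⁻¹ =
      refl Q (e k) * (h * m * h⁻¹) * (refl Q (e k))⁻¹ by group, refl_inv] at hr)
  have := mul_mem (mul_mem (inv_mem (Subgroup.mem_inf.1 hk).1) h1) (Subgroup.mem_inf.1 hk).1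
  rwa [show h⁻¹ * (h * m * h⁻¹) * h = m by group] at this

/-- A member sending a frame line to a frame line is monomial. -/
theorem point_mono {m : GL ι F} (hm : m ∈ M) {i j : Fin 6} {s : F} (h : act m (e i) = s • e j) :
    m ∈ monoGroup e := by
  classical
  have hE := hX.frame
  have same : ∀ {m : GL ι F}, m ∈ M → act m (e i) = s • e i → m ∈ monoGroup e := by
    intro m hm h
    refine sym_mono hX i hm ?_
    have hs : s ≠ 0 := fun h0 => hE.ne_zero i (act_injective m (by rw [h, h0, zero_smul, map_zero]))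
    have h1 : m * refl Q (e i) * m⁻¹ = refl Q (e i) := by rw [conj_refl Q (hX.iso hm), h, refl_smul _ hs]
    rw [mul_assoc, mul_inv_eq_iff_eq_mul.1 h1, ← mul_assoc, refl_mul_self, one_mul]
    exact hm
  by_cases hij : i = j
  · exact same hm (hij ▸ h)
  obtain ⟨c₁, hc₁, d₁, hd₁, hcd⟩ := Finset.one_lt_card.1 (show 1 < ({j, i}ᶜ : Finset (Fin 6)).card by
    rw [Finset.card_compl, Fintype.card_fin, Finset.card_pair (Ne.symm hij)]; norm_num)
  simp only [Finset.mem_compl, Finset.mem_insert, Finset.mem_singleton, not_or] at hc₁ hd₁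
  set k := refl Q (e j - e i) * refl Q (e c₁ - e d₁)
  have hk : k ∈ monoGroup e := swap_pair_mem_mono hE (Ne.symm hij) hcd
  have hk' : act k (e j) = e i := by
    rw [act_mul, act_swap hE hcd, Equiv.swap_apply_of_ne_of_ne (Ne.symm hc₁.1) (Ne.symm hd₁.1),
      act_swap hE (Ne.symm hij), Equiv.swap_apply_left]
  have := mul_mem (inv_mem hk) (same (mul_mem (swap_mem_M hE hX.lower five_le_six (Ne.symm hij) hcd) hm)
    (by rw [act_mul, h, map_smul, hk']))
  rwa [inv_mul_cancel_left] at this

omit hX in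
theorem act_pow_perm {g : GL ι F} {σ : Equiv.Perm (Fin 6)} (h : ∀ i, act g (e i) = e (σ i)) (m : ℕ) :
    ∀ i, act (g ^ m) (e i) = e ((σ ^ m) i) := by
  induction m with
  | zero => intro i; rw [pow_zero, pow_zero, act_one]; rfl
  | succ m ih => intro i; rw [pow_succ, pow_succ, act_mul, h, ih, Equiv.Perm.mul_apply]

omit hX in
theorem mono_pow {g : GL ι F} {σ : Equiv.Perm (Fin 6)}
    (h : ∀ i, ∃ s : F, s ≠ 0 ∧ act g (e i) = s • e (σ i)) (m : ℕ) :
    ∀ i, ∃ s : F, s ≠ 0 ∧ act (g ^ m) (e i) = s • e ((σ ^ m) i) := by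
  induction m with
  | zero => intro i; exact ⟨1, one_ne_zero, by rw [pow_zero, pow_zero, act_one, one_smul]; rfl⟩
  | succ m ih =>
    intro i
    obtain ⟨s, hs, e1⟩ := h i
    obtain ⟨t, ht, e2⟩ := ih (σ i)
    exact ⟨s * t, mul_ne_zero hs ht, by
      rw [pow_succ, pow_succ, act_mul, e1, map_smul, e2, smul_smul, Equiv.Perm.mul_apply]⟩

omit hX in
theorem perm_five_fixed {σ : Equiv.Perm (Fin 6)} (h5 : σ ^ 5 = 1) {a b : Fin 6} (hab : a ≠ b)
    (ha : σ a = a) (hb : σ b = b) : σ = 1 := by
  classical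
  rw [← Equiv.Perm.cycleType_eq_zero]
  by_contra hne
  obtain ⟨m, hm⟩ := Multiset.exists_mem_of_ne_zero hne
  have h1 := Equiv.Perm.two_le_of_mem_cycleType hm
  have h2 : m ∣ 5 := (Equiv.Perm.dvd_of_mem_cycleType hm).trans (orderOf_dvd_of_pow_eq_one h5)
  have h3 : m ≤ σ.support.card := by
    rw [← Equiv.Perm.sum_cycleType]
    exact Multiset.single_le_sum (fun _ _ => Nat.zero_le _) _ hm
  have h4 : σ.support.card ≤ 4 := by
    have hsub : σ.support ⊆ ({a, b}ᶜ : Finset (Fin 6)) := fun x hx => by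
      rw [Equiv.Perm.mem_support] at hx
      simp only [Finset.mem_compl, Finset.mem_insert, Finset.mem_singleton, not_or]
      exact ⟨fun h => hx (h ▸ ha), fun h => hx (h ▸ hb)⟩
    refine (Finset.card_le_card hsub).trans ?_
    rw [Finset.card_compl, Fintype.card_fin, Finset.card_pair hab]
  have := (Nat.dvd_prime (by norm_num : Nat.Prime 5)).1 h2
  omega

omit hX in
theorem exists_five (i : Fin 6) : ∃ σ : Equiv.Perm (Fin 6), Equiv.Perm.sign σ = 1 ∧ σ i = i ∧ σ ^ 5 = 1 ∧
    σ ≠ 1 := by
  let c0 : Equiv.Perm (Fin 6) := Equiv.swap 1 2 * Equiv.swap 2 3 * Equiv.swap 3 4 * Equiv.swap 4 5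
  have h5 : c0 ^ 5 = 1 := by decide
  have hs : Equiv.Perm.sign c0 = 1 := by simp [c0, Equiv.Perm.sign_swap']
  have h0 : c0 0 = 0 := by decide
  have h1 : c0 1 ≠ 1 := by decide
  refine ⟨Equiv.swap 0 i * c0 * (Equiv.swap 0 i)⁻¹, by rw [map_mul, map_mul, map_inv, hs, mul_one, mul_inv_cancel], ?_, ?_, fun h => h1 ?_⟩
  · simp [Equiv.Perm.mul_apply, Equiv.swap_inv, h0]
  · rw [conj_pow, h5, mul_one, mul_inv_cancel]
  · rw [mul_inv_eq_one, mul_eq_left] at h
    rw [h]; rfl

/-- No member sends a frame vector into a root line. -/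
theorem no_root {g : GL ι F} (hg : g ∈ M) {i a b : Fin 6} {lam s : F} (hab : a ≠ b) (hs : s = 1 ∨ s = -1)
    (h : act g (e i) = lam • (e a + s • e b)) : False := by
  classical
  have hE := hX.frame
  have hn := five_le_six
  have hgI := hX.iso hg
  have hlam : lam ≠ 0 := fun h0 => hE.ne_zero i (act_injective g (by rw [h, h0, zero_smul, map_zero]))
  set u := e a + s • e b with hu
  have hQu : Q u = 2 * c := by
    rw [hu, Q_add Q, hE.Qe, Q_smul Q, hE.Qe, B_smul_right Q, hE.orth a b hab]
    rcases hs with rfl | rfl <;> ring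
  have h2 : IsSquare (2 : F) := by
    refine ⟨lam⁻¹, ?_⟩
    have := Q_act hgI (e i)
    rw [h, Q_smul Q, hQu, hE.Qe] at this
    have h' : lam * lam * 2 = 1 := mul_right_cancel₀ hE.c0 (by linear_combination this)
    field_simp
    linear_combination h'
  have hrbm : ∀ j, refl Q (e j) ∈ monoGroup e := fun j => isMono_of_forall hE fun l =>
    ⟨l, if j = l then -1 else 1, by rw [hE.act_refl_e]; by_cases h : j = l <;> simp [h]⟩
  have hk : refl Q (e b) * refl Q u ∈ monoGroup e ⊓ Cfsg.Geo.omegaGL Q := by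
    have hΩ := root_omega hE hn h2 hab (s := b)
    rcases hs with hs | hs <;> subst hs
    · have hc := conj_refl Q (refl_mem_iso Q (e b)) (e a - e b)
      rw [map_sub, hE.act_refl_e, hE.act_refl_e, if_neg (Ne.symm hab), if_pos rfl, sub_neg_eq_add] at hc
      rw [hu, one_smul, ← hc, ← mul_assoc, ← mul_assoc, refl_mul_self, one_mul, refl_inv]
      exact ⟨mul_mem (swap_mem_mono hE hab) (hrbm b), hΩ⟩
    · rw [hu, neg_one_smul, ← sub_eq_add_neg]
      refine ⟨mul_mem (hrbm b) (swap_mem_mono hE hab), ?_⟩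
      have := inv_mem hΩ
      rwa [mul_inv_rev, refl_inv, refl_inv] at this
  obtain ⟨σ, hσs, hσi, hσ5, hσ1⟩ := exists_five i
  obtain ⟨k, hkI, hkact, hev, -⟩ := exists_perm_map hE hn σ
  have hkm : k ∈ monoGroup e := ⟨σ, fun l => ⟨1, one_ne_zero, by rw [hkact, one_smul]⟩⟩
  have hkM : k ∈ M := hX.lower ⟨hkm, hev hσs⟩
  set m := g * k * g⁻¹ with hm
  have hmM : m ∈ M := mul_mem (mul_mem hg hkM) (inv_mem hg)
  have hmu : act m u = u := by
    refine smul_right_injective (ι → F) hlam ?_
    show lam • act m u = lam • u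
    rw [← map_smul, ← h, hm, act_mul, act_mul, act_inv_act, hkact, hσi]
  have hmmono : m ∈ monoGroup e := by
    refine sym_mono' hX b hk hmM ?_
    have := conj_refl Q (hX.iso hmM) u
    rw [hmu, mul_inv_eq_iff_eq_mul] at this
    rw [← this, mul_inv_cancel_right]
    exact hmM
  obtain ⟨π, hπ⟩ := hmmono
  have h5k : k ^ 5 = 1 := hE.gl_ext fun l => by rw [act_pow_perm hkact, hσ5, act_one]; rfl
  have hm5 : m ^ 5 = 1 := by rw [hm, conj_pow, h5k, mul_one, mul_inv_cancel]
  have hπ5 : π ^ 5 = 1 := perm_unique hE (mono_pow hπ 5) fun l =>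
    ⟨1, one_ne_zero, by rw [hm5, act_one, one_smul]; rfl⟩
  have hs0 : s ≠ 0 := by rcases hs with rfl | rfl <;> simp
  obtain ⟨sa, hsa0, hsa⟩ := hπ a
  obtain ⟨sb, hsb0, hsb⟩ := hπ b
  have hco : ∀ l, co Q e c (act m u) l = sa * (if l = π a then 1 else 0) + s * (sb * if l = π b then 1 else 0) :=
    fun l => by rw [hu, map_add, map_smul, hsa, hsb, co_add, co_smul, co_smul, co_smul, hE.co_e, hE.co_e]
  have hab' : π a ≠ π b := fun h => hab (π.injective h)
  have mem : ∀ l, l = π a ∨ l = π b → l = a ∨ l = b := fun l hl => by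
    by_contra hne
    push Not at hne
    have := hco l
    rw [hmu, hu, co_add, co_smul, hE.co_e, hE.co_e, if_neg hne.1, if_neg hne.2, mul_zero, add_zero] at this
    rcases hl with rfl | rfl
    · rw [if_pos rfl, if_neg hab', mul_one, mul_zero, mul_zero, add_zero] at this
      exact hsa0 this.symm
    · rw [if_neg (Ne.symm hab'), if_pos rfl, mul_zero, zero_add, mul_one] at this
      exact mul_ne_zero hs0 hsb0 this.symm
  have fixed : π a = a ∧ π b = b := by
    rcases mem _ (Or.inl rfl) with h1 | h1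
    · exact ⟨h1, (mem _ (Or.inr rfl)).resolve_left fun h => hab' (h1.trans h.symm)⟩
    · exfalso
      have h2 : π b = a := (mem _ (Or.inr rfl)).resolve_right fun h => hab' (h1.trans h.symm)
      have h3 := congrArg (fun π : Equiv.Perm (Fin 6) => π a) hπ5
      simp only [pow_succ, pow_zero, one_mul, Equiv.Perm.mul_apply, h1, h2, Equiv.Perm.one_apply] at h3
      exact hab h3.symm
  obtain ⟨U, hU⟩ := exists_flip_of_perm_one hE hn (hX.iso hmM) hπ (perm_five_fixed hπ5 hab fixed.1 fixed.2)
  have hm1 : m = 1 := by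
    have h' := hm5
    rw [show m ^ 5 = (m * m) * (m * m) * m by simp only [pow_succ, pow_zero, one_mul, mul_assoc]] at h'
    rw [hU, flip_mul_self, one_mul, one_mul] at h'
    rw [hU, h']
  refine hσ1 (perm_unique hE (g := k) (fun l => ⟨1, one_ne_zero, by rw [hkact, one_smul]⟩) fun l =>
    ⟨1, one_ne_zero, ?_⟩)
  rw [show k = 1 from conj_eq_one_iff.1 hm1, act_one, one_smul]; rfl

end Cfsg.Agent.MaxCl.Mono.Six
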