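/-
An overgroup of the monomial group of a frame in dimension six: elements centralising a sign change on two or four
lines are monomial.
-/
import Cfsg.Agent.Lib.MaxCl.Mono.SixBase

set_option autoImplicit false
set_option linter.unusedSectionVars false

namespace Cfsg.Agent.MaxCl.Mono.Six

open scoped MatrixGroups Matrix
open Orth

variable {ι : Type} [Fintype ι] [DecidableEq ι] {F : Type*} [Field F] [Finite F]
  {Q : QuadraticForm F (ι → F)} {e : Fin 6 → ι → F} {c : F}

set_option quotPrecheck false in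
local notation "B" => QuadraticMap.polar (⇑Q)

variable {M : Subgroup (GL ι F)} (hX : Ctx Q e c M)
include hX

/-- The rows of a product of two reflections, in coordinates. -/
theorem co_refl_pair {v w : ι → F} (hv : Q v = c) (hw : Q w = c) (k l : Fin 6) :
    co Q e c (act (refl Q v * refl Q w) (e k)) l =
      (if l = k then 1 else 0) - 2 * co Q e c w k * co Q e c w l -
        2 * (co Q e c v k - 2 * co Q e c w k * ∑ j, co Q e c v j * co Q e c w j) * co Q e c v l := by
  have hE := hX.frame
  have sumone : ∀ {v : ι → F}, Q v = c → ∑ j, co Q e c v j ^ 2 = 1 := fun {v} hv =>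
    mul_left_cancel₀ hE.c0 (by rw [← hE.Q_eq, hv, mul_one])
  rw [act_mul, co_refl hE (by rw [hv]; exact hE.c0), sumone hv, div_one]
  simp only [co_refl_e hE (show Q w ≠ 0 by rw [hw]; exact hE.c0), sumone hw, div_one]
  have : ∑ j, co Q e c v j * ((if j = k then 1 else 0) - 2 * co Q e c w k * co Q e c w j) =
      co Q e c v k - 2 * co Q e c w k * ∑ j, co Q e c v j * co Q e c w j := by
    rw [Finset.mul_sum]
    simp only [mul_sub, Finset.sum_sub_distrib, mul_ite, mul_one, mul_zero, Finset.sum_ite_eq', Finset.mem_univ,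
      if_true]
    congr 1
    exact Finset.sum_congr rfl fun j _ => by ring
  rw [this]

/-- A member fixing the plane of two frame lines is monomial. -/
theorem pair_mono {m : GL ι F} (hm : m ∈ M) {a b : Fin 6} (hab : a ≠ b)
    (hcomm : m * flip hX.frame five_le_six {a, b} * m⁻¹ = flip hX.frame five_le_six {a, b}) :
    m ∈ monoGroup e := by
  classical
  have hE := hX.frame
  have hn := five_le_six
  have hmI := hX.iso hm
  set t := flip hE hn {a, b} with ht
  have hc : ∀ y, act t (act m y) = act m (act t y) := fun y => by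
    rw [← act_mul, ← act_mul, ← mul_inv_eq_iff_eq_mul.1 hcomm]
  set v := act m (e a) with hvdef
  obtain ⟨x, hx⟩ : ∃ x, x ∉ ({a, b} : Finset (Fin 6)) := by
    by_contra h
    push Not at h
    have := Finset.card_le_card (s := Finset.univ) (t := ({a, b} : Finset (Fin 6))) fun x _ => h x
    rw [Finset.card_univ, Fintype.card_fin, Finset.card_pair hab] at this
    omega
  set u := act m (e x) with hudef
  have hv0 : ∀ l, l ≠ a → l ≠ b → co Q e c v l = 0 := fun l h1 h2 =>
    (flip_negated hE hn).1 (by rw [← ht, hvdef, hc, ht, act_flip, if_pos (Finset.mem_insert_self a _), map_neg])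
      l (by simp [h1, h2])
  have hu0 : ∀ l, l = a ∨ l = b → co Q e c u l = 0 := fun l hl =>
    (flip_fixed hE hn).1 (by rw [← ht, hudef, hc, ht, act_flip, if_neg hx]) l (by simpa using hl)
  have hQv : Q v = c := by rw [hvdef, Q_act hmI, hE.Qe]
  have hQu : Q u = c := by rw [hudef, Q_act hmI, hE.Qe]
  have hax : a ≠ x := fun h => hx (by simp [h])
  have hA : refl Q v * refl Q u ∈ M := by
    have := mul_mem (mul_mem hm (pair_mem_M hE hX.lower hn hax)) (inv_mem hm)
    rwa [show m * (refl Q (e a) * refl Q (e x)) * m⁻¹ =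
      (m * refl Q (e a) * m⁻¹) * (m * refl Q (e x) * m⁻¹) by group, conj_refl Q hmI, conj_refl Q hmI] at this
  set α := co Q e c v a with hα
  set β := co Q e c v b with hβ
  have sumone : ∀ {v : ι → F}, Q v = c → ∑ j, co Q e c v j ^ 2 = 1 := fun {v} hv =>
    mul_left_cancel₀ hE.c0 (by rw [← hE.Q_eq, hv, mul_one])
  have hαβ : α ^ 2 + β ^ 2 = 1 := by
    rw [← sumone hQv, ← Finset.sum_pair hab (f := fun l => co Q e c v l ^ 2)]
    exact Finset.sum_subset (Finset.subset_univ _) fun l _ hl => by
      simp only [Finset.mem_insert, Finset.mem_singleton, not_or] at hl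
      rw [hv0 l hl.1 hl.2]; ring
  -- the products of reflections in images of `u` are monomial
  have key : ∀ i j z : Fin 6, i ≠ j → i ≠ a → i ≠ b → j ≠ a → j ≠ b → z ≠ a → z ≠ b →
      ∀ u' ū : ι → F, (∀ l, co Q e c u' l = co Q e c u (Equiv.swap i j l)) →
      (∀ l, co Q e c ū l = if l = z then -co Q e c u l else co Q e c u l) →
      ∀ k, k ≠ a → k ≠ b → ∀ l l', co Q e c (act (refl Q u' * refl Q ū) (e k)) l ≠ 0 →
        co Q e c (act (refl Q u' * refl Q ū) (e k)) l' ≠ 0 → l = l' := by
    intro i j z hij hia hib hja hjb hza hzb u' ū hu' hū k hka hkb l l' hl hl'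
    set s := refl Q (e a - e b) * refl Q (e i - e j)
    set f := flip hE hn {a, z}
    have hsM : s ∈ M := swap_mem_M hE hX.lower hn hab hij
    have hfM : f ∈ M := flip_mem_M hE hX.lower hn (by rw [Finset.card_pair (Ne.symm hza)]; decide)
    have hsI := hX.iso hsM
    have hfI := hX.iso hfM
    have hsact : ∀ l, act s (e l) = e ((Equiv.swap a b * Equiv.swap i j) l) := fun l => by
      rw [act_mul, act_swap hE hij, act_swap hE hab]; rfl
    have hsco : ∀ y l, co Q e c (act s y) l = co Q e c y ((Equiv.swap a b * Equiv.swap i j)⁻¹ l) := fun y l => by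
      have := co_act_of_perm hE hsI (π := ⇑(Equiv.swap a b * Equiv.swap i j))
        (l := (Equiv.swap a b * Equiv.swap i j)⁻¹ l) (hsact _) y
      rwa [Equiv.Perm.inv_def, Equiv.apply_symm_apply] at this
    simp only [mul_inv_rev, Equiv.swap_inv, Equiv.Perm.mul_apply] at hsco
    set v' := act s v
    set v₁ := act f v
    have hsu : act s u = u' := hE.ext_co fun l => by
      rw [hsco, hu']
      by_cases h : l = a ∨ l = b
      · rw [hu0 (Equiv.swap i j l) (by
          rcases h with rfl | rfl
          · exact Or.inl (Equiv.swap_apply_of_ne_of_ne (Ne.symm hia) (Ne.symm hja))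
          · exact Or.inr (Equiv.swap_apply_of_ne_of_ne (Ne.symm hib) (Ne.symm hjb)))]
        rcases h with rfl | rfl
        · rw [Equiv.swap_apply_left, Equiv.swap_apply_of_ne_of_ne (Ne.symm hib) (Ne.symm hjb), hu0 _ (Or.inr rfl)]
        · rw [Equiv.swap_apply_right, Equiv.swap_apply_of_ne_of_ne (Ne.symm hia) (Ne.symm hja), hu0 _ (Or.inl rfl)]
      · push Not at h
        rw [Equiv.swap_apply_of_ne_of_ne h.1 h.2]
    have hfu : act f u = ū := hE.ext_co fun l => by
      rw [co_flip, hū]
      by_cases hla : l = a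
      · subst hla; rw [hu0 _ (Or.inl rfl)]; simp
      · simp [hla]
    have hA' : refl Q v' * refl Q u' ∈ M := by
      have := mul_mem (mul_mem hsM hA) (inv_mem hsM)
      rwa [show s * (refl Q v * refl Q u) * s⁻¹ = (s * refl Q v * s⁻¹) * (s * refl Q u * s⁻¹) by group,
        conj_refl Q hsI, conj_refl Q hsI, hsu] at this
    have hA₁ : refl Q v₁ * refl Q ū ∈ M := by
      have := mul_mem (mul_mem hfM hA) (inv_mem hfM)
      rwa [show f * (refl Q v * refl Q u) * f⁻¹ = (f * refl Q v * f⁻¹) * (f * refl Q u * f⁻¹) by group,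
        conj_refl Q hfI, conj_refl Q hfI, hfu] at this
    have hv'0 : ∀ l, l ≠ a → l ≠ b → co Q e c v' l = 0 := fun l h1 h2 => by
      rw [hsco, Equiv.swap_apply_of_ne_of_ne h1 h2]
      exact hv0 _ (fun h => h1 (by
        rw [← Equiv.swap_apply_self i j l, h, Equiv.swap_apply_of_ne_of_ne (Ne.symm hia) (Ne.symm hja)]))
        (fun h => h2 (by
        rw [← Equiv.swap_apply_self i j l, h, Equiv.swap_apply_of_ne_of_ne (Ne.symm hib) (Ne.symm hjb)]))
    have hv₁0 : ∀ l, l ≠ a → l ≠ b → co Q e c v₁ l = 0 := fun l h1 h2 => by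
      rw [co_flip, hv0 l h1 h2]; simp
    have hū0 : ∀ l, l = a ∨ l = b → co Q e c ū l = 0 := fun l hl => by
      rw [hū, hu0 l hl]; simp
    have hu'0 : ∀ l, l = a ∨ l = b → co Q e c u' l = 0 := fun l hl => by
      rw [hu']
      refine hu0 _ ?_
      rcases hl with rfl | rfl
      · exact Or.inl (Equiv.swap_apply_of_ne_of_ne (Ne.symm hia) (Ne.symm hja))
      · exact Or.inr (Equiv.swap_apply_of_ne_of_ne (Ne.symm hib) (Ne.symm hjb))
    have horth : ∀ y y' : ι → F, (∀ l, l ≠ a → l ≠ b → co Q e c y l = 0) →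
        (∀ l, l = a ∨ l = b → co Q e c y' l = 0) → B y y' = 0 := fun y y' h h' => by
      rw [hE.B_eq, Finset.sum_eq_zero, mul_zero]
      intro l _
      by_cases hl : l = a ∨ l = b
      · rw [h' l hl, mul_zero]
      · push Not at hl; rw [h l hl.1 hl.2, zero_mul]
    have hQv' : Q v' = c := by rw [Q_act hsI, hQv]
    have hQv₁ : Q v₁ = c := by rw [Q_act hfI, hQv]
    have hQu' : Q u' = c := by rw [← hsu, Q_act hsI, hQu]
    have hQū : Q ū = c := by rw [← hfu, Q_act hfI, hQu]
    set Z := refl Q v' * refl Q v₁ * (refl Q u' * refl Q ū) with hZ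
    have hZM : Z ∈ M := by
      have := mul_mem hA' hA₁
      rwa [show refl Q v' * refl Q u' * (refl Q v₁ * refl Q ū) =
        refl Q v' * (refl Q u' * refl Q v₁) * refl Q ū by group,
        ((refl_commute Q (horth _ _ hv₁0 hu'0)).symm).eq,
        show refl Q v' * (refl Q v₁ * refl Q u') * refl Q ū = Z by rw [hZ]; group] at this
    have hfixa : act (refl Q u' * refl Q ū) (e a) = e a := by
      have h1 : B ū (e a) = 0 := by
        rw [B_comm Q]; exact horth _ _ (fun l h1 _ => by rw [hE.co_e, if_neg h1]) hū0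
      have h2 : B u' (e a) = 0 := by
        rw [B_comm Q]; exact horth _ _ (fun l h1 _ => by rw [hE.co_e, if_neg h1]) hu'0
      rw [act_mul, act_refl_fix Q (show Q ū ≠ 0 by rw [hQū]; exact hE.c0) h1,
        act_refl_fix Q (show Q u' ≠ 0 by rw [hQu']; exact hE.c0) h2]
    have hZa : act Z (e a) = (-1 : F) • e a := by
      rw [hZ, act_mul, hfixa]
      refine hE.ext_co fun l => ?_
      have ha' : co Q e c v' a = β := by
        rw [hsco, Equiv.swap_apply_left, Equiv.swap_apply_of_ne_of_ne (Ne.symm hib) (Ne.symm hjb)]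
      have hb' : co Q e c v' b = α := by
        rw [hsco, Equiv.swap_apply_right, Equiv.swap_apply_of_ne_of_ne (Ne.symm hia) (Ne.symm hja)]
      have ha₁ : co Q e c v₁ a = -α := by rw [co_flip, if_pos (Finset.mem_insert_self a _)]
      have hb₁ : co Q e c v₁ b = β := by
        rw [co_flip, if_neg (show b ∉ ({a, z} : Finset (Fin 6)) by simp [Ne.symm hab, Ne.symm hzb])]
      have hD : ∑ q, co Q e c v' q * co Q e c v₁ q = β * (-α) + α * β := by
        rw [← Finset.sum_subset (Finset.subset_univ ({a, b} : Finset (Fin 6))) fun q _ hq => by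
          simp only [Finset.mem_insert, Finset.mem_singleton, not_or] at hq
          rw [hv'0 q hq.1 hq.2, zero_mul], Finset.sum_pair hab, ha', ha₁, hb', hb₁]
      rw [co_refl_pair hX hQv' hQv₁, hD, co_smul, hE.co_e, ha', ha₁]
      by_cases hla : l = a
      · subst hla
        rw [ha', ha₁, if_pos rfl]
        linear_combination -2 * hαβ
      by_cases hlb : l = b
      · subst hlb
        rw [hb', hb₁, if_neg hla]
        ring
      · rw [hv'0 l hla hlb, hv₁0 l hla hlb, if_neg hla]
        ring
    obtain ⟨τ, hτ⟩ := point_mono hX hZM hZa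
    obtain ⟨r, -, hr⟩ := hτ k
    have hBk : ∀ {y : ι → F}, (∀ l, l ≠ a → l ≠ b → co Q e c y l = 0) →
        B y (act (refl Q u' * refl Q ū) (e k)) = 0 := fun {y} hy => by
      refine horth _ _ hy fun o ho => ?_
      have hok : o ≠ k := fun h => by
        rcases ho with h' | h'
        · exact hka (h ▸ h')
        · exact hkb (h ▸ h')
      rw [co_refl_pair hX hQu' hQū, hu'0 o ho, hū0 o ho, if_neg hok]
      ring
    have hcol : act Z (e k) = act (refl Q u' * refl Q ū) (e k) := by
      rw [hZ, act_mul, act_mul, act_refl_fix Q (by rw [hQv₁]; exact hE.c0) (hBk hv₁0),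
        act_refl_fix Q (by rw [hQv']; exact hE.c0) (hBk hv'0)]
    rw [← hcol, hr, co_smul, hE.co_e] at hl hl'
    have : ∀ l, r * (if l = τ k then (1 : F) else 0) ≠ 0 → l = τ k := fun l h => by
      by_contra hne; rw [if_neg hne, mul_zero] at h; exact h rfl
    exact (this l hl).trans (this l' hl').symm
  -- the support of `u`
  by_contra hmono
  obtain ⟨i, hi⟩ : ∃ i, co Q e c u i ≠ 0 := by
    by_contra h
    push Not at h
    exact hE.c0 (by rw [← hQu, hE.Q_eq, Finset.sum_eq_zero fun l _ => by rw [h l]; ring, mul_zero])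
  have hi' : i ≠ a ∧ i ≠ b := ⟨fun h => hi (hu0 _ (Or.inl h)), fun h => hi (hu0 _ (Or.inr h))⟩
  obtain ⟨j, hji, hj⟩ : ∃ j, j ≠ i ∧ co Q e c u j ≠ 0 := by
    by_contra h
    push Not at h
    refine hmono (point_mono hX hm (i := x) (j := i) (s := co Q e c u i) (hE.ext_co fun l => ?_))
    rw [← hudef, co_smul, hE.co_e]
    by_cases hl : l = i
    · subst hl; simp
    · rw [if_neg hl, mul_zero, h l hl]
  have hj' : j ≠ a ∧ j ≠ b := ⟨fun h => hj (hu0 _ (Or.inl h)), fun h => hj (hu0 _ (Or.inr h))⟩
  have hij : i ≠ j := Ne.symm hji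
  have vec : ∀ g : Fin 6 → F, ∃ y : ι → F, ∀ l, co Q e c y l = g l := fun g => ⟨_, hE.co_sum g⟩
  by_cases hk : ∃ k, k ≠ i ∧ k ≠ j ∧ co Q e c u k ≠ 0
  swap
  · -- two coordinates: a root line
    push Not at hk
    obtain ⟨k, hk'⟩ : ∃ k, k ∈ ({a, b, i, j}ᶜ : Finset (Fin 6)) := by
      refine Finset.card_pos.1 ?_
      rw [Finset.card_compl, Fintype.card_fin]
      have := Finset.card_le_four (a := a) (b := b) (c := i) (d := j)
      omega
    simp only [Finset.mem_compl, Finset.mem_insert, Finset.mem_singleton, not_or] at hk'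
    obtain ⟨hka, hkb, hki, hkj⟩ := hk'
    obtain ⟨u', hu'⟩ := vec fun l => co Q e c u (Equiv.swap i k l)
    obtain ⟨ū, hū⟩ := vec fun l => if l = k then -co Q e c u l else co Q e c u l
    have huk := hk k hki hkj
    have hū' : ū = u := hE.ext_co fun l => by
      rw [hū]; by_cases hl : l = k
      · subst hl; simp [huk]
      · simp [hl]
    have h := key i k k (Ne.symm hki) hi'.1 hi'.2 hka hkb hka hkb u' ū hu' hū k hka hkb
    have hu'Q : Q u' = c := by
      rw [hE.Q_eq, show ∑ l, co Q e c u' l ^ 2 = 1 from ?_, mul_one]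
      rw [← sumone hQu, ← Equiv.sum_comp (Equiv.swap i k) fun l => co Q e c u l ^ 2]
      exact Finset.sum_congr rfl fun l _ => congrArg (· ^ 2) (hu' l)
    have hcol : ∀ l, co Q e c (act (refl Q u' * refl Q ū) (e k)) l =
        (if l = k then 1 else 0) - 2 * co Q e c u i * co Q e c u' l := fun l => by
      rw [co_refl_pair hX hu'Q (by rw [hū']; exact hQu), hū', hu' k, Equiv.swap_apply_right, huk]; ring
    have hval : 2 * co Q e c u i ^ 2 = 1 := by
      by_contra hne
      refine hkj (h k j ?_ ?_)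
      · rw [hcol, if_pos rfl, hu' k, Equiv.swap_apply_right]
        intro h0; exact hne (by linear_combination -h0)
      · rw [hcol, if_neg (Ne.symm hkj), hu' j, Equiv.swap_apply_of_ne_of_ne hji (Ne.symm hkj), zero_sub,
          neg_ne_zero]
        exact mul_ne_zero (mul_ne_zero hE.two hi) hj
    have hsum : co Q e c u i ^ 2 + co Q e c u j ^ 2 = 1 := by
      rw [← sumone hQu, ← Finset.sum_pair hij (f := fun l => co Q e c u l ^ 2)]
      exact Finset.sum_subset (Finset.subset_univ _) fun l _ hl => by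
        simp only [Finset.mem_insert, Finset.mem_singleton, not_or] at hl
        rw [hk l hl.1 hl.2]; ring
    set s := co Q e c u j / co Q e c u i with hsdef
    have hs : s = 1 ∨ s = -1 := by
      refine mul_self_eq_one_iff.1 ?_
      rw [hsdef]; field_simp
      linear_combination hsum - hval
    refine no_root hX hm (i := x) (a := i) (b := j) (lam := co Q e c u i) hij hs (hE.ext_co fun l => ?_)
    rw [← hudef, co_smul, co_add, co_smul, hE.co_e, hE.co_e]
    by_cases hli : l = i
    · subst hli; simp [hij]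
    by_cases hlj : l = j
    · subst hlj; simp [hji, hsdef]; field_simp
    · simp [hli, hlj, hk l hli hlj]
  -- three coordinates: impossible
  obtain ⟨k, hki, hkj, hk⟩ := hk
  have hk' : k ≠ a ∧ k ≠ b := ⟨fun h => hk (hu0 _ (Or.inl h)), fun h => hk (hu0 _ (Or.inr h))⟩
  set p := co Q e c u i with hp
  set q := co Q e c u j with hq
  set γ := co Q e c u k with hγ
  set T := 1 - 2 * (1 - p ^ 2 - q ^ 2) with hT
  obtain ⟨u', hu'⟩ := vec fun l => co Q e c u (Equiv.swap i j l)
  have hu'Q : Q u' = c := by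
    rw [hE.Q_eq, show ∑ l, co Q e c u' l ^ 2 = 1 from ?_, mul_one]
    rw [← sumone hQu, ← Equiv.sum_comp (Equiv.swap i j) fun l => co Q e c u l ^ 2]
    exact Finset.sum_congr rfl fun l _ => congrArg (· ^ 2) (hu' l)
  have case : ∀ z, (z = i ∨ z = j) → ∀ ū : ι → F,
      (∀ l, co Q e c ū l = if l = z then -co Q e c u l else co Q e c u l) →
      (co Q e c ū i + T * q ≠ 0 ∨ co Q e c ū j + T * p ≠ 0) → False := by
    intro z hz ū hū hne
    have hza : z ≠ a ∧ z ≠ b := by rcases hz with rfl | rfl <;> assumption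
    have hūQ : Q ū = c := by
      rw [hE.Q_eq, show ∑ l, co Q e c ū l ^ 2 = 1 from ?_, mul_one]
      rw [← sumone hQu]
      refine Finset.sum_congr rfl fun l _ => ?_
      rw [hū]; split_ifs <;> ring
    have hD : ∑ l, co Q e c u' l * co Q e c ū l = 1 - p ^ 2 - q ^ 2 := by
      have h : ∑ l, (co Q e c u' l * co Q e c ū l - co Q e c u l ^ 2) = -p ^ 2 - q ^ 2 := by
        rw [← Finset.sum_subset (Finset.subset_univ ({i, j} : Finset (Fin 6))) fun l _ hl => by
          simp only [Finset.mem_insert, Finset.mem_singleton, not_or] at hl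
          rw [hu', hū, Equiv.swap_apply_of_ne_of_ne hl.1 hl.2, if_neg (by rcases hz with rfl | rfl; exacts [hl.1, hl.2])]
          ring, Finset.sum_pair hij, hu', hu', hū, hū, Equiv.swap_apply_left, Equiv.swap_apply_right, ← hp, ← hq]
        rcases hz with rfl | rfl
        · rw [if_pos rfl, if_neg hji]; ring
        · rw [if_neg hij, if_pos rfl]; ring
      rw [Finset.sum_sub_distrib, sumone hQu] at h
      linear_combination h
    have hkz : k ≠ z := by rcases hz with rfl | rfl <;> assumption
    have hcol : ∀ l, co Q e c (act (refl Q u' * refl Q ū) (e k)) l =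
        (if l = k then 1 else 0) - 2 * γ * (co Q e c ū l + T * co Q e c u' l) := fun l => by
      rw [co_refl_pair hX hu'Q hūQ, hD, hu' k, Equiv.swap_apply_of_ne_of_ne hki hkj, hū k, if_neg hkz, ← hγ, hT]
      ring
    have h := key i j z hij hi'.1 hi'.2 hj'.1 hj'.2 hza.1 hza.2 u' ū hu' hū k hk'.1 hk'.2
    have hci : co Q e c ū i + T * q ≠ 0 → co Q e c (act (refl Q u' * refl Q ū) (e k)) i ≠ 0 := fun hne => by
      rw [hcol, if_neg (Ne.symm hki), hu', Equiv.swap_apply_left, ← hq, zero_sub, neg_ne_zero]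
      exact mul_ne_zero (mul_ne_zero hE.two hk) hne
    have hcj : co Q e c ū j + T * p ≠ 0 → co Q e c (act (refl Q u' * refl Q ū) (e k)) j ≠ 0 := fun hne => by
      rw [hcol, if_neg (Ne.symm hkj), hu', Equiv.swap_apply_right, ← hp, zero_sub, neg_ne_zero]
      exact mul_ne_zero (mul_ne_zero hE.two hk) hne
    have others : ∀ l, l ≠ i → l ≠ j → co Q e c (act (refl Q u' * refl Q ū) (e k)) l = 0 := fun l hli hlj => by
      by_contra h0
      rcases hne with h1 | h1
      · exact hli (h l i h0 (hci h1))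
      · exact hlj (h l j h0 (hcj h1))
    have hu'l : ∀ l, l ≠ i → l ≠ j → co Q e c u' l = co Q e c u l := fun l h1 h2 => by
      rw [hu', Equiv.swap_apply_of_ne_of_ne h1 h2]
    have hūl : ∀ l, l ≠ i → l ≠ j → co Q e c ū l = co Q e c u l := fun l h1 h2 => by
      rw [hū, if_neg (by rcases hz with rfl | rfl; exacts [h1, h2])]
    have hkk := others k hki hkj
    rw [hcol, if_pos rfl, hu'l k hki hkj, hūl k hki hkj, ← hγ] at hkk
    have hT1 : 1 + T ≠ 0 := fun h0 => one_ne_zero (α := F) (by linear_combination hkk + 2 * γ ^ 2 * h0)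
    have hsupp : ∀ l, l ≠ i → l ≠ j → l ≠ k → co Q e c u l = 0 := fun l h1 h2 h3 => by
      have h0 := others l h1 h2
      rw [hcol, if_neg h3, hu'l l h1 h2, hūl l h1 h2] at h0
      exact (mul_eq_zero.1 (show (2 * γ * (1 + T)) * co Q e c u l = 0 by linear_combination -h0)).resolve_left
        (mul_ne_zero (mul_ne_zero hE.two hk) hT1)
    have hR : γ ^ 2 = 1 - p ^ 2 - q ^ 2 := by
      have := sumone hQu
      rw [← Finset.sum_subset (Finset.subset_univ ({i, j, k} : Finset (Fin 6))) fun l _ hl => by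
        simp only [Finset.mem_insert, Finset.mem_singleton, not_or] at hl
        rw [hsupp l hl.1 hl.2.1 hl.2.2]; ring, Finset.sum_insert (by simp [hij, Ne.symm hki]),
        Finset.sum_pair (Ne.symm hkj), ← hp, ← hq, ← hγ] at this
      linear_combination this
    have hT0 : T = 0 := by
      have : (1 - 2 * γ ^ 2) ^ 2 = 0 := by linear_combination (norm := (rw [hT]; ring)) hkk + (4 * γ ^ 2) * hR
      rw [hT, ← hR]; exact pow_eq_zero_iff (by norm_num) |>.1 this
    have h1 := hci (by rw [hT0, zero_mul, add_zero, hū]; split_ifs; exacts [neg_ne_zero.2 hi, hi])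
    have h2 := hcj (by rw [hT0, zero_mul, add_zero, hū]; split_ifs; exacts [neg_ne_zero.2 hj, hj])
    exact hij (h i j h1 h2)
  obtain ⟨ū, hū⟩ := vec fun l => if l = i then -co Q e c u l else co Q e c u l
  obtain ⟨ū₂, hū₂⟩ := vec fun l => if l = j then -co Q e c u l else co Q e c u l
  by_cases h1 : co Q e c ū i + T * q = 0
  · refine case j (Or.inr rfl) ū₂ hū₂ (Or.inl fun h2 => ?_)
    rw [hū, if_pos rfl, ← hp] at h1
    rw [hū₂, if_neg hij, ← hp] at h2
    exact mul_ne_zero hE.two hi (by linear_combination h2 - h1)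
  · exact case i (Or.inl rfl) ū hū (Or.inl h1)

/-- A member centralising a sign change on two or four lines is monomial. -/
theorem pair_mono' {m : GL ι F} (hm : m ∈ M) {S : Finset (Fin 6)} (hS : S.card = 2 ∨ S.card = 4)
    (hcomm : m * flip hX.frame five_le_six S * m⁻¹ = flip hX.frame five_le_six S) : m ∈ monoGroup e := by
  classical
  rcases hS with hS | hS
  · obtain ⟨a, b, hab, rfl⟩ := Finset.card_eq_two.1 hS
    exact pair_mono hX hm hab hcomm
  obtain ⟨a, b, hab, hS'⟩ := Finset.card_eq_two.1 (show Sᶜ.card = 2 by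
    rw [Finset.card_compl, hS, Fintype.card_fin])
  refine pair_mono hX hm hab ?_
  have hU : m * flip hX.frame five_le_six Finset.univ * m⁻¹ = flip hX.frame five_le_six Finset.univ := by
    refine MaxCl.gl_ext fun y => ?_
    have : ∀ y, act (flip hX.frame five_le_six Finset.univ) y = -y := fun y =>
      (flip_negated hX.frame five_le_six).2 fun i hi => absurd (Finset.mem_univ i) hi
    rw [act_mul, act_mul, this, this, map_neg, act_act_inv]
  rw [← hS', show Sᶜ = symmDiff Finset.univ S by ext l; simp [Finset.mem_symmDiff], ← flip_mul,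
    show ∀ A B' : GL ι F, m * (A * B') * m⁻¹ = m * A * m⁻¹ * (m * B' * m⁻¹) from fun A B' => by group, hU, hcomm]

end Cfsg.Agent.MaxCl.Mono.Six
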