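/-
An overgroup of the monomial group of a frame in dimension six: a monomial conjugate of a sign change comes from
a monomial element.
-/
import Cfsg.Agent.Lib.MaxCl.Mono.SixPair

set_option autoImplicit false
set_option linter.unusedSectionVars false

namespace Cfsg.Agent.MaxCl.Mono.Six

open scoped MatrixGroups Matrix
open Orth

variable {ι : Type} [Fintype ι] [DecidableEq ι] {F : Type*} [Field F] [Finite F]
  {Q : QuadraticForm F (ι → F)} {e : Fin 6 → ι → F} {c : F}

set_option quotPrecheck false in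
local notation "B" => QuadraticMap.polar (⇑Q)

variable {M : Subgroup (GL ι F)} (hX : Ctx Q e c M)
include hX

local notation "fl" => flip hX.frame five_le_six

theorem flip_univ_act (y : ι → F) : act (fl Finset.univ) y = -y :=
  (flip_negated hX.frame five_le_six).2 fun i hi => absurd (Finset.mem_univ i) hi

theorem flip_compl (S : Finset (Fin 6)) : fl Sᶜ = fl Finset.univ * fl S := by
  rw [flip_mul]; congr 1; ext l; simp [Finset.mem_symmDiff]

/-- A member carrying a sign change on two or four lines to a sign change is monomial. -/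
theorem mono_of_conj' {g : GL ι F} (hg : g ∈ M) {S T : Finset (Fin 6)} (hS : S.card = 2 ∨ S.card = 4)
    (h : g * fl S * g⁻¹ = fl T) : g ∈ monoGroup e := by
  classical
  have hn := five_le_six
  have hcard := card_eq_of_conj hX.frame hn h
  obtain ⟨σ, hσ⟩ := exists_even_perm (n := 6) (by norm_num) T S hcard.symm
  obtain ⟨k, hk, hact, hev, -⟩ := exists_perm_map hX.frame hn σ
  have hkσ : ∀ i, ∃ s : F, s ≠ 0 ∧ act k (e i) = s • e (σ i) :=
    fun i => ⟨1, one_ne_zero, by rw [hact, one_smul]⟩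
  have hkm : k ∈ monoGroup e := ⟨σ, hkσ⟩
  have hkg : k * g * fl S * (k * g)⁻¹ = fl S := by
    rw [show k * g * fl S * (k * g)⁻¹ = k * (g * fl S * g⁻¹) * k⁻¹ by group, h,
      conj_flip hX.frame hn hkσ, hσ.2]
  have := pair_mono' hX (mul_mem (hX.lower ⟨hkm, hev hσ.1⟩) hg) hS hkg
  simpa using mul_mem (inv_mem hkm) this

omit hX in
/-- A plane vector negated by the pair reflection is a root. -/
theorem root_of_negated (hE : Frame Q e c) {z : GL ι F} {a b : Fin 6} (hab : a ≠ b) {s : F}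
    (hza : act z (e a) = s • e b) (hzb : act z (e b) = s • e a) {v : ι → F}
    (hv : ∀ l, l ≠ a → l ≠ b → co Q e c v l = 0) (hneg : act z v = -v) :
    v = co Q e c v a • (e a + (-s) • e b) := by
  have hv' : v = co Q e c v a • e a + co Q e c v b • e b := hE.ext_co fun l => by
    rw [co_add, co_smul, co_smul, hE.co_e, hE.co_e]
    by_cases hla : l = a
    · subst hla; simp [hab]
    by_cases hlb : l = b
    · subst hlb; simp [hla]
    · simp [hla, hlb, hv l hla hlb]
  have h := congrArg (co Q e c · b) hneg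
  try dsimp only at h
  rw [hv', map_add, map_smul, map_smul, hza, hzb] at h
  simp only [co_add, co_smul, co_neg, hE.co_e, ↓reduceIte, if_neg (Ne.symm hab)] at h
  have hb : co Q e c v b = -(co Q e c v a * s) := by linear_combination h
  conv_lhs => rw [hv', hb]
  module

/-- A monomial conjugate of a sign change on two lines comes from a monomial element. -/
theorem fusion_pair {g : GL ι F} (hg : g ∈ M) {a₀ b₀ : Fin 6} (hab₀ : a₀ ≠ b₀)
    (hz : g * fl {a₀, b₀} * g⁻¹ ∈ monoGroup e) : g ∈ monoGroup e := by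
  classical
  have hE := hX.frame
  have hn := five_le_six
  by_contra hgm
  set t := fl {a₀, b₀} with ht
  set z := g * t * g⁻¹ with hzdef
  have hgI := hX.iso hg
  have hzM : z ∈ M := mul_mem (mul_mem hg (flip_mem_M hE hX.lower hn (by rw [Finset.card_pair hab₀]; decide)))
    (inv_mem hg)
  have hzI := hX.iso hzM
  have hS2 : ({a₀, b₀} : Finset (Fin 6)).card = 2 := Finset.card_pair hab₀
  obtain ⟨σ, hσ⟩ := hz
  have hσ1 : σ ≠ 1 := fun h1 => by
    obtain ⟨U, hU⟩ := exists_flip_of_perm_one hE hn hzI hσ h1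
    exact hgm (mono_of_conj' hX hg (Or.inl hS2) hU)
  obtain ⟨a, ha⟩ : ∃ a, σ a ≠ a := by
    by_contra h; push Not at h; exact hσ1 (Equiv.ext h)
  have hzz : ∀ y, act z (act z y) = y := fun y => by
    rw [← act_mul, hzdef, show g * t * g⁻¹ * (g * t * g⁻¹) = g * (t * t) * g⁻¹ by group, ht, flip_mul_self, mul_one,
      mul_inv_cancel, act_one]
  have hinvol : ∀ i, σ (σ i) = i ∧ ∃ s : F, (s = 1 ∨ s = -1) ∧ act z (e i) = s • e (σ i) ∧
      act z (e (σ i)) = s • e i := fun i => by
    obtain ⟨s, hs, e1⟩ := hσ i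
    obtain ⟨s', hs', e2⟩ := hσ (σ i)
    have hs1 := sign_of_iso hE hzI e1
    have := hzz (e i)
    rw [e1, map_smul, e2, smul_smul] at this
    obtain ⟨h1, h2⟩ := hE.eq_smul (t := 1) (by rw [one_smul]; exact this) (mul_ne_zero hs hs')
    refine ⟨h1, s, hs1, e1, ?_⟩
    rw [e2, h1]
    congr 1
    rcases hs1 with rfl | rfl <;> linear_combination (norm := ring_nf) (0 : F) * h2
    · linear_combination h2
    · linear_combination -h2
  set b := σ a with hb
  have hab : a ≠ b := Ne.symm ha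
  obtain ⟨hσb, s, hs, hza, hzb⟩ := hinvol a
  rw [← hb] at hza hzb hσb
  have hs0 : s ≠ 0 := by rcases hs with rfl | rfl <;> simp
  have hss : s * s = 1 := by rcases hs with rfl | rfl <;> ring
  have neg_s : -s = 1 ∨ -s = -1 := by rcases hs with rfl | rfl <;> simp
  -- vectors negated by `z` come from the plane of `t`
  have pull : ∀ {v : ι → F}, act z v = -v → ∀ l, l ≠ a₀ → l ≠ b₀ → co Q e c (act g⁻¹ v) l = 0 :=
    fun {v} hv l h1 h2 => (flip_negated hE hn).1 (by
      rw [← map_neg, ← hv, ← ht, ← act_mul, ← act_mul, hzdef, show g⁻¹ * (g * t * g⁻¹) = t * g⁻¹ by group])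
      l (by simp [h1, h2])
  have hzg : ∀ {l}, l = a₀ ∨ l = b₀ → act z (act g (e l)) = -act g (e l) := fun {l} hl => by
    rw [← act_mul, hzdef, show g * t * g⁻¹ * g = g * t by group, act_mul, ht, act_flip,
      if_pos (by simpa using hl), map_neg]
  -- the sign change on `a, b`
  set d := fl {a, b} with hd
  have hdM : d ∈ M := flip_mem_M hE hX.lower hn (by rw [Finset.card_pair hab]; decide)
  have hzd : z * d * z⁻¹ = d := by
    rw [hd, conj_flip hE hn hσ, Finset.map_insert, Finset.map_singleton]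
    simp only [Equiv.coe_toEmbedding, ← hb, hσb]
    rw [Finset.pair_comm]
  set h := g⁻¹ * d * g with hhdef
  have hhM : h ∈ M := mul_mem (mul_mem (inv_mem hg) hdM) hg
  have hht : h * t * h⁻¹ = t := by
    rw [hhdef, show g⁻¹ * d * g * t * (g⁻¹ * d * g)⁻¹ = g⁻¹ * (d * (g * t * g⁻¹) * d⁻¹) * g by group, ← hzdef,
      show d * z * d⁻¹ = z by rw [mul_inv_eq_iff_eq_mul, ← mul_inv_eq_iff_eq_mul.1 hzd], hzdef]
    group
  obtain ⟨π, hπ⟩ := pair_mono hX hhM hab₀ hht
  have hhh : ∀ y, act h (act h y) = y := fun y => by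
    rw [← act_mul, hhdef, show g⁻¹ * d * g * (g⁻¹ * d * g) = g⁻¹ * (d * d) * g by group, hd, flip_mul_self,
      mul_one, inv_mul_cancel, act_one]
  obtain ⟨s', -, hs'⟩ := hπ a₀
  have hs'1 := sign_of_iso hE (hX.iso hhM) hs'
  have hs'0 : s' ≠ 0 := by rcases hs'1 with rfl | rfl <;> simp
  have hπa : π a₀ = a₀ ∨ π a₀ = b₀ := by
    by_contra hne
    push Not at hne
    have h1 : act t (act h (e a₀)) = -act h (e a₀) := by
      rw [← act_mul, ← mul_inv_eq_iff_eq_mul.1 hht, act_mul, ht, act_flip,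
        if_pos (Finset.mem_insert_self _ _), map_neg]
    have := (flip_negated hE hn).1 h1 (π a₀) (by simp [hne.1, hne.2])
    rw [hs', co_smul, hE.co_e, if_pos rfl, mul_one] at this
    exact hs'0 this
  set w₀ := e a + (-s) • e b with hw₀
  have hzw : act z w₀ = -w₀ := by
    rw [hw₀, map_add, map_smul, hza, hzb, smul_smul, neg_mul, hss]; module
  set p := co Q e c (act g⁻¹ w₀) a₀
  set q := co Q e c (act g⁻¹ w₀) b₀
  have hp0 : act g⁻¹ w₀ = p • e a₀ + q • e b₀ := hE.ext_co fun l => by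
    rw [co_add, co_smul, co_smul, hE.co_e, hE.co_e]
    by_cases h1 : l = a₀
    · subst h1; simp [hab₀, p]
    by_cases h2 : l = b₀
    · subst h2; simp [h1, q]
    · simp [h1, h2, pull hzw l h1 h2]
  have hw0eq : w₀ = p • act g (e a₀) + q • act g (e b₀) := by
    rw [← map_smul, ← map_smul, ← map_add, ← hp0, act_act_inv]
  have hw00 : w₀ ≠ 0 := fun h0 => by
    have h1 : co Q e c w₀ a = 0 := by rw [h0, co_zero]
    rw [hw₀, co_add, co_smul, hE.co_e, hE.co_e, if_pos rfl, if_neg hab, mul_zero, add_zero] at h1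
    exact one_ne_zero h1
  have hq0 : q ≠ 0 := fun h0 => by
    rw [h0, zero_smul, add_zero] at hw0eq
    have hp : p ≠ 0 := fun h1 => hw00 (by rw [hw0eq, h1, zero_smul])
    exact no_root hX hg hab neg_s (lam := p⁻¹) (i := a₀) (by
      rw [← hw₀, hw0eq, smul_smul, inv_mul_cancel₀ hp, one_smul])
  have hp : p ≠ 0 := fun h0 => by
    rw [h0, zero_smul, zero_add] at hw0eq
    exact no_root hX hg hab neg_s (lam := q⁻¹) (i := b₀) (by
      rw [← hw₀, hw0eq, smul_smul, inv_mul_cancel₀ hq0, one_smul])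
  have hdg : ∀ l, act d (act g (e l)) = act g (act h (e l)) := fun l => by
    rw [← act_mul, ← act_mul, hhdef]; congr 2; group
  have hdw : act d w₀ = -w₀ := by
    rw [hd, hw₀, map_add, map_smul, act_flip, act_flip, if_pos (Finset.mem_insert_self _ _),
      if_pos (by simp)]
    module
  rcases hπa with hπa | hπa
  · -- the diagonal case gives a root
    rw [hπa] at hs'
    have hs'n : s' = -1 := by
      have h1 := congrArg (fun y => co Q e c (act g⁻¹ y) a₀) hdw
      try dsimp only at h1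
      rw [hw0eq, map_add, map_smul, map_smul, hdg, hdg, ← map_smul (act g), ← map_smul (act g), ← map_add,
        act_inv_act, hs', ← map_smul (act g), ← map_smul (act g), ← map_add (act g), ← map_neg, act_inv_act] at h1
      obtain ⟨r, -, hr⟩ := hπ b₀
      have hne : π b₀ ≠ a₀ := fun h => hab₀ (π.injective (h.trans hπa.symm)).symm
      rw [hr] at h1
      simp only [co_add, co_smul, co_neg, hE.co_e, ↓reduceIte, if_neg hab₀, if_neg (Ne.symm hne), mul_zero,
        add_zero, mul_one] at h1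
      exact mul_left_cancel₀ hp (h1.trans (mul_neg_one p).symm)
    have h1 : act d (act g (e a₀)) = -act g (e a₀) := by rw [hdg, hs', hs'n, neg_one_smul, map_neg]
    have hsupp := (flip_negated hE hn).1 h1
    exact no_root hX hg hab neg_s (root_of_negated hE hab hza hzb
      (fun l h1 h2 => hsupp l (by simp [h1, h2])) (hzg (Or.inl rfl)))
  rw [hπa] at hs'
  have hs'b : act h (e b₀) = s' • e a₀ := by
    have := hhh (e a₀)
    rw [hs', map_smul] at this
    have h2 := congrArg (fun y => s' • y) this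
    simp only [smul_smul] at h2
    rw [show s' * s' = 1 by rcases hs'1 with rfl | rfl <;> ring, one_smul] at h2
    exact h2
  have hqp : q = -(s' * p) := by
    have h1 := congrArg (fun y => co Q e c (act g⁻¹ y) b₀) hdw
    try dsimp only at h1
    rw [hw0eq, map_add, map_smul, map_smul, hdg, hdg, ← map_smul (act g), ← map_smul (act g), ← map_add,
      act_inv_act, hs', hs'b, ← map_smul (act g), ← map_smul (act g), ← map_add (act g), ← map_neg,
      act_inv_act] at h1
    simp only [co_add, co_smul, co_neg, hE.co_e, ↓reduceIte, if_neg (Ne.symm hab₀), mul_zero, add_zero, zero_add,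
      mul_one] at h1
    linear_combination h1
  set f := act g (e a₀ + s' • e b₀) with hf
  have hss' : s' * s' = 1 := by rcases hs'1 with rfl | rfl <;> ring
  have hfz : act z f = -f := by
    rw [hf, map_add, map_smul, map_add, map_smul, hzg (Or.inl rfl), hzg (Or.inr rfl)]; module
  have hfd : act d f = f := by
    rw [hf, map_add, map_smul, map_add, map_smul, hdg, hdg, hs', hs'b, map_smul, map_smul, smul_smul, hss',
      one_smul, add_comm]
  have hfQ : Q f = 2 * c := by
    rw [hf, Q_act hgI, Q_add Q, hE.Qe, Q_smul Q, hE.Qe, B_smul_right Q, hE.orth _ _ hab₀, hss']; ring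
  have hf0 : ∀ l, l = a ∨ l = b → co Q e c f l = 0 := fun l hl =>
    (flip_fixed hE hn).1 hfd l (by simpa using hl)
  have uniq : ∀ v, act z v = -v → act d v = v → ∃ μ : F, v = μ • f := by
    intro v hv hv'
    refine ⟨co Q e c (act g⁻¹ v) a₀, ?_⟩
    set p' := co Q e c (act g⁻¹ v) a₀ with hp'
    set q' := co Q e c (act g⁻¹ v) b₀ with hq'
    have h0 : act g⁻¹ v = p' • e a₀ + q' • e b₀ := hE.ext_co fun l => by
      rw [co_add, co_smul, co_smul, hE.co_e, hE.co_e]
      by_cases h1 : l = a₀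
      · subst h1; simp [hab₀, hp']
      by_cases h2 : l = b₀
      · subst h2; simp [h1, hq']
      · simp [h1, h2, pull hv l h1 h2]
    have h1 : act h (act g⁻¹ v) = act g⁻¹ v := by
      rw [hhdef, ← act_mul, show g⁻¹ * d * g * g⁻¹ = g⁻¹ * d by group, act_mul, hv']
    have h2 := congrArg (co Q e c · b₀) h1
    try dsimp only at h2
    rw [h0, map_add, map_smul, map_smul, hs', hs'b] at h2
    simp only [co_add, co_smul, hE.co_e, ↓reduceIte, if_neg (Ne.symm hab₀), mul_zero, add_zero, zero_add,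
      mul_one] at h2
    rw [← act_act_inv g v, h0, hf, ← map_smul (act g), ← h2]
    congr 1
    module
  obtain ⟨i, hi⟩ : ∃ i, co Q e c f i ≠ 0 := by
    by_contra hno
    push Not at hno
    exact hE.two_c (by rw [← hfQ, hE.Q_eq, Finset.sum_eq_zero fun l _ => by rw [hno l]; ring, mul_zero])
  have hia : i ≠ a ∧ i ≠ b := ⟨fun h => hi (hf0 _ (Or.inl h)), fun h => hi (hf0 _ (Or.inr h))⟩
  obtain ⟨hσj, τ, hτ, hzi, hzj⟩ := hinvol i
  set j := σ i with hj
  have hja : j ≠ a ∧ j ≠ b := ⟨fun h => hia.2 (by rw [← hσj, h]), fun h => hia.1 (σ.injective (h.trans hb))⟩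
  by_cases hij : i = j
  · -- a frame vector in the plane gives a root for the inverse
    rw [← hij] at hzi
    have hτn : τ = -1 := by
      have h1 := B_act hzI f (e i)
      rw [hfz, hzi, B_neg_left Q, B_smul_right Q] at h1
      have h2 : B f (e i) ≠ 0 := by
        rw [B_comm Q]; intro h0; exact hi (by rw [co, h0, zero_div])
      exact mul_right_cancel₀ h2 (by linear_combination -h1)
    obtain ⟨μ, hμ⟩ := uniq (e i) (by rw [hzi, hτn, neg_one_smul]) (by
      rw [hd, act_flip, if_neg (by simp [hia.1, hia.2])])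
    refine no_root hX (inv_mem hg) hab₀ hs'1 (i := i) (lam := μ) ?_
    conv_lhs => rw [hμ, map_smul, hf, act_inv_act]
  obtain ⟨μ, hμ⟩ := uniq (e i + (-τ) • e j) (by
    rw [map_add, map_smul, hzi, hzj, smul_smul, show -τ * τ = -1 by rcases hτ with rfl | rfl <;> ring]; module) (by
    rw [hd, map_add, map_smul, act_flip, act_flip, if_neg (by simp [hia.1, hia.2]),
      if_neg (by simp [hja.1, hja.2])])
  set w₁ := e i + (-τ) • e j with hw₁
  have hττ : τ * τ = 1 := by rcases hτ with rfl | rfl <;> ring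
  have Qroot : ∀ {a b : Fin 6} {s : F}, a ≠ b → s * s = 1 → Q (e a + (-s) • e b) = 2 * c := fun {a b s} h h' => by
    rw [Q_add Q, hE.Qe, Q_smul Q, hE.Qe, B_smul_right Q, hE.orth _ _ h, neg_mul_neg, h']; ring
  have hμ1 : μ * μ = 1 := by
    have h1 := congrArg Q hμ
    rw [Qroot hij hττ, Q_smul Q, hfQ] at h1
    exact mul_right_cancel₀ hE.two_c (by rw [← h1, one_mul])
  have hp1 : p * p = 1 := by
    have h1 := congrArg Q hp0
    rw [Q_act (inv_mem hgI), Qroot hab hss, Q_add Q, Q_smul Q, Q_smul Q, hE.Qe, hE.Qe, B_smul_left Q,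
      B_smul_right Q, hE.orth _ _ hab₀, hqp] at h1
    exact mul_right_cancel₀ hE.two_c (by linear_combination -h1 - c * p * p * hss')
  -- the four vectors
  have hu : (2 : F) • act g (e a₀) = p • w₀ + μ • w₁ := by
    rw [hμ, hw0eq, hf, hqp, map_add, map_smul]
    match_scalars
    · linear_combination -hp1 - hμ1
    · linear_combination s' * hp1 - s' * hμ1
  have hu' : (2 : F) • (s' • act g (e b₀)) = (-p) • w₀ + μ • w₁ := by
    rw [hμ, hw0eq, hf, hqp, map_add, map_smul]
    match_scalars <;> first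
      | linear_combination hp1 - hμ1
      | linear_combination -s' * hp1 - s' * hμ1
  have hco : ∀ (r : F) l, co Q e c (r • w₀ + μ • w₁) l =
      r * ((if l = a then 1 else 0) + (-s) * (if l = b then 1 else 0)) +
        μ * ((if l = i then 1 else 0) + (-τ) * (if l = j then 1 else 0)) := fun r l => by
    rw [co_add, co_smul, co_smul, hw₀, hw₁, co_add, co_add, co_smul, co_smul, hE.co_e, hE.co_e, hE.co_e, hE.co_e]
  set u := act g (e a₀) with hudef
  set u' := s' • act g (e b₀) with hu'def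
  set S : Finset (Fin 6) := {a, b, i, j} with hS
  have hScard : S.card = 4 := by
    rw [hS, Finset.card_insert_of_notMem (by simp [hab, Ne.symm hia.1, Ne.symm hja.1]),
      Finset.card_insert_of_notMem (by simp [Ne.symm hia.2, Ne.symm hja.2]), Finset.card_pair hij]
  obtain ⟨x, y, hxy, hSc⟩ := Finset.card_eq_two.1 (show Sᶜ.card = 2 by
    rw [Finset.card_compl, hScard, Fintype.card_fin])
  have hxS : x ∉ S := Finset.mem_compl.1 (hSc ▸ Finset.mem_insert_self x _)
  have hyS : y ∉ S := Finset.mem_compl.1 (hSc ▸ Finset.mem_insert_of_mem (Finset.mem_singleton_self y))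
  have half : ∀ {v : ι → F} {r : F} {l}, (2 : F) • v = r • w₀ + μ • w₁ → co Q e c v l =
      (2 : F)⁻¹ * (r * ((if l = a then 1 else 0) + (-s) * (if l = b then 1 else 0)) +
        μ * ((if l = i then 1 else 0) + (-τ) * (if l = j then 1 else 0))) := fun {v r l} hv => by
    rw [← hco, ← hv, co_smul, inv_mul_cancel_left₀ hE.two]
  have huS : ∀ l ∉ S, co Q e c u l = 0 ∧ co Q e c u' l = 0 := fun l hl => by
    simp only [hS, Finset.mem_insert, Finset.mem_singleton, not_or] at hl
    rw [half hu, half hu', if_neg hl.1, if_neg hl.2.1, if_neg hl.2.2.1, if_neg hl.2.2.2]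
    simp
  have hua : co Q e c u a = 2⁻¹ * p ∧ co Q e c u' a = 2⁻¹ * -p := by
    rw [half hu, half hu']; simp [hab, Ne.symm hia.1, Ne.symm hja.1]
  have hub : co Q e c u b = 2⁻¹ * (p * -s) ∧ co Q e c u' b = 2⁻¹ * (p * s) := by
    rw [half hu, half hu']; simp [Ne.symm hab, Ne.symm hia.2, Ne.symm hja.2]
  have hui : co Q e c u i = 2⁻¹ * μ ∧ co Q e c u' i = 2⁻¹ * μ := by
    rw [half hu, half hu']; simp [hia.1, hia.2, hij]
  have huj : co Q e c u j = 2⁻¹ * (μ * -τ) ∧ co Q e c u' j = 2⁻¹ * (μ * -τ) := by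
    rw [half hu, half hu']; simp [hja.1, hja.2, Ne.symm hij]
  -- a reflection fixing `u` exchanges two signs of `u'`
  have move : ∀ P P' : Fin 6, P ≠ P' → P ∈ S → P' ∈ S → ∀ r : F, r = 1 ∨ r = -1 →
      co Q e c u P' = r * co Q e c u P → co Q e c u' P' = -(r * co Q e c u' P) →
      ∃ q : Fin 6, ∃ w : ι → F, (∀ l, co Q e c w l = if l = P then -co Q e c u' P
          else if l = P' then -co Q e c u' P' else co Q e c u' l) ∧ ∃ t : F, act g (e q) = t • w := by
    intro P P' hPP hP hP' r hr h1 h2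
    have hrr : r * r = 1 := by rcases hr with rfl | rfl <;> ring
    have hr0 : r ≠ 0 := by rcases hr with rfl | rfl <;> simp
    set v := e P + (-r) • e P' with hv
    have hQv : Q v = 2 * c := by
      rw [hv, Q_add Q, hE.Qe, Q_smul Q, hE.Qe, B_smul_right Q, hE.orth _ _ hPP, neg_mul_neg, hrr]; ring
    have hvm : refl Q v ∈ monoGroup e := by
      rcases hr with hr' | hr' <;> subst hr'
      · rw [hv, neg_one_smul, ← sub_eq_add_neg]; exact swap_mem_mono hE hPP
      · have hc := conj_refl Q (refl_mem_iso Q (e P')) (e P - e P')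
        rw [map_sub, hE.act_refl_e, hE.act_refl_e, if_neg (Ne.symm hPP), if_pos rfl, sub_neg_eq_add] at hc
        rw [hv, neg_neg, one_smul, ← hc]
        have hm : refl Q (e P') ∈ monoGroup e := isMono_of_forall hE fun l =>
          ⟨l, if P' = l then -1 else 1, by rw [hE.act_refl_e]; by_cases h : P' = l <;> simp [h]⟩
        exact mul_mem (mul_mem hm (swap_mem_mono hE hPP)) (inv_mem hm)
    set k := refl Q v * refl Q (e x - e y) with hk
    have hkM : k ∈ M := hX.lower ⟨mul_mem hvm (swap_mem_mono hE hxy), by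
      rw [omega_eq_sgGroup hE.nondegenerate (by rw [hE.card]; exact hn)]
      exact refl_mul_refl_mem hE.nondegenerate (by rw [hE.card]; exact hn) (by rw [hQv, hE.Q_sub_e hxy])⟩
    have hBv : ∀ y : ι → F, B v y = 2 * c * (co Q e c y P - r * co Q e c y P') := fun y => by
      rw [hv, B_add_left Q, B_smul_left Q, co, co]
      rw [mul_sub, mul_left_comm _ r, mul_div_cancel₀ _ hE.two_c, mul_div_cancel₀ _ hE.two_c, neg_mul, sub_eq_add_neg]
    have hBxy : ∀ {w : ι → F}, (∀ l ∉ S, co Q e c w l = 0) → act (refl Q (e x - e y)) w = w := fun {w} hw => by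
      refine act_refl_fix Q (by rw [hE.Q_sub_e hxy]; exact hE.two_c) ?_
      rw [B_sub_left Q]
      have hh : ∀ l ∉ S, B (e l) w = 0 := fun l hl => by
        have := hw l hl; rwa [co, div_eq_zero_iff, or_iff_left hE.two_c] at this
      rw [hh x hxS, hh y hyS, sub_zero]
    have hku : act k u = u := by
      rw [hk, act_mul, hBxy fun l hl => (huS l hl).1, act_refl_fix Q (by rw [hQv]; exact hE.two_c)]
      rw [hBv, h1, show co Q e c u P - r * (r * co Q e c u P) = 0 by linear_combination -co Q e c u P * hrr,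
        mul_zero]
    set m := g⁻¹ * k * g
    have hmM : m ∈ M := mul_mem (mul_mem (inv_mem hg) hkM) hg
    have hma : act m (e a₀) = (1 : F) • e a₀ := by
      rw [one_smul, act_mul, act_mul, ← hudef, hku, hudef, act_inv_act]
    obtain ⟨π', hπ'⟩ := point_mono hX hmM hma
    obtain ⟨t', ht', hmb⟩ := hπ' b₀
    refine ⟨π' b₀, act k u', fun l => ?_, t'⁻¹ * s'⁻¹, ?_⟩
    · rw [hk, act_mul, hBxy fun l hl => (huS l hl).2, act_refl Q (by rw [hQv]; exact hE.two_c), hBv, hQv,
        inv_mul_cancel_left₀ hE.two_c]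
      simp only [hv, co_sub, co_add, co_smul, hE.co_e]
      simp only [hu'def, co_smul] at h2 ⊢
      by_cases hlP : l = P
      · subst hlP; rw [if_pos rfl, if_neg hPP, if_pos rfl]
        linear_combination r * h2 - (s' * co Q e c (act g (e b₀)) l) * hrr
      by_cases hlP' : l = P'
      · subst hlP'; rw [if_neg hlP, if_pos rfl, if_neg hlP, if_pos rfl, h2]
        linear_combination (r * (s' * co Q e c (act g (e b₀)) P)) * hrr
      · rw [if_neg hlP, if_neg hlP', if_neg hlP, if_neg hlP']; ring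
    · rw [hu'def, map_smul, show k = g * m * g⁻¹ by simp [m, mul_assoc], act_mul, act_inv_act, act_mul, hmb,
        map_smul, smul_smul, smul_smul, show t'⁻¹ * s'⁻¹ * s' * t' = 1 by field_simp, one_smul]
  obtain ⟨q₁, v₁, hv₁, t₁, hq₁⟩ := move b i (Ne.symm hia.2) (by simp [hS]) (by simp [hS]) (-(p * μ * s))
    (by rcases mul_self_eq_one_iff.1 hp1 with h | h <;> rcases mul_self_eq_one_iff.1 hμ1 with h' | h' <;>
      rcases hs with h'' | h'' <;> simp [h, h', h''])
    (by rw [hui.1, hub.1]; linear_combination (-(2 : F)⁻¹ * μ * s * s) * hp1 + (-(2 : F)⁻¹ * μ) * hss)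
    (by rw [hui.2, hub.2]; linear_combination (-(2 : F)⁻¹ * μ * s * s) * hp1 + (-(2 : F)⁻¹ * μ) * hss)
  obtain ⟨q₂, v₂, hv₂, t₂, hq₂⟩ := move a i (Ne.symm hia.1) (by simp [hS]) (by simp [hS]) (p * μ)
    (by rcases mul_self_eq_one_iff.1 hp1 with h | h <;> rcases mul_self_eq_one_iff.1 hμ1 with h' | h' <;>
      simp [h, h'])
    (by rw [hui.1, hua.1]; linear_combination (-(2 : F)⁻¹ * μ) * hp1)
    (by rw [hui.2, hua.2]; linear_combination (-(2 : F)⁻¹ * μ) * hp1)
  have hv₁a : co Q e c v₁ a = 2⁻¹ * -p ∧ co Q e c v₁ b = 2⁻¹ * (p * -s) ∧ co Q e c v₁ i = 2⁻¹ * -μ ∧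
      co Q e c v₁ j = 2⁻¹ * (μ * -τ) := by
    refine ⟨?_, ?_, ?_, ?_⟩
    · rw [hv₁, if_neg hab, if_neg (Ne.symm hia.1), hua.2]
    · rw [hv₁, if_pos rfl, hub.2]; ring
    · rw [hv₁, if_neg hia.2, if_pos rfl, hui.2]; ring
    · rw [hv₁, if_neg hja.2, if_neg (Ne.symm hij), huj.2]
  have hv₂a : co Q e c v₂ a = 2⁻¹ * p ∧ co Q e c v₂ b = 2⁻¹ * (p * s) ∧ co Q e c v₂ i = 2⁻¹ * -μ ∧
      co Q e c v₂ j = 2⁻¹ * (μ * -τ) := by
    refine ⟨?_, ?_, ?_, ?_⟩
    · rw [hv₂, if_pos rfl, hua.2]; ring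
    · rw [hv₂, if_neg (Ne.symm hab), if_neg (Ne.symm hia.2), hub.2]
    · rw [hv₂, if_neg hia.1, if_pos rfl, hui.2]; ring
    · rw [hv₂, if_neg hja.1, if_neg (Ne.symm hij), huj.2]
  have ht₁ : t₁ ≠ 0 := fun h0 => hE.ne_zero q₁ (act_injective g (by rw [hq₁, h0, zero_smul, map_zero]))
  have ht₂ : t₂ ≠ 0 := fun h0 => hE.ne_zero q₂ (act_injective g (by rw [hq₂, h0, zero_smul, map_zero]))
  have hb₀ : act g (e b₀) = s' • u' := by rw [hu'def, smul_smul, hss', one_smul]
  have h2i : (2 : F)⁻¹ ≠ 0 := inv_ne_zero hE.two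
  have hμ0 : μ ≠ 0 := fun h0 => by rw [h0, mul_zero] at hμ1; exact zero_ne_one hμ1
  have dist : ∀ {l l'} {r r' : F} {A A' : ι → F}, act g (e l) = r • A → act g (e l') = r' • A' → r ≠ 0 →
      r' ≠ 0 → ∀ {P P'}, co Q e c A P ≠ 0 → co Q e c A' P = co Q e c A P → co Q e c A' P' = -co Q e c A P' →
      co Q e c A P' ≠ 0 → l ≠ l' := by
    intro l l' r r' A A' h h' hr hr' P P' hP e1 e2 hP' hll
    subst hll
    have h0 := h.symm.trans h'
    have a1 := congrArg (co Q e c · P) h0
    have a2 := congrArg (co Q e c · P') h0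
    simp only [co_smul, e1, e2] at a1 a2
    have hrr : r = r' := mul_right_cancel₀ hP a1
    rw [← hrr] at a2
    exact mul_ne_zero hE.two (mul_ne_zero hr hP') (by linear_combination a2)
  have u1 : act g (e a₀) = (1 : F) • u := (one_smul F u).symm
  have d01 : a₀ ≠ q₁ := dist u1 hq₁ one_ne_zero ht₁ (P := b) (P' := a) (by
      rw [hub.1]; exact mul_ne_zero h2i (mul_ne_zero hp (neg_ne_zero.2 hs0)))
    (by rw [hub.1, hv₁a.2.1]) (by rw [hua.1, hv₁a.1]; ring) (by rw [hua.1]; exact mul_ne_zero h2i hp)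
  have d02 : a₀ ≠ q₂ := dist u1 hq₂ one_ne_zero ht₂ (P := a) (P' := b) (by rw [hua.1]; exact mul_ne_zero h2i hp)
    (by rw [hua.1, hv₂a.1]) (by rw [hub.1, hv₂a.2.1]; ring)
    (by rw [hub.1]; exact mul_ne_zero h2i (mul_ne_zero hp (neg_ne_zero.2 hs0)))
  have d11 : b₀ ≠ q₁ := dist hb₀ hq₁ hs'0 ht₁ (P := a) (P' := b) (by
      rw [hua.2]; exact mul_ne_zero h2i (neg_ne_zero.2 hp))
    (by rw [hua.2, hv₁a.1]) (by rw [hub.2, hv₁a.2.1]; ring)
    (by rw [hub.2]; exact mul_ne_zero h2i (mul_ne_zero hp hs0))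
  have d12 : b₀ ≠ q₂ := dist hb₀ hq₂ hs'0 ht₂ (P := b) (P' := a) (by
      rw [hub.2]; exact mul_ne_zero h2i (mul_ne_zero hp hs0))
    (by rw [hub.2, hv₂a.2.1]) (by rw [hua.2, hv₂a.1]; ring) (by rw [hua.2]; exact mul_ne_zero h2i (neg_ne_zero.2 hp))
  have d22 : q₁ ≠ q₂ := dist hq₁ hq₂ ht₁ ht₂ (P := i) (P' := a) (by
      rw [hv₁a.2.2.1]; exact mul_ne_zero h2i (neg_ne_zero.2 hμ0))
    (by rw [hv₁a.2.2.1, hv₂a.2.2.1]) (by rw [hv₁a.1, hv₂a.1]; ring)
    (by rw [hv₁a.1]; exact mul_ne_zero h2i (neg_ne_zero.2 hp))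
  set U : Finset (Fin 6) := ({a₀, b₀, q₁, q₂} : Finset (Fin 6))ᶜ with hU
  have hUcard : U.card = 2 := by
    rw [hU, Finset.card_compl, Fintype.card_fin, Finset.card_insert_of_notMem (by simp [hab₀, d01, d02]),
      Finset.card_insert_of_notMem (by simp [d11, d12]), Finset.card_pair d22]
  refine hgm (mono_of_conj' hX hg (Or.inl hUcard) (T := Sᶜ) ?_)
  rw [mul_inv_eq_iff_eq_mul]
  refine hE.gl_ext fun l => ?_
  rw [act_mul, act_mul, act_flip]
  by_cases hl : l ∈ U
  · rw [if_pos hl, map_neg, eq_comm]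
    refine (flip_negated hE hn).2 fun o ho => ?_
    rw [Finset.mem_compl, not_not] at ho
    simp only [hU, Finset.mem_compl, Finset.mem_insert, Finset.mem_singleton, not_or] at hl
    have orth : ∀ {l' : Fin 6} {r : F} {A : ι → F}, l ≠ l' → act g (e l') = r • A → r ≠ 0 →
        (∀ o ∉ S, co Q e c A o = 0) → ∀ {w : ι → F}, w = act g (e l) →
        co Q e c A a * co Q e c w a + co Q e c A b * co Q e c w b +
          (co Q e c A i * co Q e c w i + co Q e c A j * co Q e c w j) = 0 := by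
      intro l' r A hll hA hr hAS w hw
      subst hw
      have h0 := B_act hgI (e l') (e l)
      rw [hA, B_smul_left Q, hE.orth l' l (Ne.symm hll)] at h0
      have h1 := (mul_eq_zero.1 h0).resolve_left hr
      rw [hE.B_eq] at h1
      have h2 := (mul_eq_zero.1 h1).resolve_left hE.two_c
      rw [← Finset.sum_subset (Finset.subset_univ S) fun o _ ho => by rw [hAS o ho, zero_mul], hS,
        Finset.sum_insert (by simp [hab, Ne.symm hia.1, Ne.symm hja.1]),
        Finset.sum_insert (by simp [Ne.symm hia.2, Ne.symm hja.2]), Finset.sum_pair hij] at h2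
      linear_combination h2
    have hvS : ∀ {P P' : Fin 6} {w : ι → F}, (∀ l, co Q e c w l = if l = P then -co Q e c u' P
          else if l = P' then -co Q e c u' P' else co Q e c u' l) → P ∈ S → P' ∈ S →
        ∀ o ∉ S, co Q e c w o = 0 := fun {P P' w} hw hP hP' o ho => by
      rw [hw, if_neg (fun h : o = P => ho (h ▸ hP)), if_neg (fun h : o = P' => ho (h ▸ hP')), (huS o ho).2]
    obtain ⟨w, hw⟩ : ∃ w, w = act g (e l) := ⟨_, rfl⟩
    have e1 := orth hl.1 u1 one_ne_zero (fun o ho => (huS o ho).1) hw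
    have e2 := orth hl.2.1 hb₀ hs'0 (fun o ho => (huS o ho).2) hw
    have e3 := orth hl.2.2.1 hq₁ ht₁ (hvS hv₁ (by simp [hS]) (by simp [hS])) hw
    have e4 := orth hl.2.2.2 hq₂ ht₂ (hvS hv₂ (by simp [hS]) (by simp [hS])) hw
    rw [hua.1, hub.1, hui.1, huj.1] at e1
    rw [hua.2, hub.2, hui.2, huj.2] at e2
    rw [hv₁a.1, hv₁a.2.1, hv₁a.2.2.1, hv₁a.2.2.2] at e3
    rw [hv₂a.1, hv₂a.2.1, hv₂a.2.2.1, hv₂a.2.2.2] at e4
    have hτ0 : τ ≠ 0 := fun h0 => by rw [h0, mul_zero] at hττ; exact zero_ne_one hττ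
    have h4 : (2 : F)⁻¹ * 2 = 1 := inv_mul_cancel₀ hE.two
    have h20 : (2 : F) ≠ 0 := hE.two
    rw [← hw]
    simp only [hS, Finset.mem_insert, Finset.mem_singleton] at ho
    rcases ho with rfl | rfl | rfl | rfl
    · refine (mul_eq_zero.1 (show (2 * p) * co Q e c w o = 0 from ?_)).resolve_left (mul_ne_zero h20 hp)
      linear_combination e1 - e2 - e3 + e4 - (2 * p * co Q e c w o) * h4
    · refine (mul_eq_zero.1 (show (2 * p * s) * co Q e c w b = 0 from ?_)).resolve_left
        (mul_ne_zero (mul_ne_zero h20 hp) hs0)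
      linear_combination -e1 + e2 - e3 + e4 - (2 * p * s * co Q e c w b) * h4
    · refine (mul_eq_zero.1 (show (2 * μ) * co Q e c w o = 0 from ?_)).resolve_left (mul_ne_zero h20 hμ0)
      linear_combination e1 + e2 - e3 - e4 - (2 * μ * co Q e c w o) * h4
    · refine (mul_eq_zero.1 (show (2 * μ * τ) * co Q e c w j = 0 from ?_)).resolve_left
        (mul_ne_zero (mul_ne_zero h20 hμ0) hτ0)
      linear_combination -e1 - e2 - e3 - e4 - (2 * μ * τ * co Q e c w j) * h4
  · rw [if_neg hl, eq_comm]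
    refine (flip_fixed hE hn).2 fun o ho => ?_
    rw [Finset.mem_compl] at ho
    simp only [hU, Finset.mem_compl, not_not, Finset.mem_insert, Finset.mem_singleton] at hl
    have hvS : ∀ {P P' : Fin 6} {w : ι → F}, (∀ l, co Q e c w l = if l = P then -co Q e c u' P
          else if l = P' then -co Q e c u' P' else co Q e c u' l) → P ∈ S → P' ∈ S →
        co Q e c w o = 0 := fun {P P' w} hw hP hP' => by
      rw [hw, if_neg (fun h : o = P => ho (h ▸ hP)), if_neg (fun h : o = P' => ho (h ▸ hP')), (huS o ho).2]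
    rcases hl with rfl | rfl | rfl | rfl
    · exact (huS o ho).1
    · rw [hb₀, co_smul, (huS o ho).2, mul_zero]
    · rw [hq₁, co_smul, hvS hv₁ (by simp [hS]) (by simp [hS]), mul_zero]
    · rw [hq₂, co_smul, hvS hv₂ (by simp [hS]) (by simp [hS]), mul_zero]

/-- A monomial conjugate of a sign change on two or four lines comes from a monomial element. -/
theorem fusion {g : GL ι F} (hg : g ∈ M) {S : Finset (Fin 6)} (hS : S.card = 2 ∨ S.card = 4)
    (hz : g * fl S * g⁻¹ ∈ monoGroup e) : g ∈ monoGroup e := by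
  classical
  rcases hS with hS | hS
  · obtain ⟨a, b, hab, rfl⟩ := Finset.card_eq_two.1 hS
    exact fusion_pair hX hg hab hz
  obtain ⟨a, b, hab, hS'⟩ := Finset.card_eq_two.1 (show Sᶜ.card = 2 by
    rw [Finset.card_compl, hS, Fintype.card_fin])
  refine fusion_pair hX hg hab ?_
  have hU : g * fl Finset.univ * g⁻¹ = fl Finset.univ := by
    refine MaxCl.gl_ext fun y => ?_
    rw [act_mul, act_mul, flip_univ_act hX, flip_univ_act hX, map_neg, act_act_inv]
  rw [← hS', flip_compl hX, show g * (fl Finset.univ * fl S) * g⁻¹ =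
    g * fl Finset.univ * g⁻¹ * (g * fl S * g⁻¹) by group, hU]
  exact mul_mem (flip_mem_mono hX.frame five_le_six _) hz

end Cfsg.Agent.MaxCl.Mono.Six
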