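/-
The stabiliser of a frame of six isometric lines is maximal in the derived orthogonal group over a prime field.
-/
import Cfsg.Agent.Lib.MaxCl.Mono.SixFusion
import Cfsg.Agent.Lib.MaxCl.Mono.Maximal
import Cfsg.Agent.Lib.MaxCl.LinearOrth

set_option autoImplicit false
set_option linter.unusedSectionVars false

namespace Cfsg.Agent.MaxCl.Mono.Six

open scoped MatrixGroups Matrix
open Orth

variable {ι : Type} [Fintype ι] [DecidableEq ι] {F : Type*} [Field F] [Finite F]
  {Q : QuadraticForm F (ι → F)} {e : Fin 6 → ι → F} {c : F}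

variable {M : Subgroup (GL ι F)} (hX : Ctx Q e c M)
include hX

local notation "fl" => flip hX.frame five_le_six

/-- The determinant of a monomial member. -/
theorem sign_prod {g : GL ι F} (hg : g ∈ M) {σ : Equiv.Perm (Fin 6)} {s : Fin 6 → F}
    (hs : ∀ i, act g (e i) = s i • e (σ i)) :
    ((Equiv.Perm.sign σ : ℤ) : F) * ∏ i, s i = 1 := by
  classical
  have hE := hX.frame
  let b := Module.Basis.mk hE.indep hE.span.ge
  have hb : ∀ i, b i = e i := fun i => Module.Basis.mk_apply hE.indep hE.span.ge i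
  have hmat : LinearMap.toMatrix b b (act g) = (Matrix.diagonal s).submatrix ⇑σ.symm id := by
    ext i j
    rw [LinearMap.toMatrix_apply, hb, hs, ← hb (σ j), map_smul, b.repr_self, Finsupp.smul_single, smul_eq_mul,
      mul_one, Matrix.submatrix_apply, id, Matrix.diagonal_apply, Finsupp.single_apply]
    by_cases h : σ j = i
    · rw [if_pos h, if_pos (by rw [← h, Equiv.symm_apply_apply]), ← h, Equiv.symm_apply_apply]
    · rw [if_neg h, if_neg (fun h' => h (by rw [← h', Equiv.apply_symm_apply]))]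
  have h1 : (g : Matrix ι ι F).det = 1 :=
    congrArg Units.val (MonoidHom.mem_ker.1 (Cfsg.Agent.MaxCl.Orth.det_sg_comm (hX.upper hg)))
  rw [← LinearMap.det_toLin', show Matrix.toLin' (g : Matrix ι ι F) = act g from rfl,
    ← LinearMap.det_toMatrix b, hmat, Matrix.det_permute, Matrix.det_diagonal, Equiv.Perm.sign_symm] at h1
  exact h1

/-- A sign change in the group has even size. -/
theorem even_of_flip_mem {U : Finset (Fin 6)} (h : fl U ∈ M) : Even U.card := by
  classical
  have h1 := sign_prod hX h (σ := 1) (s := fun i => if i ∈ U then -1 else 1) fun i => by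
    rw [act_flip]; split_ifs <;> simp
  rw [map_one, Units.val_one, Int.cast_one, one_mul, Finset.prod_ite_mem, Finset.univ_inter, Finset.prod_const]
    at h1
  by_contra hodd
  rw [(Nat.not_even_iff_odd.1 hodd).neg_one_pow] at h1
  exact hX.frame.two (by linear_combination -h1)

omit hX in
theorem card_symmDiff_pairs {A B : Finset (Fin 6)} (hA : A.card = 2) (hB : B.card = 2) (hne : A ≠ B) :
    (symmDiff A B).card = 2 ∨ (symmDiff A B).card = 4 := by
  classical
  have h : (symmDiff A B).card = (A \ B).card + (B \ A).card :=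
    Finset.card_union_of_disjoint disjoint_sdiff_sdiff
  have h1 := Finset.card_sdiff_add_card_inter A B
  have h2 := Finset.card_sdiff_add_card_inter B A
  rw [Finset.inter_comm B A] at h2
  have h3 : (A ∩ B).card < 2 := by
    by_contra h'
    refine hne (Finset.eq_of_subset_of_card_le (fun x hx => ?_) (by omega))
    have := Finset.eq_of_subset_of_card_le (Finset.inter_subset_left (s₁ := A) (s₂ := B)) (by omega)
    exact (Finset.mem_inter.1 (this.symm ▸ hx)).2
  omega

/-- An element centralising a monomial involution which moves a line is monomial. -/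
theorem involution_mono {z : GL ι F} (hzM : z ∈ M) {σ : Equiv.Perm (Fin 6)}
    (hσ : ∀ i, ∃ s : F, s ≠ 0 ∧ act z (e i) = s • e (σ i)) (hzz : z * z = 1) (hσ1 : σ ≠ 1)
    {g : GL ι F} (hg : g ∈ M) (hgz : g * z = z * g) : g ∈ monoGroup e := by
  classical
  have hE := hX.frame
  have hn := five_le_six
  choose s hs0 hs using hσ
  have hzI := hX.iso hzM
  have hs1 : ∀ i, s i = 1 ∨ s i = -1 := fun i => sign_of_iso hE hzI (hs i)
  have hinv : ∀ i, σ (σ i) = i ∧ s (σ i) * s i = 1 := fun i => by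
    have := congrArg (fun w => act w (e i)) hzz
    simp only [act_mul, act_one, hs, map_smul, smul_smul] at this
    obtain ⟨h1, h2⟩ := hE.eq_smul (t := 1) (by rw [one_smul]; exact this) (mul_ne_zero (hs0 i) (hs0 (σ i)))
    exact ⟨h1, by rw [mul_comm, h2]⟩
  obtain ⟨a, ha⟩ : ∃ a, σ a ≠ a := by
    by_contra h; push Not at h; exact hσ1 (Equiv.ext h)
  obtain ⟨x, y, hxy, hx, hy, hsxy⟩ : ∃ x y, x ≠ y ∧ σ x = x ∧ σ y = y ∧ s x = s y := by
    by_contra hno
    push Not at hno
    set P := Finset.univ.filter fun i => σ i = i with hP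
    have hσσ : σ * σ = 1 := Equiv.ext fun i => (hinv i).1
    have hP2 : P.card ≤ 2 := by
      refine le_trans (Finset.card_le_card_of_injOn s (t := ({1, -1} : Finset F)) (fun i _ => ?_)
        fun i hi j hj hij => ?_) Finset.card_le_two
      · simpa using hs1 i
      · by_contra hne
        exact hno i j hne (Finset.mem_filter.1 hi).2 (Finset.mem_filter.1 hj).2 hij
    have hct : ∀ n ∈ σ.cycleType, n = 2 := fun n hn => by
      have h1 := Equiv.Perm.two_le_of_mem_cycleType hn
      have h2 := Nat.le_of_dvd (by norm_num) ((Equiv.Perm.dvd_of_mem_cycleType hn).trans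
        (orderOf_dvd_of_pow_eq_one (show σ ^ 2 = 1 by rw [pow_two, hσσ])))
      omega
    have hsum : σ.cycleType.sum = 2 * Multiset.card σ.cycleType := by
      conv_lhs => rw [Multiset.eq_replicate_card.2 hct]
      rw [Multiset.sum_replicate, smul_eq_mul, mul_comm]
    have hsupp : σ.support.card + P.card = 6 := by
      have : σ.support = Finset.univ.filter fun i => ¬ σ i = i := by
        ext i; simp [Equiv.Perm.mem_support]
      rw [this, hP, add_comm, Finset.card_filter_add_card_filter_not, Finset.card_univ, Fintype.card_fin]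
    rw [← Equiv.Perm.sum_cycleType, hsum] at hsupp
    have hsign := sign_prod hX hzM hs
    rw [← Finset.prod_filter_mul_prod_filter_not Finset.univ (fun i => σ i = i),
      Finset.prod_involution (s := Finset.univ.filter fun i => ¬ σ i = i) (fun i _ => σ i)
        (fun i _ => by rw [mul_comm]; exact (hinv i).2) (fun i hi _ => (Finset.mem_filter.1 hi).2)
        (fun i hi => by
          rw [Finset.mem_filter] at hi ⊢
          exact ⟨Finset.mem_univ _, fun h => hi.2 (σ.injective h)⟩) (fun i _ => (hinv i).1),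
      mul_one, ← hP] at hsign
    rcases (show P.card = 0 ∨ P.card = 2 by omega) with h0 | h2
    · have hc : Multiset.card σ.cycleType = 3 := by omega
      rw [Finset.card_eq_zero.1 h0, Finset.prod_empty, Equiv.Perm.sign_of_cycleType, hsum, hc] at hsign
      norm_num at hsign
      exact hE.two (by linear_combination -hsign)
    · have hc : Multiset.card σ.cycleType = 2 := by omega
      obtain ⟨x, y, hxy, hPxy⟩ := Finset.card_eq_two.1 h2
      have hxP : x ∈ P := hPxy ▸ Finset.mem_insert_self x _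
      have hyP : y ∈ P := hPxy ▸ Finset.mem_insert_of_mem (Finset.mem_singleton_self y)
      rw [hP, Finset.mem_filter] at hxP hyP
      have hne := hno x y hxy hxP.2 hyP.2
      rw [hPxy, Finset.prod_pair hxy, Equiv.Perm.sign_of_cycleType, hsum, hc] at hsign
      norm_num at hsign
      refine hne ?_
      rcases hs1 x with h | h <;> rcases hs1 y with h' | h' <;> simp only [h, h'] at hsign ⊢ <;>
        exact absurd (show (2 : F) = 0 by linear_combination -hsign) hE.two
  set b := σ a with hb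
  have hab : a ≠ b := Ne.symm ha
  have hS₁ : ({a, b} : Finset (Fin 6)).card = 2 := Finset.card_pair hab
  have hS₂ : ({x, y} : Finset (Fin 6)).card = 2 := Finset.card_pair hxy
  have hσ' : ∀ i, ∃ r : F, r ≠ 0 ∧ act z (e i) = r • e (σ i) := fun i => ⟨s i, hs0 i, hs i⟩
  have hmap₁ : ({a, b} : Finset (Fin 6)).map σ.toEmbedding = {a, b} := by
    rw [Finset.map_insert, Finset.map_singleton]
    simp only [Equiv.coe_toEmbedding, ← hb]
    rw [show σ b = a from (hinv a).1, Finset.pair_comm]
  have hmap₂ : ({x, y} : Finset (Fin 6)).map σ.toEmbedding = {x, y} := by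
    rw [Finset.map_insert, Finset.map_singleton]
    simp only [Equiv.coe_toEmbedding, hx, hy]
  have hf₁ := flip_mem_M hE hX.lower hn (S := ({a, b} : Finset (Fin 6))) (by rw [hS₁]; decide)
  have hf₂ := flip_mem_M hE hX.lower hn (S := ({x, y} : Finset (Fin 6))) (by rw [hS₂]; decide)
  have hc₁ : Commute z (fl {a, b}) := mul_inv_eq_iff_eq_mul.1 ((conj_flip hE hn hσ' _).trans (by rw [hmap₁]))
  have hc₂ : Commute z (fl {x, y}) := mul_inv_eq_iff_eq_mul.1 ((conj_flip hE hn hσ' _).trans (by rw [hmap₂]))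
  let L : Subgroup (GL ι F) := M ⊓ Subgroup.centralizer {z}
  have memL : ∀ {w}, w ∈ L ↔ w ∈ M ∧ Commute z w := fun {w} => by
    rw [Subgroup.mem_inf, Subgroup.mem_centralizer_singleton_iff]
    exact and_congr_right fun _ => ⟨fun h => h.symm, fun h => h.symm⟩
  have hzg : Commute z g := hgz.symm
  haveI : Finite L := Finite.of_injective (fun m : L => (((m : GL ι F) : Matrix ι ι F)))
    fun a b h => Subtype.ext (Units.ext h)
  set X : L := ⟨g * fl {a, b} * g⁻¹, memL.2 ⟨mul_mem (mul_mem hg hf₁) (inv_mem hg),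
    (hzg.mul_right hc₁).mul_right hzg.inv_right⟩⟩ with hXdef
  set Y : L := ⟨fl {x, y}, memL.2 ⟨hf₂, hc₂⟩⟩ with hYdef
  have hXX : X * X = 1 := Subtype.ext (by
    show g * fl {a, b} * g⁻¹ * (g * fl {a, b} * g⁻¹) = 1
    rw [show g * fl {a, b} * g⁻¹ * (g * fl {a, b} * g⁻¹) = g * (fl {a, b} * fl {a, b}) * g⁻¹ by group,
      flip_mul_self, mul_one, mul_inv_cancel])
  have hYY : Y * Y = 1 := Subtype.ext (flip_mul_self hE hn _)
  have hne : ∀ w : L, w * X * w⁻¹ ≠ Y := fun w h => by
    obtain ⟨v, hv⟩ : ∃ v, v = (w : GL ι F) * g := ⟨_, rfl⟩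
    have hvY : v * fl {a, b} * v⁻¹ = fl {x, y} := by
      rw [hv, show (w : GL ι F) * g * fl {a, b} * ((w : GL ι F) * g)⁻¹ =
        (w : GL ι F) * (g * fl {a, b} * g⁻¹) * (w : GL ι F)⁻¹ by group]
      exact congrArg Subtype.val h
    have hvz : Commute z v := hv ▸ (memL.1 w.2).2.mul_right hzg
    have hsupp : ∀ l ∈ ({a, b} : Finset (Fin 6)), ∀ o ∉ ({x, y} : Finset (Fin 6)), co Q e c (act v (e l)) o = 0 :=
      fun l hl => (flip_negated hE hn).1 (by
        rw [← act_mul, ← hvY, inv_mul_cancel_right, act_mul, act_flip, if_pos hl, map_neg])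
    have hscal : act z (act v (e a)) = s x • act v (e a) := by
      conv_lhs => rw [← hE.repr (act v (e a)), map_sum]
      conv_rhs => rw [← hE.repr (act v (e a)), Finset.smul_sum]
      refine Finset.sum_congr rfl fun o _ => ?_
      rw [map_smul, hs, smul_smul, smul_smul]
      by_cases ho : o ∈ ({x, y} : Finset (Fin 6))
      · rw [Finset.mem_insert, Finset.mem_singleton] at ho
        rcases ho with rfl | rfl
        · rw [hx, mul_comm]
        · rw [hy, hsxy, mul_comm]
      · rw [hsupp a (Finset.mem_insert_self a _) o ho, zero_mul, mul_zero, zero_smul, zero_smul]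
    have hvz' : ∀ u : ι → F, act z (act v u) = act v (act z u) := fun u => by rw [← act_mul, ← act_mul, hvz.eq]
    rw [hvz', hs, ← map_smul] at hscal
    exact hab (hE.eq_smul (act_injective v hscal) (hs0 a)).1.symm
  obtain ⟨w', u, hw1, hwX, hwY, hYw⟩ := exists_central X Y hXX hYY hne
  have hw'M : (w' : GL ι F) ∈ M := (memL.1 w'.2).1
  have hw'mono : (w' : GL ι F) ∈ monoGroup e := pair_mono' hX hw'M (Or.inl hS₂) (by
    rw [mul_inv_eq_iff_eq_mul]; exact congrArg Subtype.val hwY)
  have hYwm : ((Y * w' : L) : GL ι F) ∈ monoGroup e := mul_mem (flip_mem_mono hE hn _) hw'mono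
  obtain ⟨U, hU, hUc⟩ : ∃ U : Finset (Fin 6), ((Y * w' : L) : GL ι F) = fl U ∧ U.card = 2 := by
    have key : ∀ (m : GL ι F), m ∈ M → ∀ S : Finset (Fin 6), S.card = 2 →
        ((Y * w' : L) : GL ι F) = m * fl S * m⁻¹ → ∃ U, ((Y * w' : L) : GL ι F) = fl U ∧ U.card = 2 := by
      intro m hm S hS heq
      obtain ⟨π, hπ⟩ := fusion hX hm (Or.inl hS) (heq ▸ hYwm)
      exact ⟨_, heq.trans (conj_flip hE hn hπ S), by rwa [Finset.card_map]⟩
    rcases hYw with h | h
    · refine key ((u : GL ι F) * g) (mul_mem (memL.1 u.2).1 hg) _ hS₁ ?_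
      rw [h]
      show (u : GL ι F) * (g * fl {a, b} * g⁻¹) * (u : GL ι F)⁻¹ = _
      group
    · refine key (u : GL ι F) (memL.1 u.2).1 _ hS₂ ?_
      rw [h]; rfl
  have hwV : (w' : GL ι F) = fl (symmDiff {x, y} U) := by
    rw [← flip_mul hE hn, ← hU]
    show _ = fl {x, y} * (fl {x, y} * (w' : GL ι F))
    rw [← mul_assoc, flip_mul_self, one_mul]
  have hUne : ({x, y} : Finset (Fin 6)) ≠ U := fun h => hw1 (Subtype.ext (by
    rw [hwV, ← h, ← flip_mul hE hn, flip_mul_self]; rfl))
  refine fusion hX hg (Or.inl hS₁) ?_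
  refine pair_mono' hX (m := g * fl {a, b} * g⁻¹) (memL.1 X.2).1 (card_symmDiff_pairs hS₂ hUc hUne) ?_
  rw [← hwV, mul_inv_eq_iff_eq_mul]
  exact (congrArg Subtype.val hwX).symm

/-- The overgroup is monomial. -/
theorem le_mono : M ≤ monoGroup e := by
  classical
  have hE := hX.frame
  have hn := five_le_six
  haveI : Finite M := Finite.of_injective (fun m : M => (((m : GL ι F) : Matrix ι ι F)))
    fun a b h => Subtype.ext (Units.ext h)
  set P : Finset (Fin 6) := {0, 1} with hP
  have hPc : P.card = 2 := Finset.card_pair (by decide)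
  have hfP := flip_mem_M hE hX.lower hn (S := P) (by rw [hPc]; decide)
  have key : ∀ s0 : GL ι F, s0 ∈ M → s0 * s0 = 1 → ∀ σ₀ : Equiv.Perm (Fin 6), σ₀ ≠ 1 →
      (∀ i, ∃ r : F, r ≠ 0 ∧ act s0 (e i) = r • e (σ₀ i)) → ∀ g ∈ M, g * s0 * g⁻¹ ∈ monoGroup e := by
    intro s0 hs0M hs00 σ₀ hσ₀ hs0 g hg
    have hnofl : ∀ v ∈ M, ∀ T : Finset (Fin 6), T.card = 2 ∨ T.card = 4 → v * s0 * v⁻¹ ≠ fl T := by
      intro v hv T hT h
      have h' : v⁻¹ * fl T * v⁻¹⁻¹ = s0 := by rw [← h]; group
      obtain ⟨π, hπ⟩ := fusion hX (inv_mem hv) hT (h'.symm ▸ ⟨σ₀, hs0⟩)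
      rw [conj_flip hE hn hπ] at h'
      exact hσ₀ (perm_unique hE hs0 fun i => ⟨if i ∈ T.map π.toEmbedding then -1 else 1, by split_ifs <;> simp,
        by rw [← h', act_flip, Equiv.Perm.one_apply]; split_ifs <;> simp⟩)
    set X : M := ⟨g * s0 * g⁻¹, mul_mem (mul_mem hg hs0M) (inv_mem hg)⟩ with hXdef
    set Y : M := ⟨fl P, hfP⟩ with hYdef
    have hXX : X * X = 1 := Subtype.ext (by
      show g * s0 * g⁻¹ * (g * s0 * g⁻¹) = 1
      rw [show g * s0 * g⁻¹ * (g * s0 * g⁻¹) = g * (s0 * s0) * g⁻¹ by group, hs00, mul_one, mul_inv_cancel])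
    have hYY : Y * Y = 1 := Subtype.ext (flip_mul_self hE hn P)
    have hne : ∀ w : M, w * X * w⁻¹ ≠ Y := fun w h => by
      refine hnofl ((w : GL ι F) * g) (mul_mem w.2 hg) P (Or.inl hPc) ?_
      have := congrArg Subtype.val h
      change (w : GL ι F) * (g * s0 * g⁻¹) * (w : GL ι F)⁻¹ = fl P at this
      rw [← this]; group
    obtain ⟨z, w, hz1, hzX, hzY, hYz⟩ := exists_central X Y hXX hYY hne
    have hzY' : (z : GL ι F) * fl P = fl P * z := congrArg Subtype.val hzY
    have hzm : (z : GL ι F) ∈ monoGroup e := pair_mono' hX z.2 (Or.inl hPc) (by rw [mul_inv_eq_iff_eq_mul, hzY'])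
    obtain ⟨σ, hσ⟩ := hzm
    have hzz : (z : GL ι F) * z = 1 := by
      have hsq : (Y * z : M) * (Y * z) = 1 := by
        rcases hYz with h | h <;> rw [h]
        · rw [show w * X * w⁻¹ * (w * X * w⁻¹) = w * (X * X) * w⁻¹ by group, hXX, mul_one, mul_inv_cancel]
        · rw [show w * Y * w⁻¹ * (w * Y * w⁻¹) = w * (Y * Y) * w⁻¹ by group, hYY, mul_one, mul_inv_cancel]
      rw [show Y * z * (Y * z) = Y * (z * Y) * z by group, hzY, ← mul_assoc, hYY, one_mul] at hsq
      exact congrArg Subtype.val hsq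
    by_cases hσ1 : σ = 1
    swap
    · exact involution_mono hX z.2 hσ hzz hσ1 X.2 (congrArg Subtype.val hzX).symm
    obtain ⟨V, hV⟩ := exists_flip_of_perm_one hE hn (hX.iso z.2) hσ hσ1
    have hVev : Even V.card := even_of_flip_mem hX (hV ▸ z.2)
    have hV0 : V ≠ ∅ := fun h => hz1 (Subtype.ext (by
      rw [hV, h]
      exact hE.gl_ext fun i => by rw [act_flip, if_neg (Finset.notMem_empty i)]; exact (act_one _).symm))
    have hV6 : V.card ≤ 6 := V.card_le_univ.trans (by simp)
    have hVpos : 0 < V.card := Finset.card_pos.2 (Finset.nonempty_iff_ne_empty.2 hV0)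
    obtain ⟨k, hk⟩ := hVev
    rcases (show V.card = 2 ∨ V.card = 4 ∨ V.card = 6 by omega) with h2 | h4 | h6
    · exact pair_mono' hX X.2 (Or.inl h2) (by
        rw [← hV, mul_inv_eq_iff_eq_mul]; exact (congrArg Subtype.val hzX).symm)
    · exact pair_mono' hX X.2 (Or.inr h4) (by
        rw [← hV, mul_inv_eq_iff_eq_mul]; exact (congrArg Subtype.val hzX).symm)
    · exfalso
      have hVu : V = Finset.univ := (Finset.card_eq_iff_eq_univ V).1 (by rw [h6, Fintype.card_fin])
      have hYz' : ((Y * z : M) : GL ι F) = fl Pᶜ := by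
        show fl P * (z : GL ι F) = _
        rw [hV, hVu, flip_mul]; congr 1
      have hPc' : Pᶜ.card = 4 := by rw [Finset.card_compl, hPc, Fintype.card_fin]
      rcases hYz with h | h
      · refine hnofl ((w : GL ι F) * g) (mul_mem w.2 hg) Pᶜ (Or.inr hPc') ?_
        rw [h] at hYz'
        change (w : GL ι F) * (g * s0 * g⁻¹) * (w : GL ι F)⁻¹ = fl Pᶜ at hYz'
        rw [← hYz']; group
      · rw [h] at hYz'
        have h' : (w : GL ι F) * fl P * (w : GL ι F)⁻¹ = fl Pᶜ := hYz'
        have := card_eq_of_conj hE hn h'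
        omega
  intro g hg
  set s0 := refl Q (e 0 - e 1) * refl Q (e 2 - e 3) with hs0def
  have h01 : (0 : Fin 6) ≠ 1 := by decide
  have h23 : (2 : Fin 6) ≠ 3 := by decide
  have hs0M : s0 ∈ M := swap_mem_M hE hX.lower hn h01 h23
  have hσ₀ : ∀ i, act s0 (e i) = e ((Equiv.swap 0 1 * Equiv.swap 2 3 : Equiv.Perm (Fin 6)) i) := fun i => by
    rw [act_mul, act_swap hE h23, act_swap hE h01]; rfl
  set S : Finset (Fin 6) := {0, 1, 2, 3} with hSdef
  have hS4 : S.card = 4 := rfl
  have hfS := flip_mem_M hE hX.lower hn (S := S) (by rw [hS4]; decide)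
  have hσ₀1 : (Equiv.swap 0 1 * Equiv.swap 2 3 : Equiv.Perm (Fin 6)) ≠ 1 := fun h => h01 (by
    have := Equiv.ext_iff.1 h 1
    simp [Equiv.swap_apply_def] at this)
  have hsig : ∀ i, ∃ r : F, r ≠ 0 ∧ act s0 (e i) = r • e ((Equiv.swap 0 1 * Equiv.swap 2 3 : Equiv.Perm (Fin 6)) i) :=
    fun i => ⟨1, one_ne_zero, by rw [hσ₀, one_smul]⟩
  have h00 : s0 * s0 = 1 := hE.gl_ext fun i => by
    rw [act_mul, hσ₀, hσ₀, act_one]
    congr 1
    revert i; decide
  have hcomm : Commute s0 (fl S) := mul_inv_eq_iff_eq_mul.1 ((conj_flip hE hn hsig S).trans (by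
    rw [show S.map (Equiv.swap 0 1 * Equiv.swap 2 3 : Equiv.Perm (Fin 6)).toEmbedding = S from by
      rw [hSdef]; decide]))
  have h1 := key s0 hs0M h00 _ hσ₀1 hsig g hg
  have h2 := key (s0 * fl S) (mul_mem hs0M hfS)
    (by rw [show s0 * fl S * (s0 * fl S) = s0 * (fl S * s0) * fl S by group, ← hcomm.eq, ← mul_assoc, h00, one_mul, flip_mul_self]) _ hσ₀1
    (fun i => ⟨if i ∈ S then -1 else 1, by split_ifs <;> simp, by
      rw [act_mul, act_flip]; split_ifs <;> simp [map_neg, hσ₀]⟩) g hg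
  refine fusion hX hg (Or.inr hS4) ?_
  have := mul_mem h1 h2
  rwa [show g * s0 * g⁻¹ * (g * (s0 * fl S) * g⁻¹) = g * (s0 * s0 * fl S) * g⁻¹ by group, h00, one_mul] at this

end Cfsg.Agent.MaxCl.Mono.Six

namespace Cfsg.Agent.MaxCl.Mono

open scoped MatrixGroups Matrix
open Orth

variable {ι : Type} [Fintype ι] [DecidableEq ι] {F : Type*} [Field F] {Q : QuadraticForm F (ι → F)}

/-- The monomial subgroup of a frame of six lines is maximal. -/
theorem maximal_of_frame_six [Finite F] {e : Fin 6 → ι → F} {c : F} (hE : Frame Q e c)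
    (hp : (Nat.card F).Prime) :
    Cfsg.Geo.IsMaximalIn (Cfsg.Geo.omegaGL Q) (monoGroup e ⊓ Cfsg.Geo.omegaGL Q) := by
  refine isMaximalIn_inf ?_ fun M hM hMΩ hout => ?_
  · by_contra h
    push Not at h
    exact omega_not_le_mono hE (by norm_num) fun g hg => h g hg
  by_contra hΩ
  obtain ⟨g, hg, hgn⟩ := hout
  exact hgn (Six.le_mono (M := M) ⟨hE, hp, hM, hMΩ, fun i₀ v X hv hX hcard hnm hvM =>
    hΩ (omega_le_of_pair hE hp (by norm_num) hM hv hX hcard hnm hvM)⟩ hg)

end Cfsg.Agent.MaxCl.Mono
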